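import Cfsg.Agent.Lib.GH2.Def
import Cfsg.Agent.Lib.FGS83.R5B

/-! GH2, package A5D -/

set_option autoImplicit false

namespace H83.G2.A5D
open Subgroup Equiv H5 H83.R4

/-- two involutions whose product rotates the four-group containing `a` -/
def Tr {n : ℕ} (a b c : Perm (Fin n)) : Prop :=
  Perm.sign a = 1 ∧ Perm.sign b = 1 ∧ Perm.sign c = 1 ∧ a * a = 1 ∧ b * b = 1 ∧ c * c = 1 ∧
    (b * c) ^ 3 = 1 ∧ b * c ≠ 1 ∧ (a * (b * c * a * (b * c)⁻¹)) ^ 2 = 1 ∧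
    a * (b * c * a * (b * c)⁻¹) = b * c * (b * c * a * (b * c)⁻¹) * (b * c)⁻¹

theorem eqns_tr : True := by
  have := @Tr.eq_1
  trivial

theorem perms {n : ℕ} (hn : 5 ≤ n) (hn' : n ≤ 8) : ∃ a b c : Perm (Fin n), Tr a b c ∧
    (a * (c * a * c⁻¹)) ^ 5 = 1 ∧ a * (c * a * c⁻¹) ≠ 1 ∧
    ((n = 5 ∧ ∃ e, Perm.sign e = -1 ∧ e * e = 1 ∧ e * a * e⁻¹ = a ∧ e * b * e⁻¹ = b ∧
      e * c * e⁻¹ = b * c * b⁻¹) ∨ ∃ b' c', Tr a b' c' ∧
      (b * c * (b' * c' * a * (b' * c')⁻¹) * (b * c)⁻¹ *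
        (b' * c' * (b * c * a * (b * c)⁻¹) * (b' * c')⁻¹)) ^ 5 = 1 ∧
      b * c * (b' * c' * a * (b' * c')⁻¹) * (b * c)⁻¹ *
        (b' * c' * (b * c * a * (b * c)⁻¹) * (b' * c')⁻¹) ≠ 1) := by
  unfold Tr
  interval_cases n
  · exact ⟨swap 0 1 * swap 2 3, swap 0 1 * swap 3 4, swap 0 2 * swap 3 4, by decide +kernel,
      by decide +kernel, by decide +kernel, Or.inl ⟨rfl, swap 0 1, by decide +kernel⟩⟩
  all_goals exact ⟨swap 0 1 * swap 2 3, swap 0 1 * swap 3 4, swap 0 2 * swap 3 4,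
    by decide +kernel, by decide +kernel, by decide +kernel,
    Or.inr ⟨swap 0 2 * swap 1 3, swap 0 4 * swap 1 5, by decide +kernel⟩⟩

theorem sq_conj {H : Type*} [Group H] (g : H) {t : H} (h : t * t = 1) :
    g * t * g⁻¹ * (g * t * g⁻¹) = 1 := by rw [conj_mul, h, mul_one, mul_inv_cancel]

section ext
variable {H : Type*} [Group H] {n : ℕ} {φ : H →* Perm (Fin n)}

/-- a central extension of the alternating group by a group of exponent three -/
structure Ex (φ : H →* Perm (Fin n)) : Prop where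
  k3 : ∀ k, φ k = 1 → k ^ 3 = 1
  cen : ∀ y, Perm.sign (φ y) = 1 → ∀ k, φ k = 1 → y * k = k * y
  ran : alternatingGroup (Fin n) ≤ φ.range

theorem ex_of [Finite H] (hr : alternatingGroup (Fin n) ≤ φ.range) (hk : Nat.card φ.ker ∣ 3) :
    Ex φ := by
  haveI : Fact (Nat.Prime 3) := ⟨by norm_num⟩
  haveI : IsCyclic φ.ker := isCyclic_of_card_dvd_prime hk
  refine ⟨fun g hg => orderOf_dvd_iff_pow_eq_one.1 ((φ.ker.orderOf_dvd_natCard hg).trans hk),
    fun y hy k hk' => ?_, hr⟩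
  let β : H →* MulAut φ.ker := MulAut.conjNormal
  have c2 : Nat.card (MulAut φ.ker) ∣ 2 := by
    rw [IsCyclic.card_mulAut]
    rcases (Nat.dvd_prime Nat.prime_three).1 hk with e | e <;> rw [e] <;> decide
  have b2 : ∀ g, β g ^ 2 = 1 := fun g =>
    orderOf_dvd_iff_pow_eq_one.1 ((_root_.orderOf_dvd_natCard _).trans c2)
  have bk : ∀ g, φ g = 1 → β g = 1 := fun g hg => MulEquiv.ext fun v => Subtype.ext (by
    have := congrArg Subtype.val ((IsCyclic.isMulCommutative (α := φ.ker)).is_comm.comm ⟨g, hg⟩ v)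
    simp only [coe_mul] at this
    show g * v * g⁻¹ = v
    rw [this, mul_inv_cancel_right])
  have hA : alternatingGroup (Fin n) ≤ β.ker.map φ := by
    rw [← Perm.closure_three_cycles_eq_alternating, closure_le]
    intro c hc
    obtain ⟨g, rfl⟩ := hr hc.mem_alternatingGroup
    refine ⟨g, ?_, rfl⟩
    have e := bk (g ^ 3) (by rw [map_pow, ← hc.orderOf, pow_orderOf_eq_one])
    rw [map_pow, pow_succ, b2, one_mul] at e
    exact e
  obtain ⟨g, hg, e⟩ := hA (Perm.mem_alternatingGroup.2 hy)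
  have e1 := bk (g⁻¹ * y) (by rw [map_mul, map_inv, e, inv_mul_cancel])
  rw [map_mul, map_inv, show β g = 1 from hg, inv_one, one_mul] at e1
  have := congrArg Subtype.val (DFunLike.congr_fun e1 ⟨k, hk'⟩)
  exact mul_inv_eq_iff_eq_mul.1 this

theorem sg (g a : H) : Perm.sign (φ (g * a * g⁻¹)) = Perm.sign (φ a) := by
  rw [map_mul, map_mul, map_inv, map_mul, map_mul, map_inv, mul_right_comm, mul_inv_cancel, one_mul]

namespace Ex
variable (h : Ex φ)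
include h

theorem one_of {k : H} (hk : φ k = 1) (h2 : k * k = 1) : k = 1 := by
  have := h.k3 k hk
  rwa [pow_succ, pow_two, h2, one_mul] at this

theorem lift {a : Perm (Fin n)} (ha : a ∈ φ.range) (h2 : a * a = 1) : ∃ t, φ t = a ∧ t * t = 1 := by
  obtain ⟨t, rfl⟩ := ha
  exact ⟨t ^ 3, by rw [map_pow, pow_succ, pow_two, h2, one_mul], by
    rw [← (Commute.refl t).mul_pow, h.k3 _ (by rw [map_mul, h2])]⟩

theorem lift' {a : Perm (Fin n)} (ha : Perm.sign a = 1) (h2 : a * a = 1) :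
    ∃ t, φ t = a ∧ t * t = 1 :=
  h.lift (h.ran (Perm.mem_alternatingGroup.2 ha)) h2

theorem uniq {s t : H} (e : φ s = φ t) (hs : Perm.sign (φ s) = 1) (s2 : s * s = 1) (t2 : t * t = 1) :
    s = t := by
  have hk : φ (s⁻¹ * t) = 1 := by rw [map_mul, map_inv, e, inv_mul_cancel]
  have c := h.cen s hs _ hk
  refine inv_mul_eq_one.1 (h.one_of hk ?_)
  rw [mul_inv_cancel_left] at c
  calc _ = s⁻¹ * (s⁻¹ * t * s) * (s⁻¹ * t) := by rw [← c]
    _ = (s * s)⁻¹ * (t * t) := by group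
    _ = 1 := by rw [s2, t2, inv_one, one_mul]

theorem dih {s t : H} {m : ℕ} (hs : Perm.sign (φ s) = 1) (s2 : s * s = 1) (t2 : t * t = 1)
    (e : (φ s * φ t) ^ m = 1) : (s * t) ^ m = 1 := by
  have hk : φ ((s * t) ^ m) = 1 := by rw [map_pow, map_mul, e]
  have c := h.cen s hs _ hk
  have i : s * (s * t) * s⁻¹ = (s * t)⁻¹ := by
    rw [mul_inv_rev, inv_eq_of_mul_eq_one_right t2, ← mul_assoc, s2, one_mul]
  have j : s * (s * t) ^ m * s⁻¹ = ((s * t) ^ m)⁻¹ := by rw [← conj_pow, i, inv_pow]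
  rw [c, mul_inv_cancel_right] at j
  exact h.one_of hk (mul_eq_one_iff_eq_inv.2 j)

/-- the four-group and the element of order three -/
theorem tri {t s u : H} (k : Tr (φ t) (φ s) (φ u)) (t2 : t * t = 1) (s2 : s * s = 1)
    (u2 : u * u = 1) : s * u * (s * u) * (s * u) = 1 ∧
      t * (s * u * t * (s * u)⁻¹) * (s * u * (s * u * t * (s * u)⁻¹) * (s * u)⁻¹) = 1 := by
  obtain ⟨k1, k2, -, -, -, -, k3, -, k4, k5⟩ := k
  refine ⟨by rw [← h.dih k2 s2 u2 k3, pow_three'], ?_⟩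
  rw [← map_mul] at k4 k5
  generalize s * u = r at *
  have e2 := sq_conj r t2
  have e3 := sq_conj r e2
  have e4 := h.dih (m := 2) k1 t2 e2 (by simpa using k4)
  rw [h.uniq (s := t * (r * t * r⁻¹)) (t := r * (r * t * r⁻¹) * r⁻¹) (by simpa using k5)
    (by simp [k1]) (by rw [← pow_two, e4]) e3, e3]

end Ex
end ext

section md
variable {V : Type*} [CommGroup V] [Finite V]

theorem card_fx {r : ℕ} [Fact r.Prime] {a : MulAut V} (ha : a ^ r = 1) {S : Subgroup V}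
    (hS : ∀ x ∈ S, a x ∈ S) : Nat.card S ≡ Nat.card ↥(S ⊓ fixedSub a) [MOD r] :=
  H13.TG.ncard_modEq ha (S : Set V) hS

theorem fx5 (c16 : Nat.card V = 16) {a : MulAut V} (h5 : a ^ 5 = 1) (h1 : a ≠ 1) :
    fixedSub a = ⊥ := by
  haveI : Fact (Nat.Prime 5) := ⟨by norm_num⟩
  have e := card_fx h5 (S := ⊤) fun _ _ => trivial
  rw [top_inf_eq, card_top, c16] at e
  have d := card_subgroup_dvd_card (fixedSub a)
  have ne : Nat.card (fixedSub a) ≠ 16 := fun e' =>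
    h1 (MulEquiv.ext fun v => (eq_top_of_card_eq _ (e'.trans c16.symm)).ge (mem_top v))
  rw [c16] at d
  rw [← card_eq_one]
  have := Nat.le_of_dvd (by norm_num) d
  generalize Nat.card (fixedSub a) = m at *
  interval_cases m <;> simp_all [Nat.ModEq]

theorem fx2 (el : ∀ v : V, v * v = 1) (c16 : Nat.card V = 16) {a : MulAut V} (h2 : a * a = 1) :
    4 ≤ Nat.card (fixedSub a) := by
  let f : V →* V := MonoidHom.id V * a.toMonoidHom
  have hf : ∀ v, f v = v * a v := fun _ => rfl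
  have k : f.ker ≤ fixedSub a := fun v hv => by
    have : v * a v = v * v := (el v).symm ▸ hv
    exact mul_left_cancel this
  have r : f.range ≤ fixedSub a := by
    rintro _ ⟨v, rfl⟩
    rw [mem_fixedSub, hf, map_mul, ← MulAut.mul_apply, h2, MulAut.one_apply, mul_comm]
  have e := f.ker.card_mul_index
  rw [index_ker, c16] at e
  have := Nat.mul_le_mul (card_le_of_le k) (card_le_of_le r)
  nlinarith

omit [Finite V] in
theorem mem_conj {g a : MulAut V} {v : V} : g v ∈ fixedSub (g * a * g⁻¹) ↔ v ∈ fixedSub a := by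
  simp [mem_fixedSub]

omit [Finite V] in
theorem card_conj (g a : MulAut V) :
    Nat.card (fixedSub (g * a * g⁻¹)) = Nat.card (fixedSub a) :=
  (Nat.card_congr (g.toEquiv.subtypeEquiv fun _ => mem_conj.symm)).symm

omit [Finite V] in
theorem le_conj {g a c : MulAut V} (h1 : fixedSub a ≤ fixedSub (g * a * g⁻¹))
    (h2 : fixedSub a ≤ fixedSub c) : fixedSub a ≤ fixedSub (g * c * g⁻¹) := fun v hv => by
  obtain ⟨w, rfl⟩ := g.surjective v
  exact mem_conj.2 (h2 (mem_conj.1 (h1 hv)))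

omit [Finite V] in
theorem inj {A B : Subgroup V} (h : A ⊓ B = ⊥) :
    Function.Injective fun p : A × B => (p.1 : V) * p.2 :=
  mul_injective_of_disjoint (disjoint_iff.2 h)

theorem fpf (el : ∀ v : V, v * v = 1) {Z : Subgroup V} {r s : MulAut V} (r3 : r * r * r = 1)
    (r1 : r ≠ 1) (rs : r * s = s * (r * r)) (c4 : Nat.card Z = 4) (hZ : ∀ v ∈ Z, r v ∈ Z)
    (sur : ∀ v, ∃ z ∈ Z, ∃ y ∈ Z, v = z * s y) {v : V} (hv : r v = v) : v = 1 := by
  haveI : Fact (Nat.Prime 3) := ⟨by norm_num⟩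
  have e := card_fx (r := 3) (by rw [pow_three', r3]) hZ
  have rs' : ∀ y, r (s y) = s (r (r y)) := fun y => DFunLike.congr_fun rs y
  have r3' : ∀ y, r (r (r y)) = y := fun y => DFunLike.congr_fun r3 y
  have le := card_le_of_le (inf_le_left : Z ⊓ fixedSub r ≤ Z)
  by_cases h : Z ⊓ fixedSub r = ⊥
  · have T : ∀ z ∈ Z, z * r z * r (r z) = 1 := fun z hz => by
      refine mem_bot.1 (h ▸ (⟨mul_mem (mul_mem hz (hZ _ hz)) (hZ _ (hZ _ hz)), ?_⟩ :
        _ ∈ Z ⊓ fixedSub r))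
      refine mem_fixedSub.2 ?_
      rw [map_mul, map_mul, r3', mul_comm, mul_assoc]
    obtain ⟨z, hz, y, hy, e⟩ := sur v
    calc v = v * r v * r (r v) := by rw [hv, hv, el, one_mul]
      _ = z * r z * r (r z) * s (y * r y * r (r y)) := by
        rw [e]; simp only [map_mul, rs', r3']; ac_rfl
      _ = 1 := by rw [T z hz, T y hy, map_one, one_mul]
  · have : Z ≤ fixedSub r := by
      rw [← card_eq_one] at h
      have p : 0 < Nat.card ↥(Z ⊓ fixedSub r) := Nat.card_pos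
      exact inf_eq_left.1 (eq_of_le_of_card_ge inf_le_left (by unfold Nat.ModEq at e; omega))
    refine absurd (MulEquiv.ext fun w => ?_) r1
    obtain ⟨z, hz, y, hy, rfl⟩ := sur w
    rw [map_mul, rs', mem_fixedSub.1 (this hz), mem_fixedSub.1 (this hy), mem_fixedSub.1 (this hy),
      MulAut.one_apply]

variable {H : Type*} [Group H] {n : ℕ} {φ : H →* Perm (Fin n)} {α : H →* MulAut V}

theorem five (h : Ex φ) (hα : Function.Injective α) (c16 : Nat.card V = 16) {s t : H}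
    (hs : Perm.sign (φ s) = 1) (s2 : s * s = 1) (t2 : t * t = 1) (e : (φ s * φ t) ^ 5 = 1)
    (e' : φ s * φ t ≠ 1) : fixedSub (α s) ⊓ fixedSub (α t) = ⊥ := by
  have := fx5 c16 (a := α (s * t)) (by rw [← map_pow, h.dih hs s2 t2 e, map_one]) fun e1 =>
    e' (by rw [← map_mul, (map_eq_one_iff α hα).1 e1, map_one])
  rw [eq_bot_iff, ← this]
  intro v hv
  rw [mem_fixedSub, map_mul, MulAut.mul_apply, mem_fixedSub.1 hv.2, mem_fixedSub.1 hv.1]

theorem main (hn : 5 ≤ n) (hn' : n ≤ 8) (h : Ex φ) (hα : Function.Injective α)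
    (el : ∀ v : V, v * v = 1) (c16 : Nat.card V = 16) :
    ∃ t ρ : H, t * t = 1 ∧ ρ * ρ * ρ = 1 ∧ t * (ρ * t * ρ⁻¹) * (ρ * (ρ * t * ρ⁻¹) * ρ⁻¹) = 1 ∧
      Nat.card (fixedSub (α t)) ≤ 4 ∧ ((∃ v, α t v = v ∧ α (ρ * t * ρ⁻¹) v ≠ v) ∨
        n = 5 ∧ (∀ v, α ρ v = v → v = 1) ∧ (∃ g v, α t v = v ∧ α t (α g v) ≠ α g v) ∧
        ((∀ g, Perm.sign (φ g) = 1) ∨
          ∃ p, p * p = 1 ∧ p * ρ * p⁻¹ * ρ = 1 ∧ p * t * p⁻¹ * t⁻¹ = 1)) := by
  obtain ⟨a, b, c, k, a5, a1, hc⟩ := perms hn hn'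
  obtain ⟨t, rfl, t2⟩ := h.lift' k.1 k.2.2.2.1
  obtain ⟨s, rfl, s2⟩ := h.lift' k.2.1 k.2.2.2.2.1
  obtain ⟨u, rfl, u2⟩ := h.lift' k.2.2.1 k.2.2.2.2.2.1
  have b0 := five h hα c16 k.1 t2 (sq_conj u t2) (by simpa using a5) (by simpa using a1)
  rw [map_mul, map_mul, map_inv] at b0
  have c4 := fx2 el c16 (a := α t) (by rw [← map_mul, t2, map_one])
  have cp : Nat.card (fixedSub (α t) × fixedSub (α u * α t * (α u)⁻¹)) =
      Nat.card (fixedSub (α t)) * Nat.card (fixedSub (α t)) := by rw [Nat.card_prod, card_conj]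
  have c4' : Nat.card (fixedSub (α t)) = 4 := by
    have := Nat.card_le_card_of_injective _ (inj b0)
    rw [cp, c16] at this
    nlinarith
  have nb : fixedSub (α t) ≠ ⊥ := fun e => by rw [e, card_bot] at c4; omega
  have nfe : ∀ {ρ : H}, (¬ ∃ v, α t v = v ∧ α (ρ * t * ρ⁻¹) v ≠ v) →
      fixedSub (α t) ≤ fixedSub (α ρ * α t * (α ρ)⁻¹) := fun {ρ} e v hv => by
    by_contra hc
    exact e ⟨v, hv, by rwa [map_mul, map_mul, map_inv]⟩
  obtain ⟨r3, pr⟩ := h.tri k t2 s2 u2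
  by_cases f1 : ∃ v, α t v = v ∧ α (s * u * t * (s * u)⁻¹) v ≠ v
  · exact ⟨t, s * u, t2, r3, pr, c4'.le, Or.inl f1⟩
  have g1 := nfe f1
  rcases hc with ⟨n5, e, e1, e2, ea, eb, ec⟩ | ⟨b', c', k', a5', a1'⟩
  · refine ⟨t, s * u, t2, r3, pr, c4'.le, Or.inr ⟨n5, fun v hv => ?_, ?_, ?_⟩⟩
    · have g2 := eq_of_le_of_card_ge g1 (card_conj _ _).le
      refine fpf el (Z := fixedSub (α t)) (s := α u) (by rw [← map_mul, ← map_mul, r3, map_one])
        (fun e => k.2.2.2.2.2.2.2.1 (by rw [← map_mul, (map_eq_one_iff α hα).1 e, map_one])) ?_ c4'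
        (fun w hw => g2 ▸ mem_conj.2 hw) (fun w => ?_) hv
      · rw [← map_mul, ← map_mul, ← map_mul, eq_inv_of_mul_eq_one_left r3, mul_assoc, u2, mul_one,
          mul_inv_rev, mul_inv_cancel_left, inv_eq_of_mul_eq_one_right s2]
      · obtain ⟨⟨z, y, hy⟩, rfl⟩ := ((inj b0).bijective_of_nat_card_le (by rw [cp, c4', c16])).2 w
        obtain ⟨y, rfl⟩ := (α u).surjective y
        exact ⟨z, z.2, y, mem_conj.1 hy, rfl⟩
    · obtain ⟨⟨v, hv⟩, v1⟩ := (ne_bot_iff_exists_ne_one).1 nb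
      refine ⟨u, v, hv, fun e => v1 (Subtype.ext ?_)⟩
      exact (map_eq_one_iff _ (α u).injective).1
        (mem_bot.1 (b0.le (mem_inf.2 ⟨e, mem_conj.2 hv⟩)))
    · by_cases ev : ∀ g, Perm.sign (φ g) = 1
      · exact Or.inl ev
      right
      push Not at ev
      obtain ⟨g, hg⟩ := ev
      have m : φ g * e ∈ φ.range := h.ran (Perm.mem_alternatingGroup.2 (by
        rw [map_mul, e1, (Int.units_eq_one_or _).resolve_left hg]; decide))
      obtain ⟨p, rfl, p2⟩ := h.lift ((mul_mem_cancel_left (⟨g, rfl⟩ : φ g ∈ φ.range)).1 m) e2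
      have pt := h.uniq (s := t) (t := p * t * p⁻¹) (by simpa using ea.symm) k.1 t2 (sq_conj p t2)
      have ps := h.uniq (s := s) (t := p * s * p⁻¹) (by simpa using eb.symm) k.2.1 s2 (sq_conj p s2)
      have pu := h.uniq (s := s * u * s⁻¹) (t := p * u * p⁻¹) (by simpa using ec.symm)
        ((sg _ _).trans k.2.2.1) (sq_conj s u2) (sq_conj p u2)
      refine ⟨p, p2, ?_, by rw [← pt, mul_inv_cancel]⟩
      rw [← conj_mul, ← ps, ← pu]
      calc _ = s * s * (u * u) := by group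
        _ = 1 := by rw [s2, u2, one_mul]
  obtain ⟨s', rfl, s2'⟩ := h.lift' k'.2.1 k'.2.2.2.2.1
  obtain ⟨u', rfl, u2'⟩ := h.lift' k'.2.2.1 k'.2.2.2.2.2.1
  obtain ⟨r3', pr'⟩ := h.tri k' t2 s2' u2'
  by_cases f2 : ∃ v, α t v = v ∧ α (s' * u' * t * (s' * u')⁻¹) v ≠ v
  · exact ⟨t, s' * u', t2, r3', pr', c4'.le, Or.inl f2⟩
  have g2 := nfe f2
  rw [← map_mul φ s u, ← map_mul φ s' u'] at a5' a1'
  generalize s * u = r at *
  generalize s' * u' = r' at *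
  have b1 := five h hα c16 ((sg _ _).trans ((sg _ _).trans k.1)) (sq_conj r (sq_conj r' t2))
    (sq_conj r' (sq_conj r t2)) (by simpa using a5') (by simpa using a1')
  simp only [map_mul, map_inv] at b1
  exact absurd (eq_bot_iff.2 (b1 ▸ le_inf (le_conj g1 g2) (le_conj g2 g1))) nb

end md

theorem el16 {X : Type*} [Group X] [Finite X] {H : Type*} [Group H] {π : X →* H}
    (hπ : Function.Surjective π) {Q : Subgroup X} (hk : ∀ g, π g = 1 ↔ g ∈ Q) (h2 : IsPGroup 2 Q)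
    (hC : centralizer (Q : Set X) ≤ Q) (h4 : SR 4 X)
    (hz : ¬ ∃ z : X, z * z = 1 ∧ z ≠ 1 ∧ ∀ g, g * z = z * g) {σ τ : H} (h1 : σ ^ 5 = 1)
    (h1' : σ ≠ 1) (h3 : τ * τ = 1) (h3' : τ ≠ 1) (h5 : τ * σ * τ⁻¹ = σ⁻¹)
    (h6 : ∀ N : Subgroup H, N.Normal → σ ∈ N → 3 ∣ Nat.card N) :
    (∀ x ∈ Q, x * x = 1) ∧ Nat.card Q = 16 := by
  haveI : Fact (Nat.Prime 3) := ⟨by norm_num⟩
  haveI hQ : Q.Normal := (Subgroup.ext hk : π.ker = Q) ▸ inferInstance
  have mv : ∀ {s : X}, s ∉ Q → ∃ x ∈ Q, s * x * s⁻¹ ≠ x := fun {s} hs => by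
    by_contra hc
    push Not at hc
    exact hs (hC (zpowers_le_cent hc (mem_zpowers s)))
  obtain ⟨y, rfl⟩ := hπ σ
  obtain ⟨s, -, s1, s2⟩ := lift_odd h2 (by decide : Odd 5) (y := y) ((hk _).1 (by rw [map_pow, h1]))
  have s3 : π y = π s := by
    have := (hk _).2 s2
    rwa [map_mul, map_inv, inv_mul_eq_one] at this
  rw [s3] at h1' h5 h6
  obtain ⟨x, hx, hx'⟩ := mv fun m => h1' ((hk s).2 m)
  obtain ⟨t, rfl⟩ := hπ τ
  obtain ⟨n, hn, e⟩ := lift_norm h2 (by decide : Odd 5) (t := t) (u := s⁻¹) s1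
    (inv_mem (mem_zpowers _)) (by rw [zpowers_inv]; exact mem_zpowers _)
    ((hk _).1 (by simp only [map_mul, map_inv, h5]; group))
  have P := P5.of h2 h4 s1 hx hx'
  have ft : π (t * n) = π t := by rw [map_mul, (hk n).2 hn, mul_one]
  have hc := cent_aux _ X rfl h4 Q s _ P e ((hk _).1 (by rw [map_mul, ft, h3]))
    fun e => h3' (ft ▸ (hk _).2 e)
  obtain ⟨⟨ρ, hρ⟩, o3⟩ := exists_prime_orderOf_dvd_card' (G := centralizer (sqs Q : Set X)) 3
    ((h6 _ (Normal.map inferInstance π hπ) (mem_map_of_mem π (zpowers_le_cent hc (mem_zpowers s)))).trans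
      (card_map_dvd _ π))
  rw [← orderOf_coe] at o3
  obtain ⟨u, hu, hu'⟩ := mv (s := ρ) fun m => by
    obtain ⟨k, hk⟩ := h2.exists_card_eq
    have := Q.orderOf_dvd_natCard m
    rw [hk, show orderOf ρ = 3 from o3] at this
    exact absurd (Nat.prime_three.dvd_of_dvd_pow this) (by decide)
  refine (P.struct hc (ρ := ρ) (o3 ▸ pow_orderOf_eq_one ρ) hu hu'
    fun f hf => conj_eq_of_cent hρ hf).resolve_right fun h32 => hz ?_
  have c2 : Nat.card (sqs Q) = 2 := by have := P.card_eq; omega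
  obtain ⟨⟨z, hz⟩, z1, uq⟩ := (Nat.card_eq_two_iff' (1 : sqs Q)).1 c2
  have z1 : z ≠ 1 := fun e => z1 (Subtype.ext e)
  refine ⟨z, (P.c2 hc).el z hz, z1, fun g => mul_inv_eq_iff_eq_mul.1 (congrArg Subtype.val
    (uq ⟨_, (sqs_normal Q).conj_mem z hz g⟩ fun e => z1 ?_))⟩
  simpa using congrArg Subtype.val e

end H83.G2.A5D

namespace H83.G2
open Subgroup Cfsg H69 H45 Gold H31.X32 H31.X32.SD H83.R4

theorem a5d {X : Type*} [Group X] [Finite X] {Q : Subgroup X} [Q.Normal] (h2 : IsPGroup 2 Q)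
    (hC : 𝐂(Q) ≤ Q) (h4 : SR 4 X) {n : ℕ} (hn : 5 ≤ n) (hn' : n ≤ 8) (φ : X ⧸ Q →* Equiv.Perm (Fin n))
    (hr : alternatingGroup (Fin n) ≤ φ.range) (hk : Nat.card φ.ker ∣ 3) :
    (∃ w, CIb Q Q w) ∨ (∃ t ρ, Tri Q t ρ ∧ Fe Q t ρ) ∨ ∃ t ρ, Nt5 Q t ρ ∧ (¬ 128 ∣ Nat.card X ∨
      ¬ 256 ∣ Nat.card X ∧ ∃ p, p * p ∈ Q ∧ p * ρ * p⁻¹ * ρ ∈ Q ∧ p * t * p⁻¹ * t⁻¹ ∈ Q) := by
  obtain ⟨σ, τ, h1, h1', h3, h3', h5, h6⟩ := H83.R5.d10 hn hn' φ hr hk
  have hπ := QuotientGroup.mk'_surjective Q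
  have hq : ∀ g, QuotientGroup.mk' Q g = 1 ↔ g ∈ Q := fun g => QuotientGroup.eq_one_iff g
  by_cases hz : ∃ z : X, z * z = 1 ∧ z ≠ 1 ∧ ∀ g, g * z = z * g
  · obtain ⟨z, zz, z1, cz⟩ := hz
    obtain ⟨s, c⟩ := H83.R5.cf_of hπ hq h2 hC h4 zz z1 cz h1 h1' h3 h3' h5 h6
    exact Or.inl ⟨z, cz, h2, le_rfl, fun v hv _ e => c.nondeg v hv fun y hy => (e y hy).symm⟩
  right
  obtain ⟨el, c16⟩ := A5D.el16 hπ hq h2 hC h4 hz h1 h1' h3 h3' h5 h6
  have hi : ∀ x ∈ Q, x⁻¹ = x := fun x hx => inv_eq_of_mul_eq_one_right (el x hx)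
  have ab : ∀ x ∈ Q, ∀ y ∈ Q, x * y = y * x := fun x hx y hy => by
    rw [← hi _ (Q.mul_mem hx hy), mul_inv_rev, hi x hx, hi y hy]
  letI : CommGroup Q := { (inferInstance : Group Q) with
    mul_comm := fun a b => Subtype.ext (ab _ a.2 _ b.2) }
  obtain ⟨α, hα⟩ : ∃ α : X ⧸ Q →* MulAut Q, ∀ g (v : Q),
      (α (QuotientGroup.mk' Q g) v : X) = g * v * g⁻¹ :=
    ⟨QuotientGroup.lift Q MulAut.conjNormal fun g hg => MulEquiv.ext fun v => Subtype.ext (by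
      show g * v * g⁻¹ = v
      rw [ab g hg v v.2, mul_inv_cancel_right]), fun _ _ => rfl⟩
  have fx : ∀ g (v : Q), α (QuotientGroup.mk' Q g) v = v ↔ g * v = v * g := fun g v => by
    rw [Subtype.ext_iff, hα, mul_inv_eq_iff_eq_mul]
  have inj : Function.Injective α := (injective_iff_map_eq_one α).2 fun g e => by
    obtain ⟨g, rfl⟩ := hπ g
    exact (hq g).2 (hC fun v hv => ((fx g ⟨v, hv⟩).1 (by rw [e]; rfl)).symm)
  obtain ⟨t, ρ, t2, r3, pr, c4, hc⟩ := A5D.main hn hn' (A5D.ex_of hr hk) inj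
    (fun v => Subtype.ext (el v v.2)) c16
  obtain ⟨t, rfl⟩ := hπ t
  obtain ⟨y, rfl⟩ := hπ ρ
  obtain ⟨ρ, -, ρ3, e⟩ := lift_odd h2 (by decide : Odd 3) (y := y)
    ((hq _).1 (by rw [map_pow, pow_three', r3]))
  rw [← hq, map_mul, map_inv, inv_mul_eq_one] at e
  rw [e] at pr hc
  have T : Tri Q t ρ := by
    refine ⟨inferInstance, el, c16, by rw [← ρ3, pow_three'], (hq _).1 (by rw [map_mul, t2]),
      (hq _).1 (by simpa only [map_mul, map_inv] using pr), le_trans ?_ c4⟩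
    refine Nat.card_le_card_of_injective (fun v => ⟨⟨v.1, v.2.1⟩,
      (fx t _).2 (mem_centralizer_singleton_iff.1 v.2.2).symm⟩) fun a b e => Subtype.ext ?_
    exact congrArg (fun v => v.1.1) e
  by_cases fe : Fe Q t ρ
  · exact Or.inl ⟨t, ρ, T, fe⟩
  rcases hc with ⟨v, v1, v2⟩ | ⟨rfl, fp, ⟨g, v, v1, v2⟩, hp⟩
  · refine absurd ⟨v, v.2, (fx t v).1 v1, fun e => v2 ?_⟩ fe
    simpa only [map_mul, map_inv] using (fx _ v).2 e
  obtain ⟨g, rfl⟩ := hπ g
  refine Or.inr ⟨t, ρ, ⟨T, fe, fun v hv e => congrArg Subtype.val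
    (fp ⟨v, hv⟩ (Subtype.ext ((hα _ _).trans e))), g, v, v.2, (fx t v).1 v1,
    fun e => v2 ((fx t _).2 (by rwa [hα]))⟩, ?_⟩
  have cX : Nat.card X = Nat.card φ.ker * Nat.card φ.range * 16 := by
    rw [card_eq_card_quotient_mul_card_subgroup Q, c16, ← index_ker, card_mul_index]
  rcases hp with ev | ⟨p, p1, p2, p3⟩
  · have : Nat.card φ.range ∣ 60 := by
      have := card_dvd_of_le (show φ.range ≤ alternatingGroup (Fin 5) by
        rintro _ ⟨g, rfl⟩; exact Equiv.Perm.mem_alternatingGroup.2 (ev g))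
      rwa [H81.A8.card_alt 5 (by omega)] at this
    exact Or.inl fun d => absurd (d.trans (cX ▸ mul_dvd_mul_right (mul_dvd_mul hk this) 16))
      (by decide)
  · have : Nat.card φ.range ∣ 120 := by
      simpa [Fintype.card_perm, Nat.factorial] using card_subgroup_dvd_card φ.range
    obtain ⟨p, rfl⟩ := hπ p
    exact Or.inr ⟨fun d => absurd (d.trans (cX ▸ mul_dvd_mul_right (mul_dvd_mul hk this) 16))
      (by decide), p, (hq _).1 (by rw [map_mul, p1]),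
      (hq _).1 (by simpa only [map_mul, map_inv] using p2),
      (hq _).1 (by simpa only [map_mul, map_inv] using p3)⟩

end H83.G2
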