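import Cfsg.Agent.Lib.GH2.Def

/-! GH2: tools for the structure `Tri` (helper35) -/

set_option autoImplicit false

namespace H83.G2
open Subgroup Cfsg H69 H45 Gold H31.X32 H31.X32.SD

variable {X : Type*} [Group X] {V : Subgroup X} {t ρ : X}

namespace Tri
variable (h : Tri V t ρ)
include h

theorem comm {a b : X} (ha : a ∈ V) (hb : b ∈ V) : a * b = b * a :=
  congrArg Subtype.val (comm_of_forall_sq (Q := V) (fun x => Subtype.ext (h.el x x.2)) ⟨a, ha⟩ ⟨b, hb⟩)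

theorem inv_eq {a : X} (ha : a ∈ V) : a⁻¹ = a := inv_eq_of_mul_eq_one_right (h.el a ha)

theorem cj {a : X} (ha : a ∈ V) (g : X) : g * a * g⁻¹ ∈ V := h.nrm.conj_mem a ha g

theorem cj' {a : X} (ha : a ∈ V) (g : X) : g⁻¹ * a * g ∈ V := h.nrm.conj_mem' a ha g

/-- conjugation on `V` depends on the coset -/
theorem cj_mul {a v : X} (ha : a ∈ V) (hv : v ∈ V) (g : X) :
    g * v * a * (g * v)⁻¹ = g * a * g⁻¹ := by
  rw [mul_assoc g v a, h.comm hv ha]; group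

theorem comm_mul {a v : X} (ha : a ∈ V) (hv : v ∈ V) (g : X) :
    g * v * a = a * (g * v) ↔ g * a = a * g := by
  rw [← mul_inv_eq_iff_eq_mul, h.cj_mul ha hv, mul_inv_eq_iff_eq_mul]

theorem rho3 (x : X) : ρ * (ρ * (ρ * x * ρ⁻¹) * ρ⁻¹) * ρ⁻¹ = x := by
  calc _ = ρ * ρ * ρ * x * (ρ * ρ * ρ)⁻¹ := by group
    _ = x := by rw [h.r3]; group

theorem card_ge [Finite X] : Nat.card (V ⊓ 𝐂[t] : Subgroup X) = 4 ∧
    ∀ w ∈ V, t * w = w * t → ∃ v ∈ V, w = v * (t * v * t⁻¹) := by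
  let f : V →* X := MonoidHom.mk' (fun v => v * (t * v * t⁻¹)) fun a b => by
    have := h.comm b.2 (h.cj a.2 t)
    calc _ = a * (b * (t * a * t⁻¹)) * (t * b * t⁻¹) := by push_cast; group
      _ = _ := by rw [this]; group
  have hf : ∀ v : V, f v = v * (t * v * t⁻¹) := fun _ => rfl
  have h1 : f.ker = (V ⊓ 𝐂[t]).subgroupOf V := by
    ext v
    rw [MonoidHom.mem_ker, hf, mem_subgroupOf, mem_inf, mem_centralizer_singleton_iff,
      mul_eq_one_iff_inv_eq, h.inv_eq v.2, eq_mul_inv_iff_mul_eq]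
    exact ⟨fun e => ⟨v.2, e⟩, fun e => e.2⟩
  have h2 : f.range ≤ V ⊓ 𝐂[t] := by
    rintro _ ⟨v, rfl⟩
    refine ⟨mul_mem v.2 (h.cj v.2 t), mem_centralizer_singleton_iff.2 ?_⟩
    have e1 := h.comm h.t2 v.2
    have e2 := h.comm v.2 (h.cj v.2 t)
    rw [hf]
    calc _ = v * (t * v * t⁻¹) * t := rfl
      _ = t * v * t⁻¹ * (v * (t * t)) * t⁻¹ := by rw [e2]; group
      _ = _ := by rw [← e1]; group
  have h3 := f.ker.card_mul_index
  rw [index_ker, h1, Nat.card_congr (subgroupOfEquivOfLe inf_le_left).toEquiv, h.c16] at h3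
  have h4 := card_le_of_le h2
  have h5 := h.c4
  have h6 : Nat.card (V ⊓ 𝐂[t] : Subgroup X) = 4 := by nlinarith
  have h7 := eq_of_le_of_card_ge h2 (by rw [h6] at h3 ⊢; omega)
  refine ⟨h6, fun w hw e => ?_⟩
  obtain ⟨v, hv⟩ := h7.ge (show w ∈ V ⊓ 𝐂[t] from ⟨hw, mem_centralizer_singleton_iff.2 e.symm⟩)
  exact ⟨v, v.2, hv.symm⟩

theorem shift {v : X} (hv : v ∈ V) : Tri V (t * v) ρ := by
  haveI := h.nrm
  have hq : ∀ x : X, x ∈ V ↔ (QuotientGroup.mk' V) x = 1 := fun x => (QuotientGroup.eq_one_iff x).symm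
  have h1 := (hq v).1 hv
  refine ⟨h.nrm, h.el, h.c16, h.r3, ?_, ?_, ?_⟩
  · simpa only [hq, map_mul, h1, mul_one] using h.t2
  · simpa only [hq, map_mul, map_inv, h1, mul_one] using h.prod
  · rw [show V ⊓ 𝐂[t * v] = V ⊓ 𝐂[t] from ?_]
    · exact h.c4
    ext w
    simp only [mem_inf, mem_centralizer_singleton_iff]
    exact and_congr_right fun hw => by rw [eq_comm, h.comm_mul hw hv, eq_comm]

theorem fe_shift {v : X} (hv : v ∈ V) : Fe V (t * v) ρ ↔ Fe V t ρ := by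
  refine exists_congr fun w => and_congr_right fun hw => and_congr (h.comm_mul hw hv t) ?_
  rw [show ρ * (t * v) * ρ⁻¹ = ρ * t * ρ⁻¹ * (ρ * v * ρ⁻¹) by group]
  exact (h.comm_mul hw (h.cj hv ρ) _).not

theorem exists_inv [Finite X] : ∃ v ∈ V, t * v * (t * v) = 1 := by
  obtain ⟨v, hv, e⟩ := h.card_ge.2 _ h.t2 (by group)
  refine ⟨v, hv, ?_⟩
  have h1 := h.cj hv t
  calc _ = t * v * t⁻¹ * (t * t) * v := by group
    _ = t * v * t⁻¹ * (t * v * t⁻¹) * (v * v) := by rw [e, h.comm hv h1]; group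
    _ = 1 := by rw [h.el _ h1, h.el _ hv, one_mul]

end Tri

end H83.G2
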