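import Cfsg.Agent.Lib.GH2.FW
import Cfsg.Agent.Lib.GH2.Tri

/-! GH2, package FE -/

set_option autoImplicit false

namespace H83.G2
open Subgroup Cfsg H69 H45 Gold H31.X32 H31.X32.SD H83.R4

namespace FE

/-- the module part -/
theorem mod {W : Type*} [CommGroup W] [Finite W] (el : ∀ w : W, w * w = 1) {A B r : W →* W}
    (AA : ∀ w, A (A w) = w) (BB : ∀ w, B (B w) = w) (AB : ∀ w, A (B w) = B (A w))
    (rA : ∀ w, r (A w) = B (r w)) (rB : ∀ w, r (B w) = A (B (r w))) (r3 : ∀ w, r (r (r w)) = w)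
    (c4 : Nat.card (A.eqLocus (MonoidHom.id W)) ≤ 4) {v : W} (hv : B (v * A v) ≠ v * A v) :
    ∃ z u : W, z ≠ 1 ∧ A z = z ∧ B z = z ∧ r z = z ∧ (∀ w, A w = w → B w = w → w = 1 ∨ w = z) ∧
      r u = u ∧ z = u * A u * B u * A (B u) := by
  have e2 : ∀ x y : W, x * (x * y) = y := fun x y => by rw [← mul_assoc, el, one_mul]
  set z := v * A v * B (v * A v) with hz
  have z1 : z ≠ 1 := fun e => hv (by rw [← e2 (v * A v) (B _), ← hz, e, mul_one])
  have Az : A z = z := by simp only [hz, map_mul, AA, AB, mul_comm, mul_left_comm]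
  have Bz : B z = z := by simp only [hz, map_mul, BB, mul_comm, mul_left_comm]
  have hI : ∀ w, A w = w → B w = w → w = 1 ∨ w = z := by
    intro w h1 h2
    by_contra hc
    push Not at hc
    have m1 : v * A v ∈ A.eqLocus (MonoidHom.id W) := by
      show A _ = v * A v
      rw [map_mul, AA, mul_comm]
    have h5 : ({1, z, w, z * w, v * A v} : Set W) ⊆ A.eqLocus (MonoidHom.id W) := by
      rintro _ (rfl | rfl | rfl | rfl | rfl)
      exacts [one_mem _, Az, h1, mul_mem (show z ∈ A.eqLocus (MonoidHom.id W) from Az) h1, m1]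
    have h6 := (Set.ncard_le_ncard h5).trans c4
    have n1 : ∀ x, B x = x → x ≠ v * A v := fun x hx e => hv (e ▸ hx)
    have n2 : z * w ≠ 1 := fun e => hc.2 (by rw [← e2 z w, e, mul_one])
    rw [Set.ncard_insert_of_notMem, Set.ncard_insert_of_notMem, Set.ncard_insert_of_notMem,
      Set.ncard_pair (n1 _ (by rw [map_mul, Bz, h2]))] at h6
    · omega
    · simp [z1, n1 w h2]
    · simp [hc.1, hc.2.symm, n1 z Bz]
    · simp [z1.symm, hc.1.symm, n2.symm, n1 1 (map_one B)]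
  have rz : r z = z := by
    have h1 : B (r z) = r z := by rw [← rA, Az]
    have h2 : A (r z) = r z := by
      have := rB z
      rw [Bz, h1] at this
      exact this.symm
    exact (hI _ h2 h1).resolve_left fun e => z1 (by rw [← r3 z, e, map_one, map_one])
  have hN : ∀ w, r (w * A w * B w * A (B w)) = r w * A (r w) * B (r w) * A (B (r w)) := fun w => by
    simp only [map_mul, rA, rB, AB, BB, mul_comm, mul_left_comm]
  have h0 : z = v * A v * B v * A (B v) := by simp only [hz, map_mul, AB, mul_assoc]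
  have h1 := hN v
  rw [← h0, rz] at h1
  have h2 := hN (r v)
  rw [← h1, rz] at h2
  refine ⟨z, v * r v * r (r v), z1, Az, Bz, rz, hI, ?_, ?_⟩
  · simp only [map_mul, r3, mul_comm, mul_left_comm]
  · calc z = z * (z * z) := by rw [el, mul_one]
      _ = _ := by
        nth_rewrite 1 [h0]; nth_rewrite 1 [h1]; nth_rewrite 1 [h2]
        simp only [map_mul, mul_assoc, mul_comm, mul_left_comm]

theorem ids {W : Type*} [CommGroup W] (el : ∀ w : W, w * w = 1) {z u p q s : W}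
    (h : z = u * p * q * s) : u * s * z = u * p * z * (u * q * z) ∧ p * s * z = u * q * z * z ∧
      q * s * z = u * p * z * z := by
  have e2 : ∀ x y : W, x * (x * y) = y := fun x y => by rw [← mul_assoc, el, one_mul]
  subst h
  refine ⟨?_, ?_, ?_⟩ <;> simp only [mul_assoc, mul_comm, mul_left_comm, e2, el, mul_one, one_mul]

theorem aux {X : Type*} [Group X] [Finite X] {V : Subgroup X} {t ρ : X} (h : Tri V t ρ)
    (tt : t * t = 1) (e : Fe V t ρ) : ∃ φ ρ' u, Xf V φ ρ' u := by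
  haveI := h.nrm
  letI : CommGroup V := { (inferInstance : Group V) with
    mul_comm := fun a b => Subtype.ext (h.comm a.2 b.2) }
  have el : ∀ w : V, w * w = 1 := fun w => Subtype.ext (h.el w w.2)
  have e2 : ∀ x y : V, x * (x * y) = y := fun x y => by rw [← mul_assoc, el, one_mul]
  obtain ⟨v1, hv1, e1, e3⟩ := e
  have hpr := h.prod
  have ρc := h.rho3 t
  obtain ⟨b, hb⟩ : ∃ b, ρ * t * ρ⁻¹ = b := ⟨_, rfl⟩
  rw [hb] at hpr ρc e3
  obtain ⟨c, hc⟩ : ∃ c, ρ * b * ρ⁻¹ = c := ⟨_, rfl⟩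
  rw [hc] at hpr ρc
  have bb : b * b = 1 := by rw [← hb, conj_mul, tt]; group
  have cc : c * c = 1 := by rw [← hc, conj_mul, bb]; group
  have ti : t⁻¹ = t := inv_eq_of_mul_eq_one_right tt
  have bi : b⁻¹ = b := inv_eq_of_mul_eq_one_right bb
  have ci : c⁻¹ = c := inv_eq_of_mul_eq_one_right cc
  let κ : X → V →* V := fun g => (MulAut.conjNormal g : MulAut V).toMonoidHom
  have hκ : ∀ g (w : V), (κ g w : X) = g * w * g⁻¹ := fun _ _ => rfl
  have cm : ∀ {g} {w : V}, κ g w = w → g * w = w * g := fun e =>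
    mul_inv_eq_iff_eq_mul.1 (congrArg Subtype.val e)
  obtain ⟨n, hn⟩ : ∃ n : V, (n : X) = t * b * c := ⟨⟨_, hpr⟩, rfl⟩
  have tb : t * b = n * c := by rw [hn, mul_assoc _ c, cc, mul_one]
  have hC : ∀ w : V, κ t (κ b w) = κ c w := fun w => Subtype.ext (by
    rw [hκ, hκ, hκ]
    calc _ = t * b * w * (t * b)⁻¹ := by group
      _ = n * (c * w * c⁻¹) * (n : X)⁻¹ := by rw [tb]; group
      _ = _ := by rw [h.comm n.2 (h.cj w.2 c), mul_inv_cancel_right])
  have inv2 : ∀ g, g * g = 1 → ∀ w : V, κ g (κ g w) = w := fun g hg w => Subtype.ext (by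
    rw [hκ, hκ]
    calc _ = g * g * w * (g * g)⁻¹ := by group
      _ = _ := by rw [hg]; group)
  have AB : ∀ w : V, κ t (κ b w) = κ b (κ t w) := fun w => by
    rw [← inv2 c cc (κ b (κ t w)), ← hC (κ b (κ t w)), inv2 b bb, inv2 t tt, hC]
  have hρ : ∀ g (w : V), κ ρ (κ g w) = κ (ρ * g * ρ⁻¹) (κ ρ w) := fun g w => Subtype.ext (by
    simp only [hκ]; group)
  have rA : ∀ w : V, κ ρ (κ t w) = κ b (κ ρ w) := fun w => by rw [hρ, hb]
  have rB : ∀ w : V, κ ρ (κ b w) = κ t (κ b (κ ρ w)) := fun w => by rw [hρ, hc, hC]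
  have r3 : ∀ w : V, κ ρ (κ ρ (κ ρ w)) = w := fun w => Subtype.ext (h.rho3 w)
  obtain ⟨v, hv, rfl⟩ := h.card_ge.2 v1 hv1 e1
  obtain ⟨z, u, z1, Az, Bz, rz, hI, ru, hu⟩ := mod el (inv2 t tt) (inv2 b bb) AB rA rB r3
    (le_trans (Nat.card_le_card_of_injective
      (fun w => (⟨w.1, w.1.2, mem_centralizer_singleton_iff.2 (cm w.2).symm⟩ :
        (V ⊓ 𝐂[t] : Subgroup X)))
      fun x y e => Subtype.ext (Subtype.ext (congrArg (fun w : (V ⊓ 𝐂[t] : Subgroup X) => (w : X)) e)))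
      h.c4) (v := ⟨v, hv⟩) fun e => e3 (cm e)
  -- the element `n` is fixed by everything
  have nc : ((n * κ c n : V) : X) = t * b * (t * b) := by
    rw [coe_mul, hκ, tb, ci]; group
  have nc' : ((n * κ c n : V) : X) = b * t * (b * t) := by
    rw [← h.inv_eq (n * κ c n).2, nc, mul_inv_rev, mul_inv_rev, ti, bi]
  have rn : κ ρ n = κ t n := Subtype.ext (by
    simp only [hκ, hn]
    calc _ = (ρ * t * ρ⁻¹) * (ρ * b * ρ⁻¹) * (ρ * c * ρ⁻¹) := by group
      _ = t * t * (b * c * t) := by rw [ρc, hb, hc, tt, one_mul]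
      _ = _ := by rw [ti]; group)
  have rrn : κ ρ (κ ρ n) = κ c n := Subtype.ext (by
    simp only [hκ, hn]
    calc _ = (ρ * (ρ * t * ρ⁻¹) * ρ⁻¹) * (ρ * (ρ * b * ρ⁻¹) * ρ⁻¹) *
        (ρ * (ρ * c * ρ⁻¹) * ρ⁻¹) := by group
      _ = _ := by rw [ρc, hb, hc, ρc]; group)
  have cn : κ c n = n := by
    rcases hI (n * κ c n) (Subtype.ext (by
      rw [hκ]
      nth_rewrite 1 [nc']
      rw [nc, ti]
      calc _ = t * b * (t * b) * (t * t) := by group
        _ = _ := by rw [tt, mul_one])) (Subtype.ext (by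
      rw [hκ]
      nth_rewrite 1 [nc]
      rw [nc', bi]
      calc _ = b * t * (b * t) * (b * b) := by group
        _ = _ := by rw [bb, mul_one])) with e | e
    · rw [← e2 n (κ c n), e, mul_one]
    · have e' : κ ρ (κ ρ n) = n * z := by rw [rrn, ← e, e2]
      have e4 : κ ρ n = n := by
        rw [← r3 (κ ρ n), r3 n, ← r3 (κ ρ n), e', map_mul, rz, map_mul, rz, e', mul_assoc, el, mul_one]
      rw [e4, e4] at e'
      exact absurd (left_eq_mul.1 e') z1
  have ρn : κ ρ n = n := by rw [← r3 (κ ρ n), rrn, cn, rrn, cn]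
  have tn : t * n = n * t := cm (rn ▸ ρn)
  have cn' : c * n = n * c := cm cn
  have bn : b * n = n * b := cm (by rw [← inv2 t tt (κ b n), hC, cn, ← rn, ρn])
  have nn : (n : X) * n = 1 := h.el _ n.2
  have sq : ∀ g : X, g * g = 1 → g * n = n * g → g * n * (g * n) = 1 := fun g hg e => by
    calc _ = g * (n * g) * n := by group
      _ = g * g * (n * n) := by rw [← e]; group
      _ = 1 := by rw [hg, nn, one_mul]
  have ρn' : ρ * n * ρ⁻¹ = n := congrArg Subtype.val ρn
  have ab : t * n * (b * n) = c * n := by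
    calc _ = t * (n * b) * n := by group
      _ = t * b * (n * n) := by rw [← bn]; group
      _ = _ := by rw [nn, mul_one, tb, cn']
  have ba : t * n * (b * n) = b * n * (t * n) := by
    rw [← inv_eq_of_mul_eq_one_right (ab ▸ sq c cc cn' : t * n * (b * n) * (t * n * (b * n)) = 1),
      mul_inv_rev, inv_eq_of_mul_eq_one_right (sq t tt tn), inv_eq_of_mul_eq_one_right (sq b bb bn)]
  have k : ∀ g (w w' : V), κ g w = w' → g * n * w = w' * (g * n) := fun g w w' e => by
    rw [← e, hκ, ← h.cj_mul w.2 n.2 g, inv_mul_cancel_right]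
  have k' : ∀ g (w w' : V), κ g w = w' * z → κ g z = z → g * n * w = w' * (g * n) * z :=
    fun g w w' e e' => by rw [k g w _ e, coe_mul, mul_assoc, ← k g z z e', ← mul_assoc]
  have Au := inv2 t tt u
  have ABu := AB u
  obtain ⟨i1, i2, i3⟩ := ids el hu
  obtain ⟨φ, f1, f2, f3, -, f5⟩ := fw (z := (z : X)) (a := t * n) (b := b * n)
    (v := (u * κ t u * z : V)) (w := (u * κ b u * z : V)) (ρ := ρ) (h.el _ z.2) (sq t tt tn)
    (h.el _ (Subtype.prop _)) (k t z z Az).symm (h.comm z.2 (Subtype.prop _))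
    (congrArg Subtype.val rz) (by rw [← hb, ← conj_mul, ρn']) (by rw [ab, ← hc, ← conj_mul, ρn'])
    (congrArg Subtype.val (show κ ρ (u * κ t u * z) = u * κ b u * z by
      rw [map_mul, map_mul, rz, rA, ru]))
    (congrArg Subtype.val (show κ ρ (u * κ b u * z) = u * κ t u * z * (u * κ b u * z) by
      rw [map_mul, map_mul, rz, rB, ru, i1]))
    ba (h.comm (Subtype.prop _) (Subtype.prop _))
    (k _ _ _ (by rw [map_mul, map_mul, Az, Au, mul_comm (κ t u)]))
    (k' _ _ _ (by rw [map_mul, map_mul, Az, i2]) Az)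
    (k' _ _ _ (by rw [map_mul, map_mul, Bz, ← ABu, i3]) Bz)
  have cu : ∀ w : V, (u : X) * w * (u : X)⁻¹ = w := fun w => by
    rw [h.comm u.2 w.2, mul_inv_cancel_right]
  have cv : ∀ g : X, g * g = 1 → (u : X) * (g * n) * (u : X)⁻¹ = g * n * (u * κ g u * z : V) * z :=
    fun g hg => by
      have e5 := k g _ _ (inv2 g hg u)
      rw [← e5, h.inv_eq u.2, mul_assoc, mul_assoc (g * n)]
      congr 1
      exact congrArg Subtype.val (show κ g u * u = u * κ g u * z * z by
        rw [mul_assoc, el, mul_one, mul_comm])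
  obtain ⟨-, ⟨x, hx⟩, ⟨y, hy⟩, -⟩ := (f3 φ.range).1 le_rfl
  refine ⟨φ, ρ, u, f1 ▸ fun e => z1 (Subtype.ext e), f2, u.2, h.el _ u.2,
    f5 u (cu _) (cu _) (cu _) (cv t tt) (cv b bb), fun w hw e => ?_⟩
  have a1 := e x
  have a2 := e y
  rw [hx, h.comm_mul hw n.2] at a1
  rw [hy, h.comm_mul hw n.2] at a2
  rw [f1]
  exact (hI ⟨w, hw⟩ (Subtype.ext (mul_inv_eq_iff_eq_mul.2 a1))
    (Subtype.ext (mul_inv_eq_iff_eq_mul.2 a2))).imp (congrArg Subtype.val) (congrArg Subtype.val)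

end FE

theorem Tri.fe {X : Type*} [Group X] [Finite X] {V : Subgroup X} {t ρ : X} (h : Tri V t ρ)
    (e : Fe V t ρ) : ∃ φ ρ' u, Xf V φ ρ' u := by
  obtain ⟨v, hv, tt⟩ := h.exists_inv
  exact FE.aux (h.shift hv) tt ((h.fe_shift hv).2 e)

end H83.G2
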