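import Cfsg.Agent.Lib.GH2.Def
import Cfsg.Agent.Lib.FGS83.R4A
import Cfsg.Agent.S0205

/-! GH2, package LINK -/

set_option autoImplicit false
set_option linter.unusedSectionVars false

namespace H83.G2
open Subgroup Cfsg H69 H45 Gold H31.X32 H31.X32.SD H83.R4

variable {G X : Type*} [Group G] [Finite G] [Group X] {V : Subgroup G} {f : 𝐍(V) →* X}

namespace LINK

/-- a nontrivial 2-subgroup contains an involution of its centre -/
theorem exists_cen {S : Subgroup G} (hS : IsPGroup 2 S) (h : S ≠ ⊥) :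
    ∃ z ∈ S, orderOf z = 2 ∧ ∀ x ∈ S, x * z = z * x := by
  have : Fact (Nat.Prime 2) := ⟨Nat.prime_two⟩
  have h1 := inf_centralizer_ne_bot hS hS le_normalizer h
  obtain ⟨z, hz⟩ := exists_prime_orderOf_dvd_card' (G := (S ⊓ 𝐂(S) : Subgroup G)) 2
    (dvd_card_of_ne_bot (hS.to_le inf_le_left) h1)
  exact ⟨z, z.2.1, by rw [← hz, orderOf_coe], z.2.2⟩

variable (h : Loc V f)
include h

theorem imD : im f 𝐍(V) = ⊤ := by rw [im_dom, MonoidHom.range_eq_top.2 h.surj]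

theorem lift1 (x : X) : ∃ a ∈ 𝐍(V), ap f a = x := (mem_im_of_le f le_rfl).1 (imD h ▸ mem_top x)

theorem kb {B : Subgroup G} (hB : IsPGroup 2 B) : B ⊓ kerOf f = ⊥ := by
  rw [inf_comm]; exact h.odd.inf_eq_bot hB

theorem injV {a b : G} (ha : a ∈ V) (hb : b ∈ V) (e : ap f a = ap f b) : a = b :=
  (injm_ap_eq_iff f le_normalizer (kb h h.two) ha hb).1 e

theorem memQ {a : G} (ha : a ∈ V) : ap f a ∈ pCore 2 X := h.img ▸ ap_mem_im f ha

theorem ofQ {x : X} (hx : x ∈ pCore 2 X) : ∃ a ∈ V, ap f a = x :=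
  (mem_im_of_le f le_normalizer).1 (h.img ▸ hx)

theorem lift {K : Subgroup X} (hK : IsPGroup 2 K) (hQ : pCore 2 X ≤ K) :
    ∃ B ≤ 𝐍(V), IsPGroup 2 B ∧ V ≤ B ∧ im f B = K := by
  have : Fact (Nat.Prime 2) := ⟨Nat.prime_two⟩
  obtain ⟨B, hB⟩ := exists_isSylowIn 2 (pre f K)
  have e := morphim_pSylow f (pre_le_dom f K) hB
  rw [morphpreK f (imD h ▸ le_top)] at e
  have hD := hB.le.trans (pre_le_dom f K)
  exact ⟨B, hD, hB.isP, hB.le_of_le_normalizer h.two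
    ((sub_morphim_pre f le_normalizer).1 (h.img ▸ hQ)) hD, (e.max K e.le le_rfl hK).symm⟩

theorem memV {B : Subgroup G} (hD : B ≤ 𝐍(V)) (h2 : IsPGroup 2 B) (hV : V ≤ B) {b : G} (hb : b ∈ B)
    (e : ap f b ∈ pCore 2 X) : b ∈ V :=
  (mem_injm f hD (kb h h2) hV hb).1 (h.img ▸ e)

theorem sc {T : Subgroup G} (h2 : IsPGroup 2 T) (hV : V ≤ T) {x : G} (hx : x ∈ T) (hc : x ∈ 𝐂(V)) :
    x ∈ V :=
  memV h (B := T ⊓ 𝐍(V)) inf_le_right (h2.to_le inf_le_left) (le_inf hV le_normalizer)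
    ⟨hx, centralizer_le_normalizer _ hc⟩ (h.cen (h.img ▸ morphim_cent f V (ap_mem_im f hc)))

theorem ne_bot : V ≠ ⊥ := fun e => by
  have e1 : pCore 2 X = ⊥ := by rw [← h.img]; exact (morphimS f e.le).trans (im_bot f).le |> le_bot_iff.1
  have : Subsingleton X := ⟨fun x y => by
    have k : ∀ x : X, x = 1 := fun x => mem_bot.1 (e1 ▸ h.cen (by
      rw [e1]; intro y hy; rw [mem_bot.1 hy, one_mul, mul_one]))
    rw [k x, k y]⟩
  exact h.ns inferInstance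

theorem z0 {B : Subgroup G} (h2 : IsPGroup 2 B) (hV : V ≤ B) :
    ∃ z ∈ V, IsTwoCentralInvolution z ∧ ∀ b ∈ B, b * z = z * b := by
  obtain ⟨S, hS⟩ := h2.exists_le_sylow
  obtain ⟨z, hz, o, c⟩ := exists_cen S.isPGroup' fun e => ne_bot h (le_bot_iff.1 (e ▸ hV.trans hS))
  exact ⟨z, sc h S.isPGroup' (hV.trans hS) hz fun v hv => c v (hS (hV hv)), ⟨o, S, hz, c⟩,
    fun b hb => c b (hS hb)⟩

theorem cenN {w : G} (hw : w ∈ V) (c : ∀ x, x * ap f w = ap f w * x) {n : G} (hn : n ∈ 𝐍(V)) :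
    n * w = w * n :=
  mul_inv_eq_iff_eq_mul.1 (injV h (conj_mem_of_mem_normalizer hn hw) hw (by
    rw [ap_conj f (le_normalizer hw) hn, c, mul_inv_cancel_right]))

theorem fin (g : Gl G) {w : G} (hw : w ∈ V) (t : IsTwoCentralInvolution w)
    (c : ∀ x, x * ap f w = ap f w * x) : False := by
  have := g.sol w t
  have le : 𝐍(V) ≤ 𝐂[w] := fun n hn => mem_centralizer_singleton_iff.2 (cenN h hw c hn)
  have : Group.IsSolvable 𝐍(V) :=
    Group.isSolvable_of_isSolvable_injective (f := inclusion le) (inclusion_injective le)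
  exact h.ns (Group.isSolvable_of_surjective h.surj)

theorem syl {B : Subgroup G} (hD : B ≤ 𝐍(V)) (h2 : IsPGroup 2 B) (hK : IsSylowIn 2 (im f B) ⊤) :
    IsSylowIn 2 B 𝐍(V) :=
  ⟨hD, h2, fun R h1 h3 h4 => (injm_inj f h3 (kb h h4) le_rfl h1).1
    (hK.max _ (morphimS f h1) le_top (morphim_isPGroup f h4))⟩

theorem le_syl {K : Subgroup X} (hK : IsSylowIn 2 K ⊤) : pCore 2 X ≤ K := by
  have := Finite.of_surjective f h.surj
  have : Fact (Nat.Prime 2) := ⟨Nat.prime_two⟩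
  exact hK.le_of_le_normalizer H1.isPGroup_pCore le_top le_normalizer_of_normal

theorem exists_hom {B : Subgroup G} (hD : B ≤ 𝐍(V)) (h2 : IsPGroup 2 B) {L : Type*} [Group L]
    (l : L →* X) (hl : l.range ≤ im f B) : ∃ m : L →* G, ∀ u, m u ∈ B ∧ ap f (m u) = l u := by
  let e := imEquiv f hD (kb h h2)
  refine ⟨B.subtype.comp (e.symm.toMonoidHom.comp (l.codRestrict _ fun u => hl ⟨u, rfl⟩)),
    fun u => ⟨(e.symm _).2, ?_⟩⟩
  exact (coe_imEquiv f hD (kb h h2) _).symm.trans (congrArg Subtype.val (e.apply_symm_apply _))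

end LINK

open LINK

namespace Loc
variable (h : Loc V f)
include h

theorem sr (g : Gl G) : SR 4 X := (g.sr.subgroup _).of_surjective f h.surj

theorem dvd : Nat.card X ∣ Nat.card G :=
  (card_dvd_of_surjective f h.surj).trans (card_subgroup_dvd_card _)

/-- involutions with the same image are conjugate -/
theorem conj_of {a b : G} (ha : a ∈ 𝐍(V)) (hb : b ∈ 𝐍(V)) (a2 : a * a = 1) (b2 : b * b = 1)
    (e : ap f a = ap f b) : ∃ k, k * a * k⁻¹ = b := by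
  have := (ap_eq_ap_iff f ha hb).1 e
  rw [inv_eq_of_mul_eq_one_right a2] at this
  exact ⟨_, (H9.exists_pow_conj_of_odd a2 b2 (h.odd.odd this)).choose_spec⟩

theorem ci_a (g : Gl G) {w : X} (c : CIa (pCore 2 X) w) : False := by
  have : Fact (Nat.Prime 2) := ⟨Nat.prime_two⟩
  obtain ⟨K, hK⟩ := exists_isSylowIn 2 (⊤ : Subgroup X)
  obtain ⟨B, hD, h2, hV, rfl⟩ := lift h hK.isP (le_syl h hK)
  have ab : ∀ a ∈ V, ∀ b ∈ V, a * b = b * a := fun a ha b hb =>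
    injV h (mul_mem ha hb) (mul_mem hb ha) (by
      rw [ap_mul f (le_normalizer ha) (le_normalizer hb), ap_mul f (le_normalizer hb) (le_normalizer ha),
        c.ab _ (memQ h ha) _ (memQ h hb)])
  have le : 𝐍(B) ≤ 𝐍(V) := fun n hn => mem_normalizer_of_cj_le fun v' hv' => by
    obtain ⟨v, hv, rfl⟩ := mem_cj'.1 hv'
    have m := conj_mem_of_mem_normalizer hn (hV hv)
    refine memV h hD h2 hV m (c.cen _ fun u u2 => ?_)
    obtain ⟨a, ha, rfl⟩ := ofQ h (c.inv u u2)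
    have a2 : a * a = 1 := injV h (mul_mem ha ha) (one_mem _) (by
      rw [ap_mul f (le_normalizer ha) (le_normalizer ha), u2, ap_one])
    have m' := conj_mem_of_mem_normalizer' hn (hV ha)
    have k := ab v hv _ (memV h hD h2 hV m' (c.inv _ (by
      rw [← ap_mul f (hD m') (hD m'), show n⁻¹ * a * n * (n⁻¹ * a * n) = n⁻¹ * (a * a) * n by group, a2,
        mul_one, inv_mul_cancel, ap_one])))
    rw [← ap_mul f (hD m) (le_normalizer ha), ← ap_mul f (le_normalizer ha) (hD m)]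
    congr 1
    calc n * v * n⁻¹ * a = n * (v * (n⁻¹ * a * n)) * n⁻¹ := by group
      _ = _ := by rw [k]; group
  obtain ⟨S, rfl⟩ := (isSylowIn_of_normalizer le_top ((syl h hD h2 hK).mono
    (le_inf le_top le_normalizer) (inf_le_right.trans le))).exists_sylow_top
  obtain ⟨a, ha, rfl⟩ := ofQ h (c.inv w c.w2)
  refine fin h g ha ⟨H9.orderOf_eq_two_of_mul_self (fun e => c.w1 (by rw [e, ap_one]))
    (injV h (mul_mem ha ha) (one_mem _) ?_), S, hV ha, fun x hx => cenN h ha c.cw (hD hx)⟩ c.cw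
  rw [ap_mul f (le_normalizer ha) (le_normalizer ha), c.w2, ap_one]

theorem ci_b (g : Gl G) {K : Subgroup X} {w : X} (c : CIb (pCore 2 X) K w) : False := by
  obtain ⟨B, hD, h2, hV, rfl⟩ := lift h c.two c.le
  obtain ⟨z, hz, t, cz⟩ := z0 h h2 hV
  have zN := le_normalizer hz
  rcases c.uniq _ (memQ h hz) (by rw [← ap_mul f zN zN, H9.mul_self_of_orderOf_two t.1, ap_one])
    (fun k hk => by
      obtain ⟨b, hb, rfl⟩ := (mem_im_of_le f hD).1 hk
      rw [← ap_mul f (hD hb) zN, ← ap_mul f zN (hD hb), cz b hb]) with e | e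
  · exact H9.ne_one_of_orderOf_two t.1 (injV h hz (one_mem _) (e.trans (ap_one f).symm))
  · exact fin h g hz t (e ▸ c.cw)

/-- lifting a frame -/
theorem link {K : Subgroup X} (hK : IsPGroup 2 K) (hQ : pCore 2 X ≤ K) {φ : EP →* X} (z1 : φ zP ≠ 1)
    (hφ : φ.range ≤ K)
    (hz : ∀ w ∈ pCore 2 X, (∀ k ∈ K, k * w = w * k) → w = 1 ∨ w = φ zP) :
    ∃ (B : Subgroup G) (ψ : EP →* G), B ≤ 𝐍(V) ∧ IsPGroup 2 B ∧ V ≤ B ∧ im f B = K ∧
      (∀ a ∈ B, ∀ b ∈ B, ap f a = ap f b → a = b) ∧ (∀ u, ψ u ∈ B ∧ ap f (ψ u) = φ u) ∧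
      IsTwoCentralInvolution (ψ zP) ∧ (∀ b ∈ B, b * ψ zP = ψ zP * b) ∧
      (∀ (x : X) (ν : SD EP WP), R φ x ν → ∃ a ∈ 𝐍(V), ap f a = x ∧ R ψ a ν) ∧
      (∀ a ∈ B, ∀ ν : SD EP WP, R φ (ap f a) ν → R ψ a ν) ∧
      (IsSylowIn 2 K ⊤ → IsSylowIn 2 B 𝐍(V)) := by
  have := Finite.of_surjective f h.surj
  obtain ⟨B, hD, h2, hV, rfl⟩ := lift h hK hQ
  obtain ⟨ψ, hψ⟩ := exists_hom h hD h2 φ hφ
  have inj : ∀ a ∈ B, ∀ b ∈ B, ap f a = ap f b → a = b := fun a ha b hb =>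
    (injm_ap_eq_iff f hD (kb h h2) ha hb).1
  obtain ⟨z, hz', t, cz⟩ := z0 h h2 hV
  have zN := le_normalizer hz'
  have ez : z = ψ zP := by
    rcases hz _ (memQ h hz') (fun k hk => by
      obtain ⟨b, hb, rfl⟩ := (mem_im_of_le f hD).1 hk
      rw [← ap_mul f (hD hb) zN, ← ap_mul f zN (hD hb), cz b hb]) with e | e
    · exact absurd (injV h hz' (one_mem _) (e.trans (ap_one f).symm)) (H9.ne_one_of_orderOf_two t.1)
    · exact inj _ (hV hz') _ (hψ _).1 (e.trans (hψ _).2.symm)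
  have key : ∀ a ∈ 𝐍(V), (∀ u, a * ψ u * a⁻¹ ∈ B) → ∀ ν : SD EP WP, R φ (ap f a) ν → R ψ a ν :=
    fun a ha hm ν r u => inj _ (hm u) _ (hψ _).1 (by
      rw [ap_conj f (hD (hψ u).1) ha, (hψ _).2, (hψ _).2, r u])
  refine ⟨B, ψ, hD, h2, hV, rfl, inj, hψ, ez ▸ t, ez ▸ cz, fun x ν r => ?_, fun a ha =>
    key a (hD ha) fun u => mul_mem (mul_mem ha (hψ u).1) (inv_mem ha), syl h hD h2⟩
  have le : ψ.range ≤ B := by rintro _ ⟨u, rfl⟩; exact (hψ u).1
  have p := h2.to_le le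
  have e := morphim_coprime_norm f (le.trans hD) (h.odd.coprime p) (Or.inl (solv2 p))
  have m : x ∈ im f 𝐍(ψ.range) := by
    rw [e, imD h, top_inf_eq]
    refine mem_normalizer_of_cj_le fun y hy => ?_
    obtain ⟨_, hy', rfl⟩ := mem_cj'.1 hy
    obtain ⟨_, ⟨u, rfl⟩, rfl⟩ := (mem_im_of_le f (le.trans hD)).1 hy'
    rw [(hψ u).2, r u, ← (hψ _).2]
    exact ap_mem_im f ⟨_, rfl⟩
  obtain ⟨a, ha, haD, rfl⟩ := (mem_im_ap f).1 m
  exact ⟨a, haD, rfl, key a haD (fun u => le (conj_mem_of_mem_normalizer ha ⟨u, rfl⟩)) ν r⟩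

/-- lifting a model of the Sylow subgroup -/
theorem nd {L : Type} [Group L] {l : L →* X} {a b z y : L} (d : Nd l a b z y (pCore 2 X) ⊤)
    (hz : z * a = a * z ∧ z * b = b * z) (hy : y * a = a * y ∧ y * b = b * y) :
    ∃ m : L →* G, Nd m a b z y V 𝐍(V) ∧
      ∀ u v : L, u * u = 1 → IsConj (l u) (l v) → IsConj (m u) (m v) := by
  obtain ⟨B, hD, h2, hV, e⟩ := lift h d.syl.isP (le_syl h d.syl)
  obtain ⟨m, hm⟩ := exists_hom h hD h2 l e.ge
  have inj : ∀ a ∈ B, ∀ b ∈ B, ap f a = ap f b → a = b := fun a ha b hb =>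
    (injm_ap_eq_iff f hD (kb h h2) ha hb).1
  have er : m.range = B := le_antisymm (by rintro _ ⟨u, rfl⟩; exact (hm u).1) fun x hx => by
    obtain ⟨u, hu⟩ := e.le (ap_mem_im f hx)
    exact ⟨u, inj _ (hm u).1 _ hx ((hm u).2.trans hu)⟩
  have mV : ∀ u, u * a = a * u → u * b = b * u → m u ∈ V := fun u h1 h3 =>
    memV h hD h2 hV (hm u).1 ((hm u).2 ▸ (d.mem _).2 ⟨u, h1, h3, rfl⟩)
  have zV := mV z hz.1 hz.2
  have yV := mV y hy.1 hy.2
  have cV : ∀ c ∈ 𝐍(V), ∀ v ∈ V, ∀ w ∈ V, ap f c * ap f v * (ap f c)⁻¹ = ap f w → c * v * c⁻¹ = w :=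
    fun c hc v hv w hw k => injV h (conj_mem_of_mem_normalizer hc hv) hw
      ((ap_conj f (le_normalizer hv) hc).trans k)
  refine ⟨m, ⟨fun u v k => d.inj (by rw [← (hm u).2, ← (hm v).2, k]), er ▸ syl h hD h2 (e ▸ d.syl),
    fun v => ⟨fun hv => ?_, ?_⟩, ?_, fun v hv v1 => ?_⟩, fun u v u2 k => ?_⟩
  · obtain ⟨u, h1, h3, h4⟩ := (d.mem _).1 (memQ h hv)
    exact ⟨u, h1, h3, inj _ (hm u).1 _ (hV hv) ((hm u).2.trans h4)⟩
  · rintro ⟨u, h1, h3, rfl⟩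
    exact mV u h1 h3
  · obtain ⟨β, h1, h3⟩ := d.rot
    obtain ⟨c, hc, rfl⟩ := lift1 h β
    exact ⟨c, cV c hc _ zV _ yV (by rw [(hm z).2, (hm y).2, h1]),
      cV c hc _ yV _ (by rw [map_mul]; exact mul_mem zV yV) (by rw [(hm y).2, (hm _).2, h3])⟩
  · obtain ⟨β, k⟩ := isConj_iff.1 (d.fus _ (memQ h hv) fun k =>
      v1 (injV h hv (one_mem _) (k.trans (ap_one f).symm)))
    obtain ⟨c, hc, rfl⟩ := lift1 h β
    exact isConj_iff.2 ⟨c, cV c hc _ zV _ hv (by rw [(hm z).2, k])⟩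
  · obtain ⟨β, k⟩ := isConj_iff.1 k
    obtain ⟨c, hc, rfl⟩ := lift1 h β
    have v2 : v * v = 1 := d.inj (by rw [map_mul, ← k, conj_mul, ← map_mul, u2, map_one]; group)
    have uN := hD (hm u).1
    obtain ⟨n, hn⟩ := h.conj_of (mul_mem (mul_mem hc uN) (inv_mem hc)) (hD (hm v).1)
      (by rw [conj_mul, ← map_mul, u2, map_one]; group) (by rw [← map_mul, v2, map_one])
      (by rw [ap_conj f uN hc, (hm u).2, (hm v).2, k])
    exact isConj_iff.2 ⟨n * c, by rw [← hn]; group⟩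

end Loc

end H83.G2
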