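import Cfsg.Agent.Lib.GH2.Def
import Cfsg.Agent.Lib.FGS83.R4A
import Cfsg.Agent.S3198

/-! GH2, package L34 -/

set_option autoImplicit false

namespace H83.G2
open Subgroup Cfsg H69 H45 Gold H31.X32 H31.X32.SD H83.R4

namespace L34
open H83.L64 H70.TM H55.Two

/-- the centralizer of two elements -/
def C2 (s t : E) : Subgroup E where
  carrier := {u | u * s = s * u ∧ u * t = t * u}
  one_mem' := ⟨by rw [one_mul, mul_one], by rw [one_mul, mul_one]⟩
  mul_mem' := fun h k => ⟨(Commute.mul_left h.1 k.1 :), (Commute.mul_left h.2 k.2 :)⟩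
  inv_mem' := fun h => ⟨(Commute.inv_left h.1 :), (Commute.inv_left h.2 :)⟩

noncomputable instance (s t u : E) : Decidable (u ∈ C2 s t) :=
  inferInstanceAs (Decidable (u * s = s * u ∧ u * t = t * u))

theorem k1 : (∀ u ∈ C2 a b, u * u = 1) ∧ (∀ u ∈ C2 c d, u * u = 1) ∧
    (∀ g : E, ∀ u ∈ C2 a b, g * u * g⁻¹ ∈ C2 a b) ∧ (∀ g : E, ∀ u ∈ C2 c d, g * u * g⁻¹ ∈ C2 c d) ∧
    (∀ u ∈ C2 a b, ∀ v ∈ C2 c d, u * v = v * u → u ∈ C2 c d ∨ v ∈ C2 a b) ∧
    a ∈ C2 a b ∧ b ∈ C2 a b ∧ c ∈ C2 c d ∧ d ∈ C2 c d ∧ z ∈ C2 a b ∧ y ∈ C2 a b ∧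
    a ∉ C2 c d ∧ c ∉ C2 a b := by decide +kernel

theorem cA : Nat.card (C2 a b) = 16 := (El.card_subtype (· ∈ C2 a b)).trans (by decide +kernel)

theorem cB : Nat.card (C2 c d) = 16 := (El.card_subtype (· ∈ C2 c d)).trans (by decide +kernel)

theorem cZ : Nat.card (C2 a b ⊓ C2 c d : Subgroup E) = 4 :=
  (El.card_subtype fun u => u ∈ C2 a b ∧ u ∈ C2 c d).trans (by decide +kernel)

theorem l34 {G : Type*} [Group G] [Finite G] {l : E →* G} (hi : Function.Injective l)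
    (hS : IsSylowIn 2 l.range ⊤) : H55.Two.L34 ((C2 a b).map l) ((C2 c d).map l) := by
  obtain ⟨h1, h2, h3, h4, h5, m1, m2, m3, m4, m5, m6, n1, n2⟩ := k1
  have nA : (C2 a b).Normal := ⟨fun u hu g => h3 g u hu⟩
  have nB : (C2 c d).Normal := ⟨fun u hu g => h4 g u hu⟩
  have e : C2 a b ⊔ C2 c d = ⊤ := L64.eq_top (mem_sup_left m1) (mem_sup_left m2) (mem_sup_right m3)
    (mem_sup_right m4) (mem_sup_left m5) (mem_sup_left m6)
  refine ⟨⟨?_, ?_, ?_, ?_, ?_, fun h => n1 ((mem_map_iff_mem hi).1 (h (mem_map_of_mem l m1))),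
    fun h => n2 ((mem_map_iff_mem hi).1 (h (mem_map_of_mem l m3)))⟩, ?_, ?_, ?_, ?_⟩
  · rintro _ ⟨u, hu, rfl⟩
    rw [← map_mul, h1 u hu, map_one]
  · rintro _ ⟨u, hu, rfl⟩
    rw [← map_mul, h2 u hu, map_one]
  · exact (map_mono le_normalizer_of_normal).trans (le_normalizer_map l)
  · exact (map_mono le_normalizer_of_normal).trans (le_normalizer_map l)
  · rintro _ ⟨u, hu, rfl⟩ _ ⟨v, hv, rfl⟩ k
    rw [← map_mul, ← map_mul] at k
    exact (h5 u hu v hv (hi k)).imp (mem_map_of_mem l) (mem_map_of_mem l)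
  · rwa [← Subgroup.map_sup, e, ← MonoidHom.range_eq_map]
  · rw [card_map_of_injective hi, cA]
  · rw [card_map_of_injective hi, cB]
  · rw [← Subgroup.map_inf _ _ _ hi, card_map_of_injective hi, cZ]

theorem main {G : Type*} [Group G] [Finite G] (g : Gl G) {A B : Subgroup G} (h : H55.Two.L34 A B) :
    ∃ (F : Type) (_ : Field F) (_ : Fintype F), Fintype.card F = 4 ∧
      Nonempty (G ≃* Matrix.ProjectiveSpecialLinearGroup (Fin 3) F) := by
  have := g.simple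
  have i1 := h.idx
  have i2 := H3.relIndex_mul_card (le_sup_left : A ≤ A ⊔ B)
  have nn : ∀ {A B : Subgroup G}, H55.Two.L34 A B → ¬ A.Normal := fun {A B} h n => by
    rcases n.eq_bot_or_eq_top with e | e
    · exact h.neA (e ▸ bot_le)
    · exact h.neB (e ▸ le_top)
  have hO : pPrimeCore 2 G = ⊥ := by
    rcases (inferInstance : (pPrimeCore 2 G).Normal).eq_bot_or_eq_top with e | e
    · exact e
    · have k := H1.inf_pPrimeCore_eq_bot (h.syl.isP.to_le le_sup_left)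
      rw [e, inf_top_eq] at k
      exact (h.neA (k ▸ bot_le)).elim
  rcases h.cases h.syl with c | c | c | c
  · exact (nn h (h.normal hO c)).elim
  · exact (nn h.symm (h.symm.normal hO c)).elim
  · obtain ⟨F, _, _, k, e⟩ := N3.psl ⟨c.nice, fun t' =>
      Cfsg.Agent.S3198.Dc_eq t' ((c.card_pair t').2.trans h.cZ)⟩ c
    rw [h.cZ, h.cB] at k
    exact ⟨F, _, _, by omega, e⟩
  · rw [c.1, h.cZ, h.cB] at i1
    omega

end L34

theorem Gl.l34 {G : Type*} [Group G] [Finite G] (g : Gl G) {l : L64.E →* G}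
    (hi : Function.Injective l) (hS : IsSylowIn 2 l.range ⊤) :
    ∃ (F : Type) (_ : Field F) (_ : Fintype F), Fintype.card F = 4 ∧
      Nonempty (G ≃* Matrix.ProjectiveSpecialLinearGroup (Fin 3) F) :=
  L34.main g (L34.l34 hi hS)

end H83.G2
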