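import Cfsg.Agent.Lib.GH2.NE

/-! GH2, package NG -/

set_option autoImplicit false

namespace H83.G2.NG
open Subgroup Cfsg H69 H45 H45.NE8

variable {L : Type} [Group L] {A B : Subgroup L}

/-- the facts read off the models -/
structure Mf (A B : Subgroup L) : Prop where
  cA : Nat.card A = 16
  cB : Nat.card B = 16
  cZ : Nat.card (A ⊓ B : Subgroup L) ≤ 4
  el : ∀ u ∈ A, u * u = 1
  big : ∀ x : L, x * x = 1 → x ∈ A ∨ x ∈ B ∨ Nat.card {w : L // w * w = 1 ∧ w * x = x * w} < 16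
  nrm : ∀ x : L, x * x = 1 → (∀ k, x * (k * x * k⁻¹) = k * x * k⁻¹ * x) → x ∈ A ∨ x ∈ B
  nc : ∀ x ∈ A, ∀ w ∈ B, x * w = w * x → x ∈ B ∨ w ∈ A

theorem mem2 {a b u : L} : u ∈ 𝐂[a] ⊓ 𝐂[b] ↔ u * a = a * u ∧ u * b = b * u :=
  mem_inf.trans (and_congr mem_centralizer_singleton_iff mem_centralizer_singleton_iff)

theorem card_eq {P : L → Prop} (h : ∀ u, u ∈ A ↔ P u) : Nat.card A = Nat.card {u // P u} :=
  Nat.card_congr (Equiv.subtypeEquivRight h)

theorem mf64 : Mf (𝐂[L64.a] ⊓ 𝐂[L64.b]) (𝐂[L64.c] ⊓ 𝐂[L64.d]) := by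
  have k1 : ∀ u : L64.E, (u * L64.a = L64.a * u ∧ u * L64.b = L64.b * u) → u * u = 1 := by decide +kernel
  have k2 : ∀ x : L64.E, x * x = 1 → (x * L64.a = L64.a * x ∧ x * L64.b = L64.b * x) ∨
      (x * L64.c = L64.c * x ∧ x * L64.d = L64.d * x) ∨ H70.TM.El.cnt (fun i => decide (H70.TM.El.of L64.tb i * H70.TM.El.of L64.tb i = 1 ∧
        H70.TM.El.of L64.tb i * x = x * H70.TM.El.of L64.tb i)) L64.tb.n < 16 := by decide +kernel
  have k3 : ∀ x : L64.E, x * x = 1 → (∀ k, x * (k * x * k⁻¹) = k * x * k⁻¹ * x) →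
      (x * L64.a = L64.a * x ∧ x * L64.b = L64.b * x) ∨ (x * L64.c = L64.c * x ∧ x * L64.d = L64.d * x) := by decide +kernel
  have k4 : ∀ x : L64.E, (x * L64.a = L64.a * x ∧ x * L64.b = L64.b * x) → ∀ w : L64.E, (w * L64.c = L64.c * w ∧ w * L64.d = L64.d * w) →
      x * w = w * x → (x * L64.c = L64.c * x ∧ x * L64.d = L64.d * x) ∨ (w * L64.a = L64.a * w ∧ w * L64.b = L64.b * w) := by
    decide +kernel
  refine ⟨(card_eq fun _ => mem2).trans ?_, (card_eq fun _ => mem2).trans ?_,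
    (card_eq fun _ => mem_inf.trans (and_congr mem2 mem2)).trans_le ?_, fun u h => k1 u (mem2.1 h), fun x h => ?_,
    fun x h1 h2 => by simpa only [mem2] using k3 x h1 h2,
    fun x h1 w h2 h3 => by simpa only [mem2] using k4 x (mem2.1 h1) w (mem2.1 h2) h3⟩
  · rw [H70.TM.El.card_subtype]; decide +kernel
  · rw [H70.TM.El.card_subtype]; decide +kernel
  · rw [H70.TM.El.card_subtype]; decide +kernel
  · rw [mem2, mem2, H70.TM.El.card_subtype]; exact k2 x h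

theorem mf128 : Mf (𝐂[L128.a] ⊓ 𝐂[L128.b]) (𝐂[L128.c] ⊓ 𝐂[L128.d]) := by
  have k1 : ∀ u : L128.E, (u * L128.a = L128.a * u ∧ u * L128.b = L128.b * u) → u * u = 1 := by decide +kernel
  have k2 : ∀ x : L128.E, x * x = 1 → (x * L128.a = L128.a * x ∧ x * L128.b = L128.b * x) ∨
      (x * L128.c = L128.c * x ∧ x * L128.d = L128.d * x) ∨ H70.TM.El.cnt (fun i => decide (H70.TM.El.of L128.tb i * H70.TM.El.of L128.tb i = 1 ∧
        H70.TM.El.of L128.tb i * x = x * H70.TM.El.of L128.tb i)) L128.tb.n < 16 := by decide +kernel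
  have k3 : ∀ x : L128.E, x * x = 1 → (∀ k, x * (k * x * k⁻¹) = k * x * k⁻¹ * x) →
      (x * L128.a = L128.a * x ∧ x * L128.b = L128.b * x) ∨ (x * L128.c = L128.c * x ∧ x * L128.d = L128.d * x) := by decide +kernel
  have k4 : ∀ x : L128.E, (x * L128.a = L128.a * x ∧ x * L128.b = L128.b * x) → ∀ w : L128.E, (w * L128.c = L128.c * w ∧ w * L128.d = L128.d * w) →
      x * w = w * x → (x * L128.c = L128.c * x ∧ x * L128.d = L128.d * x) ∨ (w * L128.a = L128.a * w ∧ w * L128.b = L128.b * w) := by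
    decide +kernel
  refine ⟨(card_eq fun _ => mem2).trans ?_, (card_eq fun _ => mem2).trans ?_,
    (card_eq fun _ => mem_inf.trans (and_congr mem2 mem2)).trans_le ?_, fun u h => k1 u (mem2.1 h), fun x h => ?_,
    fun x h1 h2 => by simpa only [mem2] using k3 x h1 h2,
    fun x h1 w h2 h3 => by simpa only [mem2] using k4 x (mem2.1 h1) w (mem2.1 h2) h3⟩
  · rw [H70.TM.El.card_subtype]; decide +kernel
  · rw [H70.TM.El.card_subtype]; decide +kernel
  · rw [H70.TM.El.card_subtype]; decide +kernel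
  · rw [mem2, mem2, H70.TM.El.card_subtype]; exact k2 x h

variable [Finite L]

theorem Mf.e16 (m : Mf A B) {E : Subgroup L} (h2 : ∀ u ∈ E, u * u = 1) (hc : Nat.card E = 16) :
    E = A ∨ E = B := by
  have k : ∀ x ∈ E, x ∈ A ∨ x ∈ B := fun x hx => by
    refine (or_assoc.2 (m.big x (h2 x hx))).resolve_right (not_lt.2 (hc ▸ Nat.card_le_card_of_injective
      (fun u : E => (⟨u, h2 u u.2, comm_of_sq h2 u.2 hx⟩ : {w : L // w * w = 1 ∧ w * x = x * w}))
      fun u v e => Subtype.ext (Subtype.mk.inj e)))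
  by_cases a : E ≤ A
  · exact .inl (eq_of_le_of_card_ge a (by rw [hc, m.cA]))
  refine .inr (eq_of_le_of_card_ge (fun x hx => by_contra fun b => ?_) (by rw [hc, m.cB]))
  obtain ⟨w, hw, c⟩ := SetLike.not_le_iff_exists.1 a
  exact (m.nc x ((k x hx).resolve_right b) w ((k w hw).resolve_left c) (comm_of_sq h2 hx hw)).elim b c

variable {G : Type*} [Group G] [Finite G]

theorem ng (g : Gl G) (m : Mf A B) {l : L →* G} (hi : Function.Injective l)
    (syl : IsSylowIn 2 l.range 𝐍(A.map l)) (fus : ∀ v ∈ A.map l, ∀ w ∈ A.map l, v ≠ 1 → w ≠ 1 → IsConj v w) :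
    IsSylowIn 2 l.range ⊤ ∨ ∃ m : L256.E →* G, N8 m := by
  have := Fact.mk Nat.prime_two
  obtain ⟨S, hS, hR⟩ := exists_isSylowIn_le syl.isP le_top
  rcases hR.eq_or_lt with e | e
  · exact .inl (e ▸ hS)
  obtain ⟨q, ⟨q1, q2⟩, q3⟩ := SetLike.exists_of_lt (lt_inf_normalizer_of_lt hS.isP e)
  have key : ∀ x ∈ S, x ∈ 𝐍(A.map l) → x ∈ l.range := fun x h1 h2 =>
    (syl.max (S ⊓ 𝐍(A.map l)) (le_inf hR syl.le) inf_le_right (hS.isP.to_le inf_le_left)).le ⟨h1, h2⟩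
  have el : ∀ v ∈ A.map l, v * v = 1 := by
    rintro _ ⟨u, hu, rfl⟩
    rw [← map_mul, m.el u hu, map_one]
  have cj : ∀ {E : Subgroup G}, E ≤ l.range → (∀ v ∈ E, v * v = 1) → Nat.card E = 16 →
      E ^ᶜ q = A.map l ∨ E ^ᶜ q = B.map l := fun {E} h1 h2 h3 => by
    have h4 := map_comap_eq_self (cj_le_of_mem_normalizer h1 q2)
    rw [← h4]
    refine (m.e16 (fun u hu => hi ?_) ?_).imp (congrArg _) (congrArg _)
    · obtain ⟨v, hv, f⟩ := mem_cj'.1 (mem_comap.1 hu)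
      rw [map_mul, f, conj_sq (h2 v hv), map_one]
    · rw [← card_map_of_injective hi, h4, card_cj, h3]
  have c16 : Nat.card (A.map l) = 16 := by rw [card_map_of_injective hi, m.cA]
  have n1 : (A.map l) ^ᶜ q ≠ A.map l := fun f => q3 (key q q1 (cj_eq_self_iff.1 f))
  have e1 := (cj (map_le_range _ _) el c16).resolve_left n1
  have e2 := (cj (map_le_range l B) (fun v hv => by
      obtain ⟨w, hw, rfl⟩ := mem_cj'.1 (e1.ge hv)
      exact conj_sq (el w hw)) (by rw [card_map_of_injective hi, m.cB])).resolve_right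
    fun f => n1 (e1.trans (cj_inj.1 (f.trans e1.symm)))
  have hV := (map_le_range l A).trans hR
  refine .inr (g.ne hS hV el c16 (inf_le_left : A.map l ⊓ B.map l ≤ _)
    (by rw [← map_inf _ _ _ hi, card_map_of_injective hi]; exact m.cZ) fus fun Y h1 h2 h3 => ?_)
  by_cases c : Y ≤ A.map l
  · exact le_inf c (e1 ▸ (cj_eq_of_mem_normalizer (h2 q1)).ge.trans (cj_mono q c))
  obtain ⟨x, hx, x1, -, x2⟩ := exists_cen_mod (T := A.map l) (K := Y) (U := Y ⊓ A.map l) (hS.isP.to_le hV)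
    (hS.isP.to_le h1) (hV.trans h2) (le_normalizer_inf (hV.trans h2) le_normalizer)
    (le_normalizer_of_le_centralizer fun y hy => mem_centralizer_iff_commute.2 fun w hw => comm_of_sq h3 hw.1 hy)
    fun f => c (f.trans inf_le_right)
  obtain ⟨x, rfl⟩ := key x (h1 hx) (norm_of_conj fun v hv => by
    simpa only [inv_inv, mul_assoc, mul_inv_cancel_left] using
      (A.map l).mul_mem hv (x2 _ (inv_mem hv)).2)
  have xA : x ∉ A := fun f => x1 ⟨hx, mem_map_of_mem l f⟩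
  have xB := (m.nrm x (hi (by rw [map_mul, h3 _ hx, map_one])) fun k => hi (by
    simp only [map_mul, map_inv]
    exact comm_of_sq h3 hx (conj_mem_of_mem_normalizer (h2 (hR ⟨k, rfl⟩)) hx))).resolve_left xA
  obtain ⟨w, hw, f⟩ := mem_cj.1 (e1.ge (mem_map_of_mem l xB))
  refine ((m.nc w hw x xB (hi ?_)).elim (fun b => x1 ⟨hx, e2.le (mem_cj.2 ⟨w, b, f⟩)⟩) xA).elim
  rw [map_mul, map_mul, f]
  exact comm_of_sq h3 (conj_mem_of_mem_normalizer' (h2 q1) hx) hx

theorem ng' (g : Gl G) {a b z y : L} (m : Mf (𝐂[a] ⊓ 𝐂[b]) B) {l : L →* G} {V : Subgroup G}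
    (d : Nd l a b z y V 𝐍(V)) : IsSylowIn 2 l.range ⊤ ∨ ∃ m : L256.E →* G, N8 m := by
  obtain rfl : V = (𝐂[a] ⊓ 𝐂[b]).map l := by
    ext v
    simp only [d.mem, mem_map, mem2, and_assoc]
  exact ng g m d.inj d.syl fun v hv w hw v1 w1 => (d.fus v hv v1).symm.trans (d.fus w hw w1)

end H83.G2.NG

namespace H83.G2
open Subgroup Cfsg H69 H45 Gold H31.X32 H31.X32.SD H83.R4

variable {G : Type*} [Group G] [Finite G] {V : Subgroup G}

theorem Gl.ng6 (g : Gl G) {l : L64.E →* G} (d : Nd l L64.a L64.b L64.z L64.y V 𝐍(V)) :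
    IsSylowIn 2 l.range ⊤ ∨ ∃ m : L256.E →* G, N8 m := NG.ng' g NG.mf64 d

theorem Gl.ng7 (g : Gl G) {l : L128.E →* G} (d : Nd l L128.a L128.b L128.z L128.y V 𝐍(V)) :
    IsSylowIn 2 l.range ⊤ ∨ ∃ m : L256.E →* G, N8 m := NG.ng' g NG.mf128 d

end H83.G2
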