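import Cfsg.Agent.Lib.GH2.Def
import Cfsg.Agent.Lib.GH2.Tri
import Cfsg.Agent.Lib.FGS83.R4A

/-! GH2, package NX -/

set_option autoImplicit false

namespace H83.G2
open Subgroup Cfsg H69 H45 Gold H31.X32 H31.X32.SD H83.R4

variable {X : Type*} [Group X] [Finite X] {V : Subgroup X} {t ρ : X}

namespace NX

theorem four {W : Type*} [CommGroup W] [Finite W] (el : ∀ w : W, w * w = 1) {Z : Subgroup W}
    (c4 : Nat.card Z ≤ 4) {z y : W} (hz : z ∈ Z) (hy : y ∈ Z) (z1 : z ≠ 1) (y1 : y ≠ 1)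
    (zy : z * y ≠ 1) {w : W} (hw : w ∈ Z) : w = 1 ∨ w = z ∨ w = y ∨ w = z * y := by
  by_contra hc
  push Not at hc
  have h5 : ({w, 1, z, y, z * y} : Set W) ⊆ Z := by
    rintro _ (rfl | rfl | rfl | rfl | rfl)
    exacts [hw, one_mem _, hz, hy, mul_mem hz hy]
  have h6 := (Set.ncard_le_ncard h5).trans c4
  have n1 : z ≠ y := fun e => zy (e ▸ el z)
  rw [Set.ncard_insert_of_notMem, Set.ncard_insert_of_notMem, Set.ncard_insert_of_notMem,
    Set.ncard_pair (by simpa using z1)] at h6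
  · omega
  · simp [n1, y1]
  · simp [z1.symm, y1.symm, zy.symm]
  · simp [hc]

/-- the natural module -/
structure Nm {W : Type*} [CommGroup W] (A B r : W →* W) : Prop where
  el : ∀ w : W, w * w = 1
  AA : ∀ w, A (A w) = w
  BB : ∀ w, B (B w) = w
  AB : ∀ w, A (B w) = B (A w)
  rA : ∀ w, r (A w) = B (r w)
  rB : ∀ w, r (B w) = A (B (r w))
  r3 : ∀ w, r (r (r w)) = w
  nfe : ∀ w, A w = w → B w = w
  fpf : ∀ w, r w = w → w = 1

namespace Nm
variable {W : Type*} [CommGroup W] {A B r : W →* W} (m : Nm A B r)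
include m

theorem e2 (x y : W) : x * (x * y) = y := by rw [← mul_assoc, m.el, one_mul]

theorem eq_of {x y : W} (h : x * y = 1) : y = x := by rw [← m.e2 x y, h, mul_one]

theorem inj {x y : W} (h : r x = r y) : x = y := by rw [← m.r3 x, h, m.r3]

theorem tr (w : W) : w * r w * r (r w) = 1 :=
  m.fpf _ (by rw [map_mul, map_mul, m.r3, mul_comm, mul_assoc])

theorem rr (w : W) : r (r w) = w * r w := m.eq_of (m.tr w)

theorem fr {w : W} (h : A w = w) : A (r w) = r w := by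
  have h1 := m.rA w
  have h2 := m.rB w
  rw [h] at h1
  rw [m.nfe w h, ← h1] at h2
  exact h2.symm

theorem fB {w : W} (h : B w = w) : A w = w := by
  rw [← m.r3 w] at h ⊢
  exact m.fr (m.inj ((m.rA _).trans h))

theorem fAB {w : W} (h : A (B w) = w) : A w = w := by
  rw [← m.r3 w] at h ⊢
  exact m.fr (m.fB (m.inj ((m.rB _).trans h)))

theorem cA (w : W) : A (w * A w) = w * A w := by rw [map_mul, m.AA, mul_comm]

theorem cB (w : W) : A (w * B w) = w * B w := m.fB (by rw [map_mul, m.BB, mul_comm])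

theorem cAB (w : W) : w * A (B w) = w * A w * (w * B w) := by
  rw [← m.cB w, map_mul, mul_assoc, m.e2]

theorem eq_one {n : W} (h : r n = A n) : n = 1 := by
  have h1 := m.rr n
  rw [h, m.rA, h, ← m.AB] at h1
  have h2 := m.cAB n
  rw [h1, m.e2, mul_mul_mul_comm, m.el, one_mul, left_eq_mul] at h2
  rw [← m.BB n, h2, map_one]

theorem main [Finite W] (c4 : Nat.card (A.eqLocus (MonoidHom.id W)) ≤ 4) {a : W} (ha : A a ≠ a) :
    ∃ z y : W, A a = a * z ∧ B a = a * y ∧ A (r a) = r a * y ∧ B (r a) = r a * (z * y) ∧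
      A z = z ∧ A y = y ∧ z ≠ 1 ∧ y ≠ 1 ∧ z * y ≠ 1 ∧ r z = z * y ∧ r y = z ∧
      (∀ w, A w = w → w = 1 ∨ w = z ∨ w = y ∨ w = z * y) ∧
      ∀ w, A w = w ∨ A (a * w) = a * w ∨ A (r a * w) = r a * w ∨
        A (a * r a * w) = a * r a * w := by
  obtain ⟨z, hz⟩ : ∃ z, z = a * A a := ⟨_, rfl⟩
  obtain ⟨y, hy⟩ : ∃ y, y = a * B a := ⟨_, rfl⟩
  have Az : A z = z := hz ▸ m.cA a
  have Ay : A y = y := hy ▸ m.cB a
  have z1 : z ≠ 1 := fun e => ha (m.eq_of (hz ▸ e))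
  have y1 : y ≠ 1 := fun e => ha (m.fB (m.eq_of (hy ▸ e)))
  have hzy : a * A (B a) = z * y := by rw [m.cAB, hz, hy]
  have zy : z * y ≠ 1 := fun e => ha (m.fAB (m.eq_of (hzy ▸ e)))
  have h4 : ∀ w, A w = w → w = 1 ∨ w = z ∨ w = y ∨ w = z * y := fun w hw =>
    four m.el c4 (Z := A.eqLocus (MonoidHom.id W)) Az Ay z1 y1 zy hw
  have rz : r z = r a * B (r a) := by rw [hz, map_mul, m.rA]
  have ry : r y = r a * A (B (r a)) := by rw [hy, map_mul, m.rB]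
  have rz' : r z = z * y := by
    rcases h4 _ (m.fr Az) with e | e | e | e
    · exact absurd (m.inj (e.trans (map_one r).symm)) z1
    · exact absurd (m.fpf _ e) z1
    · have h1 : r (r z) = a * r a * A (B (a * r a)) := by rw [rz, map_mul, m.rB, m.rr]
      rw [m.rr, e, map_mul, map_mul, mul_mul_mul_comm, hzy, ← ry, left_eq_mul] at h1
      exact absurd (m.inj (h1.trans (map_one r).symm)) y1
    · exact e
  have ry' : r y = z := by
    have h1 := m.rr z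
    rw [rz', m.e2] at h1
    rw [← h1, ← rz', m.r3]
  have hAa : A a = a * z := by rw [hz, m.e2]
  have hBb : B (r a) = r a * (z * y) := by rw [← rz', rz, m.e2]
  have hAb : A (r a) = r a * y := by
    have h1 := m.cAB (r a)
    rw [← ry, ry', hBb, m.e2] at h1
    rw [← m.e2 (r a) (A (r a)), ← m.e2 (z * y) (r a * A (r a)), mul_comm (z * y) (r a * _), ← h1,
      mul_comm (z * y), m.e2]
  refine ⟨z, y, hAa, by rw [hy, m.e2], hAb, hBb, Az, Ay, z1, y1, zy, rz', ry', h4, fun w => ?_⟩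
  have hw : A w = w * (w * A w) := (m.e2 _ _).symm
  rcases h4 _ (m.cA w) with e | e | e | e
  · exact Or.inl (m.eq_of e)
  · refine Or.inr (Or.inl ?_)
    rw [map_mul, hAa, hw, e, mul_mul_mul_comm, m.el, mul_one]
  · refine Or.inr (Or.inr (Or.inl ?_))
    rw [map_mul, hAb, hw, e, mul_mul_mul_comm, m.el, mul_one]
  · refine Or.inr (Or.inr (Or.inr ?_))
    rw [map_mul, map_mul, hAa, hAb, hw, e, mul_mul_mul_comm a, mul_mul_mul_comm, m.el, mul_one]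

end Nm

/-- conjugation on a normal subgroup -/
abbrev κ (V : Subgroup X) [V.Normal] (g : X) : V →* V := (MulAut.conjNormal g : MulAut V).toMonoidHom

/-- the commutative structure on `V` -/
abbrev cg (h : Tri V t ρ) : CommGroup V :=
  { (inferInstance : Group V) with mul_comm := fun a b => Subtype.ext (h.comm a.2 b.2) }

omit [Finite X] in
theorem hκ [V.Normal] (g : X) (w : V) : (κ V g w : X) = g * w * g⁻¹ := rfl

omit [Finite X] in
theorem κ_iff [V.Normal] {g : X} {w : V} : κ V g w = w ↔ g * w = w * g :=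
  Subtype.ext_iff.trans mul_inv_eq_iff_eq_mul

omit [Finite X] in
theorem κ_mul [V.Normal] (g k : X) (w : V) : κ V (g * k) w = κ V g (κ V k w) :=
  Subtype.ext (by simp only [hκ]; group)

omit [Finite X] in
theorem κ_mem [V.Normal] (h : Tri V t ρ) {v : X} (hv : v ∈ V) (w : V) : κ V v w = w :=
  κ_iff.2 (h.comm hv w.2)

omit [Finite X] in
theorem κ_congr [V.Normal] (h : Tri V t ρ) {g k : X} (hv : g * k⁻¹ ∈ V) (w : V) :
    κ V g w = κ V k w := by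
  rw [← κ_mem h hv (κ V k w), ← κ_mul, inv_mul_cancel_right]

omit [Finite X] in
theorem nm [V.Normal] (h : Nt5 V t ρ) :
    @Nm V (cg h.toTri) (κ V t) (κ V (ρ * t * ρ⁻¹)) (κ V ρ) := by
  letI := cg h.toTri
  have hρ : ∀ g (w : V), κ V ρ (κ V g w) = κ V (ρ * g * ρ⁻¹) (κ V ρ w) := fun g w => by
    rw [← κ_mul, ← κ_mul, inv_mul_cancel_right]
  have sq : ∀ g, g * g ∈ V → ∀ w : V, κ V g (κ V g w) = w := fun g hg w => by
    rw [← κ_mul, κ_mem h.toTri hg]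
  have b2 := h.cj h.t2 ρ
  rw [← conj_mul] at b2
  have c2 := h.cj b2 ρ
  rw [← conj_mul] at c2
  have hC : ∀ w : V, κ V t (κ V (ρ * t * ρ⁻¹) w) = κ V (ρ * (ρ * t * ρ⁻¹) * ρ⁻¹) w := fun w => by
    rw [← sq _ c2 w, ← κ_mul, ← κ_mul, κ_mem h.toTri h.prod, sq _ c2]
  refine ⟨fun w => Subtype.ext (h.el w w.2), sq t h.t2, sq _ b2, fun w => ?_, hρ t,
    fun w => by rw [hρ, hC], fun w => Subtype.ext (h.rho3 w), fun w hw => κ_iff.2 ?_,
    fun w hw => Subtype.ext (h.fpf w w.2 (congrArg Subtype.val hw))⟩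
  · rw [← sq _ c2 (κ V (ρ * t * ρ⁻¹) (κ V t w)), ← hC (κ V (ρ * t * ρ⁻¹) (κ V t w)), sq _ b2,
      sq t h.t2, hC]
  · by_contra e
    exact h.nfe ⟨w, w.2, κ_iff.1 hw, e⟩

omit [Finite X] in
theorem shift (h : Nt5 V t ρ) {v : X} (hv : v ∈ V) : Nt5 V (t * v) ρ := by
  refine ⟨h.toTri.shift hv, mt (h.fe_shift hv).1 h.nfe, h.fpf, ?_⟩
  obtain ⟨g, w, hw, e1, e2⟩ := h.mv
  exact ⟨g, w, hw, (h.comm_mul hw hv t).2 e1, mt (h.comm_mul (h.cj hw g) hv t).1 e2⟩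

omit [Finite X] in
theorem shiftρ (h : Nt5 V t ρ) {ρ' : X} (hv : ρ' * ρ⁻¹ ∈ V) : Nt5 V t ρ' := by
  haveI := h.nrm
  letI := cg h.toTri
  have hq : ∀ x : X, x ∈ V ↔ (QuotientGroup.mk' V) x = 1 := fun x => (QuotientGroup.eq_one_iff x).symm
  have h1 : QuotientGroup.mk' V ρ' = QuotientGroup.mk' V ρ := by
    simpa only [hq, map_mul, map_inv, mul_inv_eq_one] using hv
  refine ⟨⟨h.nrm, h.el, h.c16, ?_, h.t2, ?_, h.c4⟩, ?_, fun w hw e => h.fpf w hw ?_, h.mv⟩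
  · have h2 := congrArg Subtype.val ((nm h).tr ⟨_, hv⟩)
    calc ρ' * ρ' * ρ' = ρ' * ρ⁻¹ * (ρ * (ρ' * ρ⁻¹) * ρ⁻¹) * (ρ * (ρ * (ρ' * ρ⁻¹) * ρ⁻¹) * ρ⁻¹) *
        (ρ * ρ * ρ) := by group
      _ = 1 := by rw [h.r3, mul_one]; exact h2
  · simpa only [hq, map_mul, map_inv, h1] using h.prod
  · rintro ⟨w, hw, e1, e2⟩
    refine h.nfe ⟨w, hw, e1, fun e => e2 ((κ_iff (g := ρ' * t * ρ'⁻¹) (w := ⟨w, hw⟩)).1 ?_)⟩
    rw [κ_congr h.toTri (k := ρ * t * ρ⁻¹) (by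
      simp only [hq, map_mul, map_inv, h1, mul_inv_cancel])]
    exact κ_iff.2 e
  · exact congrArg Subtype.val ((κ_congr h.toTri hv ⟨w, hw⟩).symm.trans
      (show _ = (⟨w, hw⟩ : V) from Subtype.ext e))

/-- the frame -/
theorem core {c a : X} (h : Nt5 V c ρ) (cc : c * c = 1) (ha : a ∈ V) (hac : c * a ≠ a * c) :
    ∃ z y, L64.Rel a (ρ * a * ρ⁻¹) c (ρ * c * ρ⁻¹) z y ∧ z ≠ 1 ∧ y ≠ 1 ∧ z * y ≠ 1 ∧
      (∀ v, v ∈ V ↔ ∃ i j k m : Fin 2, v = a ^ i.1 * (ρ * a * ρ⁻¹) ^ j.1 * z ^ k.1 * y ^ m.1) ∧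
      (∃ β, β * z * β⁻¹ = y ∧ β * y * β⁻¹ = z * y) ∧ (∀ v ∈ V, v ≠ 1 → IsConj z v) ∧
      ρ * (ρ * a * ρ⁻¹) * ρ⁻¹ = a * (ρ * a * ρ⁻¹) ∧ ρ * (ρ * c * ρ⁻¹) * ρ⁻¹ = c * (ρ * c * ρ⁻¹) := by
  haveI := h.nrm
  letI := cg h.toTri
  have m := nm h
  have hpr := h.prod
  have ρe := h.rho3 c
  obtain ⟨d, hd⟩ : ∃ d, ρ * c * ρ⁻¹ = d := ⟨_, rfl⟩
  rw [hd] at hpr ρe m ⊢
  obtain ⟨e, he⟩ : ∃ e, ρ * d * ρ⁻¹ = e := ⟨_, rfl⟩
  rw [he] at hpr ρe ⊢
  have dd : d * d = 1 := by rw [← hd, conj_mul, cc]; group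
  have ee : e * e = 1 := by rw [← he, conj_mul, dd]; group
  have ci : c⁻¹ = c := inv_eq_of_mul_eq_one_right cc
  have di : d⁻¹ = d := inv_eq_of_mul_eq_one_right dd
  obtain ⟨n, hn⟩ : ∃ n : V, (n : X) = c * d * e := ⟨⟨_, hpr⟩, rfl⟩
  have rn : κ V ρ n = κ V c n := Subtype.ext (by
    simp only [hκ, hn]
    calc _ = (ρ * c * ρ⁻¹) * (ρ * d * ρ⁻¹) * (ρ * e * ρ⁻¹) := by group
      _ = c * c * (d * e * c) := by rw [ρe, hd, he, cc, one_mul]
      _ = _ := by rw [ci]; group)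
  have n1 : n = 1 := m.eq_one rn
  have cde : c * d = e := by
    rw [n1, OneMemClass.coe_one] at hn
    rw [← inv_eq_of_mul_eq_one_right ee]
    exact eq_inv_of_mul_eq_one_left hn.symm
  have cd : c * d = d * c := by
    rw [← inv_eq_of_mul_eq_one_right (cde ▸ ee : c * d * (c * d) = 1), mul_inv_rev, ci, di]
  let a' : V := ⟨a, ha⟩
  obtain ⟨z, y, Aa, Ba, Ab, Bb, Az, Ay, z1, y1, zy, rz, ry, h4, h16⟩ := m.main
    (le_trans (Nat.card_le_card_of_injective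
      (fun w => (⟨w.1, w.1.2, mem_centralizer_singleton_iff.2 (κ_iff.1 w.2).symm⟩ :
        (V ⊓ 𝐂[c] : Subgroup X)))
      fun x y e => Subtype.ext (Subtype.ext (congrArg (fun w : (V ⊓ 𝐂[c] : Subgroup X) => (w : X)) e)))
      h.c4) (a := a') fun e => hac (κ_iff.1 e)
  have k : ∀ g (w s : V), g * g = 1 → κ V g w = w * s → κ V g s = s → w * g = g * w * s :=
    fun g w s gg e e' => by
      have h1 : κ V g (w * s) = w := by rw [← e, ← κ_mul, gg, κ_mem h.toTri (one_mem V)]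
      have h2 : g * (w * s) * g⁻¹ = w := congrArg Subtype.val h1
      rw [← mul_inv_eq_iff_eq_mul.1 h2, mul_assoc]
  have cj : ∀ g (w : V), IsConj (w : X) (κ V g w : V) := fun g w => isConj_iff.2 ⟨g, rfl⟩
  have fZ : ∀ w : V, κ V c w = w → w ≠ 1 → IsConj (z : X) w := fun w hw w1 => by
    rcases h4 w hw with e | e | e | e
    · exact absurd e w1
    · rw [e]
    · rw [e, ← ry]; exact (cj ρ y).symm
    · rw [e, ← rz]; exact cj ρ z
  have fa : ∀ w : V, κ V c w = w → IsConj a (a' * w : V) := fun w hw => by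
    rcases h4 w hw with e | e | e | e
    · rw [e, mul_one]
    · rw [e, ← Aa]; exact cj c a'
    · rw [e, ← Ba]; exact cj d a'
    · have := (cj d a').trans (cj c _)
      rwa [Ba, map_mul, Aa, Ay, mul_assoc, ← e] at this
  have fA : ∀ w : V, κ V c w ≠ w → IsConj a w := fun w hw => by
    rcases h16 w with e | e | e | e
    · exact absurd e hw
    · simpa only [m.e2] using fa _ e
    · have := (fa _ (m.fr (m.fr e))).trans (cj ρ _)
      rwa [map_mul, m.r3, m.e2] at this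
    · have := ((fa _ (m.fr e)).trans (cj ρ _)).trans (cj ρ _)
      rwa [map_mul, map_mul, m.r3, m.rr a', m.e2] at this
  refine ⟨z, y, ⟨h.el _ ha, h.el _ (h.cj ha ρ), cc, dd, h.el _ z.2, h.el _ y.2, h.comm ha (h.cj ha ρ),
    cd, k c a' z cc Aa Az, k d a' y dd Ba (m.nfe _ Ay), k c (κ V ρ a') y cc Ab Ay,
    k d (κ V ρ a') (z * y) dd Bb (by rw [map_mul, m.nfe _ Az, m.nfe _ Ay]), h.comm z.2 y.2,
    h.comm z.2 ha, h.comm z.2 (h.cj ha ρ), (κ_iff.1 Az).symm, (κ_iff.1 (m.nfe _ Az)).symm,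
    h.comm y.2 ha, h.comm y.2 (h.cj ha ρ), (κ_iff.1 Ay).symm, (κ_iff.1 (m.nfe _ Ay)).symm⟩,
    fun e => z1 (Subtype.ext e), fun e => y1 (Subtype.ext e), fun e => zy (Subtype.ext e),
    fun v => ⟨fun hv => ?_, ?_⟩, ⟨ρ * ρ, ?_, ?_⟩, fun v hv v1 => ?_,
    congrArg Subtype.val (m.rr a'), cde.symm⟩
  · have hZ : ∀ w : V, κ V c w = w → ∃ k m : Fin 2, w = z ^ k.1 * y ^ m.1 := fun w hw => by
      rcases h4 w hw with e | e | e | e
      exacts [⟨0, 0, by simp [e]⟩, ⟨1, 0, by simp [e]⟩, ⟨0, 1, by simp [e]⟩, ⟨1, 1, by simp [e]⟩]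
    suffices hs : ∃ i j k m : Fin 2,
        (⟨v, hv⟩ : V) = a' ^ i.1 * κ V ρ a' ^ j.1 * z ^ k.1 * y ^ m.1 by
      obtain ⟨i, j, k, m, e⟩ := hs
      exact ⟨i, j, k, m, congrArg Subtype.val e⟩
    rcases h16 ⟨v, hv⟩ with e | e | e | e <;> obtain ⟨k, l, e⟩ := hZ _ e
    · exact ⟨0, 0, k, l, by simpa using e⟩
    · exact ⟨1, 0, k, l, by rw [mul_assoc, ← e]; simp [m.e2]⟩
    · exact ⟨0, 1, k, l, by rw [mul_assoc, ← e]; simp [m.e2]⟩
    · exact ⟨1, 1, k, l, by rw [mul_assoc, ← e]; simp only [Fin.val_one, pow_one, m.e2]⟩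
  · rintro ⟨i, j, k, m, rfl⟩
    exact mul_mem (mul_mem (mul_mem (pow_mem ha _) (pow_mem (h.cj ha ρ) _)) (pow_mem z.2 _))
      (pow_mem y.2 _)
  · exact congrArg Subtype.val (show κ V (ρ * ρ) z = y by rw [κ_mul, m.rr, rz, m.e2])
  · exact congrArg Subtype.val (show κ V (ρ * ρ) y = z * y by rw [κ_mul, ry, rz])
  · by_cases e : κ V c ⟨v, hv⟩ = ⟨v, hv⟩
    · exact fZ _ e fun e => v1 (congrArg Subtype.val e)
    obtain ⟨g, w, hw, e1, e2⟩ := h.mv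
    have w1 : (⟨w, hw⟩ : V) ≠ 1 := fun e => e2 (by
      rw [show w = 1 from congrArg Subtype.val e]; simp)
    exact (((fZ _ (κ_iff.2 e1) w1).trans (cj g _)).trans (fA _ fun e => e2 (κ_iff.1 e)).symm).trans
      (fA _ e)

theorem syl {L : Type} [Group L] {l : L →* X} (hl : Function.Injective l) {n : ℕ}
    (hL : Nat.card L = 2 ^ n) (hc : ¬ 2 ^ (n + 1) ∣ Nat.card X) : IsSylowIn 2 l.range ⊤ := by
  have k : Nat.card l.range = 2 ^ n := by
    rw [← Nat.card_congr (MonoidHom.ofInjective hl).toEquiv, hL]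
  refine isSylowIn_of_not_dvd_relIndex (IsPGroup.of_card k) le_top fun h => hc ?_
  rw [relIndex_top_right] at h
  rw [← l.range.card_mul_index, k, pow_succ]
  exact Nat.mul_dvd_mul_left _ h

omit [Finite X] in
theorem mem {L : Type} [Group L] {l : L →* X} {a b z y : L}
    (hd : ∀ u, (u * a = a * u ∧ u * b = b * u) ↔
      ∃ i j k m : Fin 2, u = a ^ i.1 * b ^ j.1 * z ^ k.1 * y ^ m.1)
    (hV : ∀ v, v ∈ V ↔ ∃ i j k m : Fin 2, v = l a ^ i.1 * l b ^ j.1 * l z ^ k.1 * l y ^ m.1) (v : X) :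
    v ∈ V ↔ ∃ u, u * a = a * u ∧ u * b = b * u ∧ l u = v := by
  rw [hV]
  constructor
  · rintro ⟨i, j, k, m, rfl⟩
    have := (hd _).2 ⟨i, j, k, m, rfl⟩
    exact ⟨_, this.1, this.2, by simp only [map_mul, map_pow]⟩
  · rintro ⟨u, h1, h2, rfl⟩
    obtain ⟨i, j, k, m, rfl⟩ := (hd u).1 ⟨h1, h2⟩
    exact ⟨i, j, k, m, by simp only [map_mul, map_pow]⟩

omit [Finite X] in
theorem cm {L : Type} [Group L] {l : L →* X} {u : L} (h : l u = 1) (k : L) :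
    l (u * k * u⁻¹ * k⁻¹) = 1 := by simp [h]

end NX

theorem Nt5.nx6 (h : Nt5 V t ρ) (hc : ¬ 128 ∣ Nat.card X) :
    ∃ l : L64.E →* X, Nd l L64.a L64.b L64.z L64.y V ⊤ := by
  obtain ⟨v, hv, cc⟩ := h.exists_inv
  have h' := NX.shift h hv
  obtain ⟨g, w, hw, -, e2⟩ := h'.mv
  obtain ⟨z, y, R, z1, y1, zy, hV, rot, fus, -⟩ := NX.core h' cc (h.cj hw g) e2
  obtain ⟨l, la, lb, -, -, rfl, rfl⟩ := L64.model R
  have hl : Function.Injective l := (injective_iff_map_eq_one _).2 fun u hu => by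
    rcases (by decide +kernel : ∀ u : L64.E, u = 1 ∨ u = L64.z ∨ u = L64.y ∨ u = L64.z * L64.y ∨
      ∃ k ∈ [L64.a, L64.c], u * k * u⁻¹ * k⁻¹ = L64.z ∨ u * k * u⁻¹ * k⁻¹ = L64.y ∨
        u * k * u⁻¹ * k⁻¹ = L64.z * L64.y) u with e | e | e | e | ⟨k, -, e | e | e⟩
    exacts [e, absurd (e ▸ hu) z1, absurd (e ▸ hu) y1, absurd (map_mul l _ _ ▸ e ▸ hu) zy,
      absurd (e ▸ NX.cm hu k) z1, absurd (e ▸ NX.cm hu k) y1,
      absurd (map_mul l _ _ ▸ e ▸ NX.cm hu k) zy]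
  exact ⟨l, hl, NX.syl hl (n := 6) L64.card hc, NX.mem (z := L64.z) (y := L64.y) (by decide +kernel)
    (by rwa [lb, la]), by rwa [map_mul], fus⟩

theorem Nt5.nx7 (h : Nt5 V t ρ) (hc : ¬ 256 ∣ Nat.card X) {p : X} (p2 : p * p ∈ V)
    (pρ : p * ρ * p⁻¹ * ρ ∈ V) (pt : p * t * p⁻¹ * t⁻¹ ∈ V) :
    ∃ l : L128.E →* X, Nd l L128.a L128.b L128.z L128.y V ⊤ ∧ IsConj (l L128.c) (l L128.d) := by
  haveI := h.nrm
  letI := NX.cg h.toTri
  have hq : ∀ x : X, x ∈ V ↔ (QuotientGroup.mk' V) x = 1 := fun x => (QuotientGroup.eq_one_iff x).symm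
  have ρi : ρ⁻¹ = ρ * ρ := inv_eq_of_mul_eq_one_left h.r3
  -- `p` inverts `ρ` on `V`
  have Pr : ∀ w : V, NX.κ V p (NX.κ V ρ w) = NX.κ V ρ (NX.κ V ρ (NX.κ V p w)) := fun w => by
    rw [← NX.κ_mul, ← NX.κ_mul, ← NX.κ_mul]
    refine NX.κ_congr h.toTri ?_ w
    rw [← ρi]
    convert pρ using 1; group
  have m := NX.nm h
  have fx : ∀ w : V, NX.κ V p w = w → w = NX.κ V ρ w * NX.κ V p (NX.κ V ρ w) := fun w hw => by
    rw [Pr, hw, m.rr, mul_comm w, m.e2]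
  obtain ⟨q, qq, hqp⟩ : ∃ q : X, q * q = 1 ∧ q * p⁻¹ ∈ V := by
    have e := congrArg Subtype.val (fx ⟨_, p2⟩ (NX.κ_iff.2 (by group)))
    obtain ⟨v, hv⟩ : ∃ v : V, v = NX.κ V ρ ⟨_, p2⟩ := ⟨_, rfl⟩
    rw [← hv] at e
    have e' : p * p = v * (p * v * p⁻¹) := e
    have h1 := h.cj v.2 p
    refine ⟨p * v, ?_, h1⟩
    calc _ = p * v * p⁻¹ * (p * p) * v := by group
      _ = p * v * p⁻¹ * (p * v * p⁻¹) * (v * v) := by rw [e', h.comm v.2 h1]; group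
      _ = 1 := by rw [h.el _ h1, h.el _ v.2, one_mul]
  have qi : q⁻¹ = q := inv_eq_of_mul_eq_one_right qq
  have h1 : QuotientGroup.mk' V q = QuotientGroup.mk' V p := by
    simpa only [hq, map_mul, map_inv, mul_inv_eq_one] using hqp
  have hQ := NX.κ_congr h.toTri hqp
  -- the new element of order three
  obtain ⟨σ, hσ, qσ⟩ : ∃ σ : X, σ * ρ⁻¹ ∈ V ∧ q * σ * q = σ⁻¹ := by
    refine ⟨q * ρ * q * ρ⁻¹, ?_, ?_⟩
    · have : q * ρ * q * ρ⁻¹ * ρ⁻¹ = q * ρ * q⁻¹ * ρ := by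
        rw [qi, mul_assoc _ ρ⁻¹, ← mul_inv_rev, ← ρi, inv_inv]
      simpa only [this, hq, map_mul, map_inv, h1] using pρ
    · calc _ = q * q * (ρ * q * ρ⁻¹ * q) := by group
        _ = _ := by rw [qq, one_mul, mul_inv_rev, mul_inv_rev, mul_inv_rev, qi]; group
  have hS := NX.κ_congr h.toTri hσ
  -- the involution over `t`
  obtain ⟨v, hv, cc⟩ := h.exists_inv
  have h' := NX.shift h hv
  obtain ⟨c, hc1⟩ : ∃ c, t * v = c := ⟨_, rfl⟩
  have h2 : QuotientGroup.mk' V c = QuotientGroup.mk' V t := by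
    rw [← hc1, map_mul, (hq v).1 hv, mul_one]
  rw [hc1] at h' cc
  have m' : NX.Nm (NX.κ V c) (NX.κ V (ρ * c * ρ⁻¹)) (NX.κ V ρ) := NX.nm h'
  have ci : c⁻¹ = c := inv_eq_of_mul_eq_one_right cc
  obtain ⟨w, hw⟩ : ∃ w : V, q * c * q = w * c := by
    refine ⟨⟨q * c * q⁻¹ * c⁻¹, ?_⟩, by simp [qi]⟩
    simpa only [hq, map_mul, map_inv, h1, h2] using pt
  have QA : ∀ x : V, NX.κ V p (NX.κ V c x) = NX.κ V c (NX.κ V p x) := fun x => by
    rw [← hQ, ← hQ, ← NX.κ_mul, ← NX.κ_mul]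
    refine NX.κ_congr h.toTri ?_ x
    rw [mul_inv_rev, qi, ← mul_assoc, hw, mul_inv_cancel_right]
    exact w.2
  have Aw : NX.κ V c w = w := Subtype.ext (by
    have : w * c * (w * c) = 1 := by
      rw [← hw]
      calc _ = q * c * (q * q) * c * q := by group
        _ = q * (c * c) * q := by rw [qq]; group
        _ = 1 := by rw [cc, mul_one, qq]
    rw [NX.hκ, ci, ← h.inv_eq w.2]
    nth_rewrite 1 [h.inv_eq w.2]
    exact eq_inv_of_mul_eq_one_right (by rw [← this]; group))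
  have Pw : NX.κ V p w = w := by
    rw [← hQ]
    refine Subtype.ext (Eq.trans ?_ (h.inv_eq w.2))
    have : q * w * q * (w * c) = c := by
      rw [← hw]
      calc _ = q * (w * (q * q) * c) * q := by group
        _ = q * (q * c * q) * q := by rw [qq, mul_one, hw]
        _ = q * q * c * (q * q) := by group
        _ = c := by rw [qq, mul_one, one_mul]
    rw [NX.hκ, qi]
    exact eq_inv_of_mul_eq_one_left (mul_right_cancel (b := c) (by rw [one_mul, mul_assoc, this]))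
  obtain ⟨u, Au, hu⟩ : ∃ u : V, NX.κ V c u = u ∧ w = u * NX.κ V q u :=
    ⟨_, m'.fr Aw, by rw [hQ]; exact fx w Pw⟩
  have cu := NX.κ_iff.1 Au
  have h3 := NX.shiftρ (NX.shift h' u.2) hσ
  have c2 : c * u * (c * u) = 1 := by
    calc _ = c * (u * c) * u := by group
      _ = c * c * (u * u) := by rw [← cu]; group
      _ = 1 := by rw [cc, h.el _ u.2, one_mul]
  have qc : q * (c * u) * q = c * u := by
    have e : w * NX.κ V q u = u := by rw [hu, mul_assoc, m.el, mul_one]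
    calc _ = q * c * q * (q * u * q⁻¹) := by
          rw [qi]
          calc _ = q * c * 1 * u * q := by group
            _ = _ := by rw [← qq]; group
      _ = c * (w * NX.κ V q u : V) := by rw [hw, ← NX.κ_iff.1 Aw, mul_assoc]; rfl
      _ = _ := by rw [e]
  -- a vector fixed by `p` and moved by `c`
  obtain ⟨a, Pa, Aa⟩ : ∃ a : V, NX.κ V p a = a ∧ NX.κ V c a ≠ a := by
    have PP : ∀ x : V, NX.κ V p (NX.κ V p x) = x := fun x => by
      rw [← NX.κ_mul, NX.κ_mem h.toTri p2]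
    have fP : ∀ x : V, NX.κ V p (x * NX.κ V p x) = x * NX.κ V p x := fun x => by
      rw [map_mul, PP, mul_comm]
    obtain ⟨g, x, hx, -, e2⟩ := h'.mv
    obtain ⟨a, ha⟩ : ∃ a : V, NX.κ V c a ≠ a := ⟨⟨_, h.cj hx g⟩, fun e => e2 (NX.κ_iff.1 e)⟩
    by_cases e : NX.κ V c (a * NX.κ V p a) = a * NX.κ V p a
    · refine ⟨_, fP (NX.κ V ρ a), fun e' => ha ?_⟩
      have e3 := m'.fr (m'.fr e)
      have e4 : NX.κ V ρ (NX.κ V ρ (a * NX.κ V p a)) * (NX.κ V ρ a * NX.κ V p (NX.κ V ρ a)) = a := by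
        rw [map_mul, map_mul, ← Pr, m.rr, mul_mul_mul_comm, mul_assoc a, m.el, m.el, mul_one,
          mul_one]
      rw [← e4, map_mul, e3, e']
    · exact ⟨_, fP a, e⟩
  obtain ⟨z, y, R, z1, -, -, hV, rot, fus, e1, e2⟩ := NX.core h3 c2 a.2 fun e =>
    Aa (NX.κ_iff.2 ((h.comm_mul a.2 u.2 c).1 e))
  have σi : σ⁻¹ = σ * σ := inv_eq_of_mul_eq_one_left h3.r3
  have qa : q * a * q = a := by
    have := congrArg Subtype.val ((hQ a).trans Pa)
    rwa [NX.hκ, qi] at this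
  have k : ∀ x : X, q * x * q = x → q * (σ * x * σ⁻¹) * q = σ * (σ * x * σ⁻¹) * σ⁻¹ := fun x e => by
    have e' : q * σ⁻¹ * q = σ := by
      rw [← qσ]
      calc _ = q * q * σ * (q * q) := by group
        _ = σ := by rw [qq]; group
    calc _ = q * σ * 1 * x * 1 * σ⁻¹ * q := by group
      _ = q * σ * q * (q * x * q) * (q * σ⁻¹ * q) := by rw [← qq]; group
      _ = σ * σ * x * (σ * σ)⁻¹ := by rw [qσ, e, e', ← σi, inv_inv]
      _ = _ := by group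
  obtain ⟨r0, r1, r2, r3, r4, r5, r6, r7, r8, r9, r10, r11, r12, r13, r14, r15, r16, r17, r18, r19,
    r20⟩ := R
  obtain ⟨l, la, lb, lc, ld, rfl, rfl, -⟩ := L128.model ⟨r0, r1, r2, r3, r4, r5, r6, r7, r8, r9, r10,
    r11, r12, r13, r14, r15, r16, r17, r18, r19, r20, qq, qa, (k _ qa).trans e1, qc,
    (k _ qc).trans e2⟩
  have hl : Function.Injective l := (injective_iff_map_eq_one _).2 fun u hu => by
    rcases (by decide +kernel : ∀ u : L128.E, u = 1 ∨ u = L128.z ∨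
      ∃ k ∈ [L128.a, L128.b, L128.c, L128.d, L128.p], u * k * u⁻¹ * k⁻¹ = L128.z ∨
      ∃ k' ∈ [L128.a, L128.b, L128.c, L128.d, L128.p],
        (u * k * u⁻¹ * k⁻¹) * k' * (u * k * u⁻¹ * k⁻¹)⁻¹ * k'⁻¹ = L128.z ∨
      ∃ k'' ∈ [L128.a, L128.b, L128.c, L128.d, L128.p],
        ((u * k * u⁻¹ * k⁻¹) * k' * (u * k * u⁻¹ * k⁻¹)⁻¹ * k'⁻¹) * k'' *
          ((u * k * u⁻¹ * k⁻¹) * k' * (u * k * u⁻¹ * k⁻¹)⁻¹ * k'⁻¹)⁻¹ * k''⁻¹ = L128.z) u with
      e | e | ⟨k, -, e | ⟨k', -, e | ⟨k'', -, e⟩⟩⟩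
    exacts [e, absurd (e ▸ hu) z1, absurd (e ▸ NX.cm hu k) z1,
      absurd (e ▸ NX.cm (NX.cm hu k) k') z1, absurd (e ▸ NX.cm (NX.cm (NX.cm hu k) k') k'') z1]
  exact ⟨l, ⟨hl, NX.syl hl (n := 7) L128.card hc, NX.mem (z := L128.z) (y := L128.y)
    (by decide +kernel) (by rwa [lb, la]), by rwa [map_mul], fus⟩,
    isConj_iff.2 ⟨σ, by rw [lc, ld]⟩⟩

end H83.G2
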