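import Cfsg.Agent.Lib.GH2.Def

/-! GH2, package UA: the frame inside the Sylow subgroup of order 128 (helper83) -/

set_option autoImplicit false

namespace H83.G2
open Subgroup Cfsg H69 H45 Gold H31.X32 H31.X32.SD

theorem R.map' {L Y : Type*} [Group L] [Group Y] {e : EP →* L} {u : L} {ν : SD EP WP} (a : R e u ν)
    (l : L →* Y) : R (l.comp e) (l u) ν := fun v => by
  simpa only [map_mul, map_inv, MonoidHom.comp_apply] using congrArg l (a v)

open H70.Q32 H31.W72 in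
theorem fp_dec : ∀ ν : SD EP WP, cj ν (a * a * a * c) = a * a * a * c ∨ cj ν (a * a * a * c) = a * a * a * c * zP ∨
    ∃ i j : Fin 2, ((s * (t * x * s * t * x) * ν.r * (s * (t * x * s * t * x)) * ν.r⁻¹) *
      (s * (s * (t * x * s * t * x) * ν.r * (s * (t * x * s * t * x)) * ν.r⁻¹) * s) ^ i.1) ^ (j.1 + 1) = x * y ∨
      ((s * (t * x * s * t * x) * ν.r * (s * (t * x * s * t * x)) * ν.r⁻¹) *
      (s * (s * (t * x * s * t * x) * ν.r * (s * (t * x * s * t * x)) * ν.r⁻¹) * s) ^ i.1) ^ (j.1 + 1) =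
        s * t * x * (x * y) * (s * t * x)⁻¹ := by
  decide +kernel

/-- the frame inside the model -/
theorem ex_e : ∃ e : EP →* L128.E, e zP = L128.z ∧ e (H70.Q32.a * H70.Q32.a * H70.Q32.a * H70.Q32.c) = L128.y ∧
    (∀ K : Subgroup L128.E, e.range ≤ K ↔ L128.a ∈ K ∧ L128.c ∈ K ∧ L128.p ∈ K ∧ L128.y ∈ K ∧ L128.z ∈ K) ∧
    R e L128.b s0 ∧ R e L128.d ⟨H70.Q32.b * H70.Q32.a * H70.Q32.d,
      H31.W72.t * H31.W72.x * H31.W72.s * H31.W72.t * H31.W72.x⟩ := by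
  obtain ⟨e, e1, e2, e3, e4⟩ := H70.Q32.model (a' := L128.c * L128.a * L128.z)
    (b' := L128.p * L128.y * L128.a) (c' := L128.c * L128.y * L128.a * L128.z) (d' := L128.p * L128.y)
    (by decide +kernel)
  have ez : e zP = L128.z := by
    rw [show zP = H70.Q32.a * H70.Q32.a by decide +kernel, map_mul, e1]; decide +kernel
  have ey : e (H70.Q32.a * H70.Q32.a * H70.Q32.a * H70.Q32.c) = L128.y := by
    simp only [map_mul, e1, e3]; decide +kernel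
  refine ⟨e, ez, ey, fun K => ⟨fun h => ⟨h ⟨H70.Q32.a * H70.Q32.a * H70.Q32.b * H70.Q32.d, ?_⟩,
    h ⟨H70.Q32.a * H70.Q32.b * H70.Q32.d, ?_⟩, h ⟨H70.Q32.a * H70.Q32.c * H70.Q32.d, ?_⟩, h ⟨_, ey⟩,
    h ⟨_, ez⟩⟩, fun ⟨h1, h2, h3, h4, h5⟩ => ?_⟩, R.of_gens ?_ ?_ ?_ ?_, R.of_gens ?_ ?_ ?_ ?_⟩
  · simp only [map_mul, e1, e2, e4]; decide +kernel
  · simp only [map_mul, e1, e2, e4]; decide +kernel
  · simp only [map_mul, e1, e3, e4]; decide +kernel
  · rintro _ ⟨u, rfl⟩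
    exact (H70.Q32.eq_top (K := K.comap e) (by rw [mem_comap, e1]; exact mul_mem (mul_mem h2 h1) h5)
      (by rw [mem_comap, e2]; exact mul_mem (mul_mem h3 h4) h1)
      (by rw [mem_comap, e3]; exact mul_mem (mul_mem (mul_mem h2 h4) h1) h5)
      (by rw [mem_comap, e4]; exact mul_mem h3 h4)).ge (mem_top u)
  · rw [show SD.cj s0 H70.Q32.a = H70.Q32.c by decide +kernel, e1, e3]; decide +kernel
  · rw [show SD.cj s0 H70.Q32.b = H70.Q32.d by decide +kernel, e2, e4]; decide +kernel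
  · rw [show SD.cj s0 H70.Q32.c = H70.Q32.a by decide +kernel, e1, e3]; decide +kernel
  · rw [show SD.cj s0 H70.Q32.d = H70.Q32.b by decide +kernel, e2, e4]; decide +kernel
  · rw [show SD.cj _ H70.Q32.a = H70.Q32.c by decide +kernel, e1, e3]; decide +kernel
  · rw [show SD.cj _ H70.Q32.b = H70.Q32.c * H70.Q32.d by decide +kernel, map_mul, e2, e3, e4]
    decide +kernel
  · rw [show SD.cj _ H70.Q32.c = H70.Q32.a by decide +kernel, e1, e3]; decide +kernel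
  · rw [show SD.cj _ H70.Q32.d = H70.Q32.b * H70.Q32.a by decide +kernel, map_mul, e1, e2, e4]
    decide +kernel

/-- a normal frame, and an element moving `y`, give a fixed point free element of order three -/
theorem fp {Y : Type*} [Group Y] {a b c d z y p : Y} (r : L128.Rel a b c d z y p) (z1 : z ≠ 1)
    (cz : ∀ g, g * z = z * g) {Q : Subgroup Y} [Q.Normal] (ha : a ∈ Q) (hc : c ∈ Q) (hp : p ∈ Q)
    (hy : y ∈ Q) (hz : z ∈ Q) (hn : ∀ K : Subgroup Y, a ∈ K → c ∈ K → p ∈ K → y ∈ K → z ∈ K →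
      ∀ x ∈ Q, x * x = z → x ∈ K) {g : Y} (h1 : g * y * g⁻¹ ≠ y) (h2 : g * y * g⁻¹ ≠ y * z) :
    ∃ (φ : EP →* Y) (ρ m : Y), φ zP = z ∧ R φ ρ r0 ∧ m * m = 1 ∧ R φ m s0 := by
  obtain ⟨l, rfl, rfl, rfl, rfl, rfl, rfl, rfl⟩ := L128.model r
  obtain ⟨e, ez, ey, eK, rb, rd⟩ := ex_e
  have fz : (l.comp e) zP = l L128.z := congrArg l ez
  have fy : (l.comp e) (H70.Q32.a * H70.Q32.a * H70.Q32.a * H70.Q32.c) = l L128.y := congrArg l ey
  have hQ : ∀ u, (l.comp e) u ∈ Q := fun u => (eK (Q.comap l)).2 ⟨ha, hc, hp, hy, hz⟩ ⟨u, rfl⟩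
  obtain ⟨m1, m2, m3, m4, m5⟩ := (eK ((l.comp e).range.comap l)).1 (by
    rintro _ ⟨u, rfl⟩; exact ⟨u, rfl⟩)
  have k : ∀ u : EP, u * u = zP → g * (l.comp e) u * g⁻¹ ∈ (l.comp e).range := fun u hu =>
    hn _ m1 m2 m3 m4 m5 _ (Normal.conj_mem inferInstance _ (hQ u) g) (by
      rw [conj_mul, ← map_mul, hu, fz, cz, mul_inv_cancel_right])
  obtain ⟨ν, a⟩ := exR (φ := l.comp e) (g := g) (fz ▸ z1) (fz ▸ cz g) fun u =>
    (H70.Q32.eq_top (K := (l.comp e).range.comap ((MulAut.conj g).toMonoidHom.comp (l.comp e)))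
      (k _ (by decide +kernel)) (k _ (by decide +kernel)) (k _ (by decide +kernel))
      (k _ (by decide +kernel))).ge (mem_top u)
  have xs : H31.W72.s ∈ X WP (l.comp e) := (R.map' rb l).memX
  have xd := (R.map' rd l).memX
  have x1 := mul_mem (mul_mem (mul_mem (mul_mem xs xd) a.memX) (mul_mem xs xd)) (inv_mem a.memX)
  rcases fp_dec ν with f | f | ⟨i, j, f⟩
  · exact absurd (fy ▸ a.eq f) h1
  · exact absurd (by rw [← fy, a.eq f, map_mul, fz]) h2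
  have x2 := pow_mem (mul_mem x1 (pow_mem (mul_mem (mul_mem xs x1) xs) i.1)) (j.1 + 1)
  rcases f with f | f
  · obtain ⟨ρ, b⟩ := f ▸ x2
    exact ⟨_, ρ, l L128.b, fz, b, r.2.1, R.map' rb l⟩
  · obtain ⟨ρ, b⟩ := (memX_tw (γ := (⟨H70.Q32.d, H31.W72.s * H31.W72.t * H31.W72.x⟩ : SD EP WP))).2 (f ▸ x2)
    exact ⟨_, ρ, l L128.d, by rw [tw_apply, mdP.cj_z, fz], b, r.2.2.2.1,
      ((R.map' rd l).tw _).congr (by decide +kernel)⟩

end H83.G2
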