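import Cfsg.Agent.Lib.GH2.YA
import Cfsg.Agent.Lib.GH2.UA0

/-! GH2, package UA: the frames in the centralizer of a central involution (helper83) -/

set_option autoImplicit false

namespace H83.G2
open Subgroup Cfsg H69 H45 Gold H31.X32 H31.X32.SD H70.TM

/-- `x` and `q` commute modulo `z` -/
def Cz {X : Type*} [Group X] (z x q : X) : Prop := x * q = q * x ∨ x * q = q * x * z

instance {X : Type*} [Group X] [DecidableEq X] (z x q : X) : Decidable (Cz z x q) := by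
  unfold Cz; infer_instance

variable {Y : Type*} [Group Y] [Finite Y]

/-- `x` centralizes `O₂` modulo `z` -/
def Dp (z x : Y) : Prop := ∀ q ∈ pCore 2 Y, Cz z x q

/-- a model of the Sylow subgroup -/
structure Su {L : Type} [Group L] (l : L →* Y) (z y : L) : Prop where
  ys : Ys (l z)
  syl : IsSylowIn 2 l.range ⊤
  inj : Function.Injective l
  cy : ∀ u, Cz z y u
  y2 : y * y = 1
  y1 : y ≠ 1
  yz : y ≠ z

omit [Finite Y] in
theorem inj_cen {E : Type} [Group E] [Finite E] {z : E} (h2 : IsPGroup 2 E)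
    (hc : ∀ u : E, (∀ k, k * u = u * k) → u = 1 ∨ u = z) {f : E →* Y} (hf : f z ≠ 1) :
    Function.Injective f := by
  rw [← MonoidHom.ker_eq_bot_iff]
  by_contra hn
  obtain ⟨⟨u, hu⟩, u1⟩ := (ne_bot_iff_exists_ne_one).1 (inf_centralizer_ne_bot (h2.to_subgroup f.ker)
    (h2.to_subgroup ⊤) le_normalizer_of_normal hn)
  exact hf ((hc u fun k => hu.2 k (mem_top k)).resolve_left (fun e => u1 (Subtype.ext e)) ▸ hu.1)

namespace Su
variable {L : Type} [Group L] {l : L →* Y} {z y : L} (h : Su l z y)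
include h

theorem ex {q : Y} (hq : q ∈ pCore 2 Y) : ∃ u, l u = q :=
  h.syl.le_of_le_normalizer H1.isPGroup_pCore le_top le_normalizer_of_normal hq

omit h [Finite Y] in
theorem map {u v : L} (e : Cz z u v) : Cz (l z) (l u) (l v) := by
  simpa only [Cz, map_mul] using e.imp (congrArg l) (congrArg l)

omit [Finite Y] in
theorem of_map {u v : L} (e : Cz (l z) (l u) (l v)) : Cz z u v :=
  e.imp (fun e => h.inj (by simpa only [map_mul] using e)) fun e => h.inj (by simpa only [map_mul] using e)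

theorem dy : Dp (l z) (l y) := fun q hq => by
  obtain ⟨u, rfl⟩ := h.ex hq
  exact map (h.cy u)

omit [Finite Y] in
theorem dcj {x : Y} (hx : Dp (l z) x) (g : Y) : Dp (l z) (g * x * g⁻¹) := fun q hq =>
  (hx _ (Normal.conj_mem' inferInstance q hq g)).imp
    (fun e => by
      calc g * x * g⁻¹ * q = g * (x * (g⁻¹ * q * g)) * g⁻¹ := by group
        _ = _ := by rw [e]; group)
    fun e => by
      calc g * x * g⁻¹ * q = g * (x * (g⁻¹ * q * g)) * g⁻¹ := by group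
        _ = q * (g * x * (l z * g⁻¹)) := by rw [e]; group
        _ = _ := by rw [← h.ys.cz]; group

omit [Finite Y] in
theorem dcl {w : L} (hx : Dp (l z) (l w)) (u : L) : Dp (l z) (l (u * w * u⁻¹)) := by
  simpa only [map_mul, map_inv] using h.dcj hx (l u)

omit [Finite Y] in
theorem dof {w u v : L} (hx : Dp (l z) (l w)) (e : u * v * u⁻¹ = w) : Dp (l z) (l v) := by
  have := h.dcl hx u⁻¹
  rwa [← e, show u⁻¹ * (u * v * u⁻¹) * u⁻¹⁻¹ = v by group] at this

omit [Finite Y] in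
theorem dmul {v w : L} (hv : Dp (l z) (l v)) (hw : Dp (l z) (l w)) : Dp (l z) (l (v * w)) := fun q hq => by
  rw [map_mul]
  have k : ∀ {a b : Y}, a * q = b → ∀ t, a * (q * t) = b * t := fun e t => by rw [← mul_assoc, e]
  have kz : ∀ g t : Y, l z * (g * t) = g * (l z * t) := fun g t => by rw [← mul_assoc, ← h.ys.cz, mul_assoc]
  rcases hv q hq with e | e <;> rcases hw q hq with f | f
  · exact .inl (by rw [mul_assoc, f, k e, mul_assoc])
  · exact .inr (by rw [mul_assoc, f, mul_assoc, k e]; simp only [mul_assoc])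
  · exact .inr (by rw [mul_assoc, f, k e]; simp only [mul_assoc, h.ys.cz])
  · exact .inl (by rw [mul_assoc, f, mul_assoc, k e]; simp only [mul_assoc, kz, h.ys.z2, mul_one])

theorem mem {w : L} (hw : Dp (l z) (l w)) : l w ∈ pCore 2 Y := h.ys.chz hw

omit [Finite Y] in
theorem cz {w u : L} (hw : Dp (l z) (l w)) (hu : l u ∈ pCore 2 Y) : Cz z w u := h.of_map (hw _ hu)

theorem conj (k : Y) : ∃ w, k * l y * k⁻¹ = l w ∧ w * w = 1 ∧ w ≠ 1 ∧ w ≠ z ∧ Dp (l z) (l w) := by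
  obtain ⟨w, e⟩ := h.ex (h.ys.chz (h.dcj h.dy k))
  refine ⟨w, e.symm, h.inj ?_, fun f => h.y1 (h.inj ?_), fun f => h.yz (h.inj ?_), e ▸ h.dcj h.dy k⟩
  · rw [map_mul, e, conj_mul, ← map_mul, h.y2, map_one]; group
  · rw [f, map_one] at e; rw [map_one]; exact conj_eq_one_iff.1 e.symm
  · rw [f, eq_mul_inv_iff_mul_eq, ← h.ys.cz] at e; exact (mul_left_cancel e).symm

omit [Finite Y] in
theorem comm (hc : ∀ k, k * l y * k⁻¹ * l y = l y * (k * l y * k⁻¹)) {k k' : Y} {w w' : L}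
    (e : k * l y * k⁻¹ = l w) (e' : k' * l y * k'⁻¹ = l w') : w * w' = w' * w := h.inj (by
  rw [map_mul, map_mul, ← e, ← e']
  calc k * l y * k⁻¹ * (k' * l y * k'⁻¹)
      = k' * (k'⁻¹ * k * l y * (k'⁻¹ * k)⁻¹ * l y) * k'⁻¹ := by group
    _ = _ := by rw [hc]; group)

omit h [Finite Y] in
theorem cjl {k : Y} {w : L} (e : k * l y * k⁻¹ = l w) (u : L) :
    l u * k * l y * (l u * k)⁻¹ = l (u * w * u⁻¹) := by
  rw [map_mul, map_mul, map_inv, ← e]; group

omit h [Finite Y] in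
theorem nf {K : Subgroup Y} {a c p : L} (h1 : l a ∈ K) (h2 : l c ∈ K) (h3 : l p ∈ K) (h4 : l y ∈ K)
    (h5 : l z ∈ K) {u : L}
    (e : ∃ i j k m n : Fin 2, u = a ^ i.1 * c ^ j.1 * p ^ k.1 * y ^ m.1 * z ^ n.1) : l u ∈ K := by
  obtain ⟨i, j, k, m, n, rfl⟩ := e
  simp only [map_mul, map_pow]
  exact mul_mem (mul_mem (mul_mem (mul_mem (pow_mem h1 _) (pow_mem h2 _)) (pow_mem h3 _)) (pow_mem h4 _))
    (pow_mem h5 _)

theorem no9 {x u v : L} (e : u * v * u⁻¹ * v⁻¹ = x) (x2 : x * x = 1) (hx : l x ∉ pCore 2 Y) :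
    9 ∣ Nat.card Y :=
  (h.ys.a8 (x := l x) (by
    rw [← e, map_mul, map_mul, map_mul, map_inv, map_inv]
    exact commutator_mem_commutator (mem_top _) (mem_top _))
    (by rw [← map_mul, x2, map_one]; exact one_mem _) hx).1

end Su

open L128 in
theorem fin7 {l : L128.E →* Y} (h : Su l z y) (ha : Dp (l z) (l a)) (hc : l c ∈ pCore 2 Y)
    (hp : l p ∈ pCore 2 Y) {g : Y} (h1 : g * l y * g⁻¹ ≠ l y) (h2 : g * l y * g⁻¹ ≠ l y * l z) :
    ∃ (φ : EP →* Y) (ρ m : Y), φ zP = l z ∧ R φ ρ r0 ∧ m * m = 1 ∧ R φ m s0 :=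
  fp (rel.map l) h.ys.z1 h.ys.cz (h.mem ha) hc hp (h.mem h.dy) h.ys.zQ (fun K k1 k2 k3 k4 k5 x hx e => by
    obtain ⟨u, rfl⟩ := h.ex hx
    exact Su.nf k1 k2 k3 k4 k5 ((by decide +kernel : ∀ u : L128.E, Cz z a u → u * u = z →
      ∃ i j k m n : Fin 2, u = a ^ i.1 * c ^ j.1 * p ^ k.1 * y ^ m.1 * z ^ n.1) u (h.cz ha hx)
      (h.inj (by rw [map_mul, e])))) h1 h2

open L128 in
theorem core7 {l : L128.E →* Y} (h : Su l z y) (hc : ∀ k, k * l y * k⁻¹ * l y = l y * (k * l y * k⁻¹))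
    {g : Y} {w : L128.E} (e : g * l y * g⁻¹ = l w) (h1 : w ≠ y) (h2 : w ≠ y * z)
    (wa : w * a = a * w) (wb : w * b = b * w) :
    ∃ (φ : EP →* Y) (ρ m : Y), φ zP = l z ∧ R φ ρ r0 ∧ m * m = 1 ∧ R φ m s0 := by
  obtain ⟨w', e', w2, w1, wz, hw⟩ := h.conj g
  obtain rfl : w' = w := h.inj (e'.symm.trans e)
  have yy : (1 : Y) * l y * 1⁻¹ = l y := by group
  have hV : ∀ {k v}, k * l y * k⁻¹ = l v → v * a = a * v ∧ v * b = b * v := fun {k v} f =>
    (by decide +kernel : ∀ w : L128.E, w * a = a * w → w * b = b * w → w ≠ 1 → w ≠ z → w ≠ y → w ≠ y * z →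
      ∀ v, v * y = y * v → v * w = w * v → v * a = a * v ∧ v * b = b * v) w' wa wb w1 wz h1 h2 v
      (h.comm hc f yy) (h.comm hc f e)
  by_cases B : ∀ k v, k * l y * k⁻¹ = l v → Cz z p v
  swap
  · push Not at B
    obtain ⟨k, v, f, B⟩ := B
    obtain ⟨v', f', -, -, -, hv⟩ := h.conj k
    obtain rfl : v' = v := h.inj (f'.symm.trans f)
    obtain ⟨u, hu⟩ := (by decide +kernel : ∀ v : L128.E, v * a = a * v → v * b = b * v → ¬ Cz z p v →
      ∃ u, u * b * u⁻¹ = v) v' (hV f).1 (hV f).2 B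
    have db := h.dof hv hu
    have da : Dp (l z) (l a) := (by decide +kernel : b * (p * b * p⁻¹) = a) ▸ h.dmul db (h.dcl db p)
    refine absurd (h.no9 (x := c) (u := p) (v := d) (by decide +kernel) (by decide +kernel) fun f =>
      absurd (h.cz db f) (by decide +kernel)) (h.ys.no9 (fun x hx => ?_) ?_)
    · obtain ⟨u, rfl⟩ := h.ex hx
      rw [← map_mul, (by decide +kernel : ∀ u : L128.E, Cz z a u → Cz z b u → u * u = 1) u
        (h.cz da hx) (h.cz db hx), map_one]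
    · have : pCore 2 Y = (El.sub (fun u => Cz z a u ∧ Cz z b u) (by decide +kernel)).map l :=
        le_antisymm (fun x hx => by
          obtain ⟨u, rfl⟩ := h.ex hx
          exact ⟨u, ⟨h.cz da hx, h.cz db hx⟩, rfl⟩) (by
          rintro _ ⟨u, hu, rfl⟩
          exact Su.nf (h.mem da) (h.mem db) (h.mem db) (h.mem h.dy) h.ys.zQ
            ((by decide +kernel : ∀ u : L128.E, Cz z a u ∧ Cz z b u →
            ∃ i j k m n : Fin 2, u = a ^ i.1 * b ^ j.1 * b ^ k.1 * y ^ m.1 * z ^ n.1) u hu))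
      rw [this, card_map_of_injective h.inj]
      exact (El.card_subtype fun u => Cz z a u ∧ Cz z b u).trans (by decide +kernel)
  obtain ⟨u, hu⟩ := (by decide +kernel : ∀ w : L128.E, w * a = a * w → w * b = b * w → w ≠ 1 → w ≠ z →
    w ≠ y → w ≠ y * z → Cz z p w → ∃ u, u * w * u⁻¹ = a) w' wa wb w1 wz h1 h2 (B _ _ e)
  have ea := hu ▸ Su.cjl e u
  have da : Dp (l z) (l a) := hu ▸ h.dcl hw u
  let N : Subgroup Y := (El.sub (fun u => u * a = a * u ∧ u * b = b * u ∧ Cz z p u) (by decide +kernel)).map l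
  have mN : ∀ k, k * l y * k⁻¹ ∈ N := fun k => by
    obtain ⟨v, f, -⟩ := h.conj k
    exact ⟨v, ⟨(hV f).1, (hV f).2, B _ _ f⟩, f.symm⟩
  have aN : l a ∈ N := ea ▸ mN _
  have yN : l y ∈ N := yy ▸ mN _
  have : N.Normal := ⟨by
    rintro _ ⟨u, hu, rfl⟩ k
    refine Su.nf (z := z) (y := y) (a := a) (c := a) (p := a) (K := N.comap (MulAut.conj k).toMonoidHom)
      ?_ ?_ ?_ (mN k) ?_ ((by decide +kernel : ∀ u : L128.E, u * a = a * u ∧ u * b = b * u ∧ Cz z p u →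
        ∃ i j k m n : Fin 2, u = a ^ i.1 * a ^ j.1 * a ^ k.1 * y ^ m.1 * z ^ n.1) u hu)
    iterate 3
      show k * l a * k⁻¹ ∈ N
      rw [← ea, show ∀ s : Y, k * (s * l y * s⁻¹) * k⁻¹ = k * s * l y * (k * s)⁻¹ from fun s => by group]
      exact mN _
    show k * l z * k⁻¹ ∈ N
    rw [h.ys.cz, mul_inv_cancel_right]
    exact ⟨z, (by decide +kernel : z * a = a * z ∧ z * b = b * z ∧ Cz z p z), rfl⟩⟩
  have key : ∀ x : L128.E, ((∀ u, Cz z a u → ∀ v, v * a = a * v ∧ v * b = b * v ∧ Cz z p v →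
      v * (x * u * x⁻¹ * u⁻¹) = x * u * x⁻¹ * u⁻¹ * v) ∧ (∀ u, a * u = u * a → y * u = u * y →
      (fun u => u * a = a * u ∧ u * b = b * u ∧ Cz z p u) (x * u * x⁻¹ * u⁻¹)) ∧
      ∀ u, u * a = a * u ∧ u * b = b * u ∧ Cz z p u → x * u * x⁻¹ * u⁻¹ = 1 ∨ x * u * x⁻¹ * u⁻¹ = z) →
      l x ∈ pCore 2 Y := fun x ⟨k1, k2, k3⟩ => by
    have m : ∀ u, l x * l u * (l x)⁻¹ * (l u)⁻¹ = l (x * u * x⁻¹ * u⁻¹) := fun u => by
      simp only [map_mul, map_inv]
    refine h.ys.ch (A := pCore 2 Y ⊓ 𝐂(N)) (B := N) (C := center Y) (fun q hq => mem_inf.2 ⟨mul_mem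
      (Normal.conj_mem inferInstance q hq _) (inv_mem hq), ?_⟩) (fun q hq => ?_) ?_
      fun q hq => mem_center_iff.1 hq _
    · obtain ⟨u, rfl⟩ := h.ex hq
      rintro _ ⟨v, hv, rfl⟩
      rw [m, ← map_mul, ← map_mul, k1 u (h.cz da hq) v hv]
    · obtain ⟨u, rfl⟩ := h.ex hq.1
      exact m u ▸ ⟨_, k2 u (h.inj (by rw [map_mul, map_mul, hq.2 _ aN]))
        (h.inj (by rw [map_mul, map_mul, hq.2 _ yN])), rfl⟩
    · rintro _ ⟨u, hu, rfl⟩
      rw [m]
      rcases k3 u hu with f | f <;> rw [f]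
      exacts [map_one l ▸ one_mem _, mem_center_iff.2 h.ys.cz]
  exact fin7 h da (key c (by decide +kernel)) (key p (by decide +kernel)) (g := g)
    (fun f => h1 (h.inj (e.symm.trans f))) fun f => h2 (h.inj (by rw [map_mul, ← e, f]))

theorem Ys.ua7 {l : L128.E →* Y} (h : Ys (l L128.z)) (hS : IsSylowIn 2 l.range ⊤) {g : Y}
    (h1 : g * l L128.y * g⁻¹ ≠ l L128.y) (h2 : g * l L128.y * g⁻¹ ≠ l L128.y * l L128.z) :
    ∃ (φ : EP →* Y) (ρ m : Y), φ zP = l L128.z ∧ R φ ρ r0 ∧ m * m = 1 ∧ R φ m s0 := by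
  open L128 in
  have mk : ∀ {l : L128.E →* Y}, Ys (l z) → IsSylowIn 2 l.range ⊤ → Su l z y := fun h hS =>
    ⟨h, hS, inj_cen (IsPGroup.of_card (n := 7) L128.card) (fun u f => (by decide +kernel : ∀ u : L128.E,
      a * u = u * a → b * u = u * b → c * u = u * c → d * u = u * d → p * u = u * p → u = 1 ∨ u = z) u
      (f _) (f _) (f _) (f _) (f _)) h.z1, by decide +kernel, by decide +kernel, by decide +kernel,
      by decide +kernel⟩
  have H := mk h hS
  open L128 in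
  by_cases hc : ∀ k, k * l y * k⁻¹ * l y = l y * (k * l y * k⁻¹)
  · obtain ⟨w, e, w2, -⟩ := H.conj g
    have n1 : w ≠ y := fun f => h1 (f ▸ e)
    have n2 : w ≠ y * z := fun f => h2 (by rw [e, f, map_mul])
    rcases (by decide +kernel : ∀ w : L128.E, w * w = 1 → w * y = y * w →
      (w * a = a * w ∧ w * b = b * w) ∨ (w * c = c * w ∧ w * d = d * w)) w w2
      (H.comm hc e (k' := 1) (by group)) with f | f
    · exact core7 H hc e n1 n2 f.1 f.2
    · obtain ⟨σ, e1, e2, e3, e4, e5, e6, e7⟩ := L128.model (by decide +kernel : L128.Rel c d a b z y p)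
      have sj : σ.range = ⊤ := L128.eq_top ⟨_, e3⟩ ⟨_, e4⟩ ⟨_, e1⟩ ⟨_, e2⟩ ⟨_, e5⟩ ⟨_, e6⟩ ⟨_, e7⟩
      have ez : (l.comp σ) z = l z := congrArg l e5
      have ey : (l.comp σ) y = l y := congrArg l e6
      have H' := mk (l := l.comp σ) (ez ▸ h) (by
        rwa [MonoidHom.range_comp, sj, ← MonoidHom.range_eq_map])
      obtain ⟨v, rfl⟩ := sj.ge (mem_top w)
      have si : Function.Injective σ := Function.Injective.of_comp (f := l) H'.inj
      exact ez ▸ core7 H' (ey ▸ hc) (w := v) (ey ▸ e) (fun f => n1 (by rw [f, e6]))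
        (fun f => n2 (by rw [f, map_mul, e6, e5])) (si (by rw [map_mul, map_mul, e1, f.1]))
        (si (by rw [map_mul, map_mul, e2, f.2]))
  · push Not at hc
    obtain ⟨k, hk⟩ := hc
    obtain ⟨w, e, w2, -, -, hw⟩ := H.conj k
    obtain ⟨u, hu⟩ := (by decide +kernel : ∀ w : L128.E, w * w = 1 → w * y ≠ y * w →
      ∃ u, u * p * u⁻¹ = w) w w2 fun f => hk (by rw [e, ← map_mul, f, map_mul])
    have dp := H.dof hw hu
    exact fin7 H ((by decide +kernel : p * (b * p * b⁻¹) = a) ▸ H.dmul dp (H.dcl dp b))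
      (H.mem ((by decide +kernel : p * (d * p * d⁻¹) = c) ▸ H.dmul dp (H.dcl dp d))) (H.mem dp) h1 h2

open L256 in
theorem minus {l : L256.E →* Y} (h : Su l z y) (d1 : Dp (l z) (l (q * p))) : False := by
  have d2 : Dp (l z) (l (q * p * c * a)) :=
    (by decide +kernel : a * (q * p) * a⁻¹ = q * p * c * a) ▸ h.dcl d1 a
  have d3 : Dp (l z) (l (q * d * p * b)) :=
    (by decide +kernel : b * (q * p) * b⁻¹ = q * d * p * b) ▸ h.dcl d1 b
  obtain ⟨e, e1, e2, e3, e4⟩ := H31.QM.model (a' := y * (q * p)) (b' := q * p * (q * p * c * a))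
    (c' := q * d * p * b * (y * (q * p) * (q * p * c * a) * (q * d * p * b))) (d' := q * d * p * b)
    (by decide +kernel)
  have ez : (l.comp e) zM = l z := congrArg l (by
    rw [show zM = H31.QM.a * H31.QM.a by decide +kernel, map_mul, e1]; decide +kernel)
  have y0 := h.mem h.dy
  have hQ : (l.comp e).range = pCore 2 Y := le_antisymm (by
    rintro _ ⟨u, rfl⟩
    refine (H31.QM.eq_top (K := (pCore 2 Y).comap (l.comp e)) ?_ ?_ ?_ ?_).ge (mem_top u) <;>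
      rw [mem_comap, MonoidHom.comp_apply]
    exacts [e1 ▸ h.mem (h.dmul h.dy d1), e2 ▸ h.mem (h.dmul d1 d2),
      e3 ▸ h.mem (h.dmul d3 (h.dmul (h.dmul (h.dmul h.dy d1) d2) d3)), e4 ▸ h.mem d3]) fun x hx => by
    obtain ⟨u, rfl⟩ := h.ex hx
    obtain ⟨i, j, k, m, rfl⟩ := (by decide +kernel : ∀ u : L256.E, Cz z (q * p) u → Cz z (q * p * c * a) u →
      Cz z (q * d * p * b) u → ∃ (i : Fin 4) (j k m : Fin 2), u = (y * (q * p)) ^ i.1 *
        (q * p * (q * p * c * a)) ^ j.1 * (q * d * p * b * (y * (q * p) * (q * p * c * a) *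
        (q * d * p * b))) ^ k.1 * (q * d * p * b) ^ m.1) u (h.cz d1 hx) (h.cz d2 hx) (h.cz d3 hx)
    exact ⟨H31.QM.a ^ i.1 * H31.QM.b ^ j.1 * H31.QM.c ^ k.1 * H31.QM.d ^ m.1, by
      simp only [MonoidHom.comp_apply, map_mul e, map_pow e, e1, e2, e3, e4]⟩
  have z1 : (l.comp e) zM ≠ 1 := ez ▸ h.ys.z1
  have k2 : ∀ u : EM, (∀ v, v * u = u * v) → u = 1 ∨ u = zM := by decide +kernel
  have inj := inj_cen (IsPGroup.of_card (n := 5) H31.QM.card) k2 z1
  have nd : ∀ x ∈ (l.comp e).range, (∀ y ∈ (l.comp e).range, y * x = x * y) →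
      x = 1 ∨ x = (l.comp e) zM := by
    rintro _ ⟨u, rfl⟩ f
    exact (k2 u fun v => inj (by rw [map_mul, map_mul, f _ ⟨v, rfl⟩])).imp
      (fun e => by rw [e, map_one]) (congrArg _)
  have F : Fr WM (l.comp e) zM := ⟨mdM, inj, ⟨⟨⟨_, rfl⟩, z1, ez ▸ h.ys.z2, fun x _ => ez ▸ h.ys.cz x, by
      rintro _ ⟨u, rfl⟩ _ ⟨v, rfl⟩
      exact Su.map ((by decide +kernel : ∀ u v : EM, Cz zM u v) u v), fun x hx f => nd x hx fun y hy =>
      (f y hy).symm, _, ⟨H31.QM.a, rfl⟩, _, ⟨H31.QM.b, rfl⟩, fun f => absurd (inj (by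
        simpa only [map_mul] using f : (l.comp e) (_ * _) = (l.comp e) (_ * _))) (by decide +kernel)⟩,
      fun g f => nd g (hQ ▸ h.ys.cen (hQ ▸ f)) f, fun g _ => hQ ▸ le_normalizer_of_normal (mem_top g)⟩,
    fun N hN _ f => by
      have : N.Normal := ⟨fun x hx g => f g (ez ▸ h.ys.cz g) x hx⟩
      exact hQ ▸ H1.le_pCore hN⟩
  have c1 := F.cardC
  rw [(eq_top_iff' _).2 fun g => mem_c.2 (ez ▸ h.ys.cz g), card_top] at c1
  have c2 := card_subgroup_dvd_card (X WM (l.comp e))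
  rw [H31.S5.card] at c2
  have c3 := h.no9 (x := a) (u := p) (v := b) (by decide +kernel) (by decide +kernel) fun f =>
    (by decide +kernel : ¬ (Cz z (q * p) a ∧ Cz z (q * p * c * a) a ∧ Cz z (q * d * p * b) a))
      ⟨h.cz d1 f, h.cz d2 f, h.cz d3 f⟩
  exact absurd ((c1 ▸ c3).trans (Nat.mul_dvd_mul_left 32 c2)) (by decide)

theorem Ys.ua8 {l : L256.E →* Y} (h : Ys (l L256.z)) (hS : IsSylowIn 2 l.range ⊤) {g : Y}
    (h1 : g * l L256.y * g⁻¹ ≠ l L256.y) (h2 : g * l L256.y * g⁻¹ ≠ l L256.y * l L256.z) :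
    ∃ (φ : EP →* Y) (ρ m : Y), φ zP = l L256.z ∧ R φ ρ r0 ∧ m * m = 1 ∧ R φ m s0 := by
  open L256 in
  have H : Su l z y := ⟨h, hS, inj_cen (IsPGroup.of_card (n := 8) L256.card) (fun u f =>
    (by decide +kernel : ∀ u : L256.E, a * u = u * a → b * u = u * b → c * u = u * c → d * u = u * d →
      p * u = u * p → u = 1 ∨ u = z) u (f _) (f _) (f _) (f _) (f _)) h.z1, by decide +kernel,
    by decide +kernel, by decide +kernel, by decide +kernel⟩
  open L256 in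
  by_cases hc : ∀ k, k * l y * k⁻¹ * l y = l y * (k * l y * k⁻¹)
  · obtain ⟨w, e, w2, w1, wz, -⟩ := H.conj g
    rcases (by decide +kernel : ∀ w : L256.E, w * w = 1 → w * y = y * w → w ≠ 1 → w ≠ z →
      w = y ∨ w = y * z ∨ ∃ u, u * w * u⁻¹ * w ≠ w * (u * w * u⁻¹)) w w2
      (H.comm hc e (k' := 1) (by group)) w1 wz with f | f | ⟨u, f⟩
    exacts [absurd (f ▸ e) h1, absurd (by rw [e, f, map_mul]) h2, absurd (H.comm hc (Su.cjl e u) e) f]
  · push Not at hc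
    obtain ⟨k, hk⟩ := hc
    obtain ⟨w, e, w2, -, -, hw⟩ := H.conj k
    obtain ⟨u, hu | hu⟩ := (by decide +kernel : ∀ w : L256.E, w * w = 1 → w * y ≠ y * w →
      ∃ u, u * p * u⁻¹ = w ∨ u * (q * p) * u⁻¹ = w) w w2 fun f => hk (by rw [e, ← map_mul, f, map_mul])
    · have dp := H.dof hw hu
      have da : Dp (l z) (l a) := (by decide +kernel : p * (b * p * b⁻¹) = a) ▸ H.dmul dp (H.dcl dp b)
      have dc : Dp (l z) (l c) := (by decide +kernel : p * (d * p * d⁻¹) = c) ▸ H.dmul dp (H.dcl dp d)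
      exact fp ((by decide +kernel : L128.Rel a b c d z y p).map l) h.z1 h.cz (H.mem da) (H.mem dc)
        (H.mem dp) (H.mem H.dy) h.zQ (fun K k1 k2 k3 k4 k5 x hx _ => by
          obtain ⟨u, rfl⟩ := H.ex hx
          exact Su.nf k1 k2 k3 k4 k5 ((by decide +kernel : ∀ u : L256.E, Cz z a u → Cz z c u → Cz z p u →
            ∃ i j k m n : Fin 2, u = a ^ i.1 * c ^ j.1 * p ^ k.1 * y ^ m.1 * z ^ n.1) u (H.cz da hx)
            (H.cz dc hx) (H.cz dp hx))) h1 h2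
    · exact (minus H (H.dof hw hu)).elim

theorem eqns_ua : True := by
  have := @Cz.eq_1.{0}
  have := @Dp.eq_1.{0}
  trivial

end H83.G2
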