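import Mathlib
import Cfsg.Agent.Base
import Cfsg.Agent.Lib.M12C.Tab

/-! a Sylow 2-subgroup of `L₃(4)` (helper83; generated) -/

set_option autoImplicit false
set_option maxRecDepth 100000

namespace H83.L64E
open H54 (Tr force band)
open H18.TC
noncomputable def T_0 : Tr := (.node (nat_lit 3) (.node (nat_lit 1) (.node (nat_lit 0) (.leaf (nat_lit 0x1acc4d8e218318bd8d4fc8a7648832c3d9410fc05fe03be813f4017600001c7f8e7fce1cc6e6620b38ff9c95d6486b50f827dc137e89b74004c80000e3cc6f66087f847fc28d013680eb607bb06de23571153a8b3d400ee000021338f99c2ad015e8057f82ffc1ada0eed4434a27a57ad4beea002a8000097d6496b0f3607fb01cda0fed047f827fca4dc53ee133789fbc006600004f38275c06ce237f13ff91f9c89fe64f73017f80ffc0af006f800088000134e8997414ba8afd478ec3b7611fb88ddc0cf007f8007f807fc000000001d3c8e5e424f4117a063d82dec14f8097c023e80df404fc017e)) (.leaf (nat_lit 0x5d8000139fa9dfd74aa3ab5141aaa4554ff728db93df2a2796ab135f8800220000772a3bf5070fa35fd472b2495a3ab31bd91a7d0dde865c633e300198000102aa83d547eb23158fbfa807d3e6d1fd68f5ae7bd7552c2af600066000028b714bba3eb318592d2d165689dfa507d2675937aeccb769db005d8000131fc99febe6e5dd7183d4c16a7eafbff7da8c4d3624d7ca71e401100000beee5e17058fc28fe66aeb49745cde2aef18f18c58c5af429fa003b800017cd4bfea676eb297475fc3bfe81b04138163bcb15e1eb38fb9c002200007dafbf77c4ade26ef81304058045fc247e7bb0be78441d821ec)))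 (.node (nat_lit 2) (.leaf (nat_lit 0x3b80000f3ae76570b3d853ec25f413fa0c2605d3104aa84d56223b1b1c0110000045ab23b5912aa86d5786a3bd52488d28c6453da1fed6a92b8c900198000180ecbdf661a3b171d81e8c27484a4433217592bbc95fbdaf3ec00cc0000247e131f0d594684a252591b2c8ff24b792739935cedfa36c51003b80000d794694a103e077f035981bcc0fbd073e8ac9e57cf113b885dc0088000022e59112c329819cc083e037f01ef60cfb4c26a5536669d34ce005500000a6e650f32aa795b3cbca05fd05178281c0a8f851fc71a9b994c01100000b8e8db9444eee24f79ea95094856ea2df57229b934c50f825fc)) (.leaf (nat_lit 0x3b800020e910ac89f694e94a01ef01f782bb40bdaa5835041832140f0800aa000088b2c4b95f0a6f4d395a1cb70de5c4f3e27d3bbdbddf29ef5cf001980001b2f0d5f86da237b11adb0da587a30bcd85a5e8d3f46c38353c0013200006e22379105df02ff85b24ae726c6b766db187a8c9d468e2337100088000152b0aad85be4ad1254df0a878a462d11158a8ec7c7526aa975400aa000089b0c4386c8b767dba1a2d1f161df10ff88a2fc477e2ab318d9002200000ddf4727a36fc9c5e4e6ae76d738251b329daa8ebd4bfae5e570000000001efd907ecf1ae7557203c903e4869644cb46ab243587eec3cf6))))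 (.node (nat_lit 5) (.node (nat_lit 4) (.leaf (nat_lit 0x550000156c8a8e456af2bb79b3c4d7629761cb10d98bad0dd56392a7c8000000008b67c6d3e2fe71ef38ee6c813638e31cf18d254572a32cb14e5003b80000baa05ed04b66a5134b1e659f33f791f5c8b8985accaba05730000ee0000b4a9d934ed0cb63e5b060d8706cec762e3b5a8dbb46d4e765f3002200002efeb7e75bb7a5f5d2f88f75c7bda8dd346f3897fc4bc735fb98015400006723b231d93eccf7668fab33d678a540d268ac32f61a0aecad70044000016692b6c957ac2b361ba88dfc4aca057b0161ecb276582b2b758015400007f3bbebdee1a36d5185244372200e8fcf48932c4f95fe94fbca)) (.leaf (nat_lit 0x5500000beb45cda90a349b18c0dc5dee41aaa1754c28463c2a8e0d3d0400440000b6f7dc9bed9bf715fb9a75cf3aeab97adcb7addab6ed7d7706b0055000027c9d38ce9cf04fd8283df3cefa0aecef76988b4745a025ceb2c00aa0000b2adda36deac2f7e1ad2058101c188e1c472b7b8fbdcbdce2ee002a80001e0e2edf175b83a3c1ddd2f1697367b9f3dd8ccece678e23a710015400004239203c90ed288e951f8285c10ca082d042b4207a14cc8a5640055000011ed28ae945f9241c923e28df149a6a573522ce8ce7572f2bf7800cc00003af41e9a0e9ce79673bb31cb98e78478423e391edc996bacfdd)))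 (.node (nat_lit 6) (.leaf (nat_lit 0x550000216c106e09b274db3a1cbf09df86b5423aab0815dc0862641f30015400005baf2cb7967c8b8645d31ad78ea78351415e352eda972d2b4e9003300000d1d86c6c33f59adacd48466c236b31bf9a2cb319d97e2fbfb7c0088000021f6919b4cb84634223b5927ac8ace42e791a349f1a76a53fd2002a80000c98462420d36863b438d81b6c0b7405fa0b6b45bda842442f200088000091234991927b4975a8fecc79652cac92d64a76a5fb660872d4300198000272a53dd29ba44d722e8a372d199e3ce11e618731c39ab6ccbb4011000008d6cc5d64aedc54ee92a34a719d0a8e7542c36157b1ecc2f8e1)) (.leaf (nat_lit 0x5500002b68354c1aae1d710ebfa759d3afaf5637abc9157c8aead55b6801320000aaa056b02998b4dc5b12dd856ea1935449a7f054d829da15250001100000c398654c31659992cce9469ca3beb9d15cc8a060d082304178000cc0000a4e2d1516b78156409730cab8657b12f5899274c53a599b2fcd004400001bbc6dbe36fb136b89c0bcdcde7129b854f00b97a5c752a3c95000cc0000a261d290e9c834d41a432d0b9687c94964a36952f4a8b8d4ac60044000024b9b21cd93a848342549f24cf94b4c8fa6509722cba5a2d19140110000064aeb37758cd4c2eabb2e5ef726f9d344e6432313918ed0c3e8)))))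
noncomputable def J_0 : Tr := (.node (nat_lit 3) (.node (nat_lit 1) (.node (nat_lit 0) (.leaf (nat_lit 0x40000000010000000000000000a000800800200200100100000000020008000008000001800000000200040040020000000000006002000000000400000000000000038008004000001000000c000004000000400000000180000090010008000002000001000000000000000100020000010002002002000000c0000000000000002000000000c000000002c004006000000000000000000000000000000000000000000)) (.leaf (nat_lit 0x400400200000100080000040000010000000002000000000200000100000000000014004000800800c0000000008004000001000000800100100100000020000000004000000000000000400080080080000050004004002002000000800000000100000000030000000004000000400400000000000100020000000008000000001000400100100080000060020000000006000000000400000100000000060000000012002003))) (.node (nat_lit 2) (.leaf (nat_lit 0x4000000001c004002000000000000200000100000000010004004002000000001000000300000040000000010000002002000000000500100100000080000008000006000000400400200000000000020000000004000000001c00400200000180000060000000000004000000000800000400040040000000000010000000800800000200000280100000000008000000000001800000100100000000000040000008000002))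 (.leaf (nat_lit 0x20010004004002000001800400000000280000000050000008000001800800400000400000180000000010000002001000000000100100100000080000000002002001000000c00000300080000000000000000002001000001000000100000000070010018000000005000000c0000018008004000004000000c000002000000800000000080020020000020000000000003000c00600000000040000010000004001001)))) (.node (nat_lit 5) (.node (nat_lit 4) (.leaf (nat_lit 0x200200000080080000010000000002000000800000a000003000800600000000040000050004004000000000800800100100080080000000030000002000000000c0000038008004000003000000800000500000080000020000000008000800800c0020050008000001001000800000800200000080000010000004000000000800200200000180000040020000000004000000400400800000000140000020000010000001)) (.leaf (nat_lit 0x2002000000800000a00000100000040040000000006000002000000000100000040010010008000000000800800400000300100000040000000000002000000000c000002000000200200100000100020060000000004000001000400100100080000040020030000001001000000400400000000080000010000000000000800800400000100300000020000008000004000000800000600000040040020000000000000001)))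 (.node (nat_lit 6) (.leaf (nat_lit 0x2002000002000000a00000100000020000008000001001000800000000200280000000000000004000001000000c0000008008000002000002800000200000100000020000000004001001000000c000001000000c0000000010000001001000800000400000080000000000010000006000000400400600300000000000000008000008000003000800100100100000080000028000001001000000c000000000000c000006)) (.leaf (nat_lit 0x2002001000000c0040000010000002000000800000000180080040000000028000002000002000000000300000140000000008004000000800800000a00000080000020000004004002000000000000400500000100080008008000006000000000000000000000000020000000000001001000800000a001001000400000400200020020000018000008000001800000000000000040010010000010006000000000c000002)))))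
noncomputable def F_0 : Tr := (.node (nat_lit 5) (.node (nat_lit 2) (.node (nat_lit 0) (.leaf (nat_lit 0x96f7f2af9e97cd682ddfc49ef94d11edb86235afcc668a75f703ceaa68c9e3612e231b0375c9e418561308b295407001)) (.node (nat_lit 1) (.leaf (nat_lit 0x96f7f2af9e97cd682ddfc49ef94d11edb86235afcc668a75f703ceaa68c9e3612e231b0375c9e418561308b295407001)) (.leaf (nat_lit 0xddfbf18edd1bfd59b9952f13f64e9065760d8b5ceeee725af882cae20ae9a84d8cc320ec185a1475c85e04f3964401c2)))) (.node (nat_lit 3) (.leaf (nat_lit 0xddfbf18edd1bfd59b9952f13f64e9065760d8b5ceeee725af882cae20ae9a84d8cc320ec185a1475c85e04f3964401c2)) (.node (nat_lit 4) (.leaf (nat_lit 0x876a27b1b5b157e6585e9e2baa38bbc2fcbdf0e35cbadfcb25d7a4e87d74cf9dc61443ca4669428107c16944d200c203)) (.leaf (nat_lit 0x876a27b1b5b157e6585e9e2baa38bbc2fcbdf0e35cbadfcb25d7a4e87d74cf9dc61443ca4669428107c16944d200c203))))) (.node (nat_lit 8) (.node (nat_lit 6) (.leaf (nat_lit 0xb24d5e85ac2381cf544e6bb947143f58f39977233ee0aef723c9f61faa0616b2f4cc3bedaa90a556205f6d85c048d244))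 (.node (nat_lit 7) (.leaf (nat_lit 0xb24d5e85ac2381cf544e6bb947143f58f39977233ee0aef723c9f61faa0616b2f4cc3bedaa90a556205f6d85c048d244)) (.leaf (nat_lit 0xf3ad3f77ebd5c5b53d4a5dd1e607de3d635884cc9a2c99eeb6cec7da41a812ae350f3c08ac2a668c18907190174ce285)))) (.node (nat_lit 9) (.leaf (nat_lit 0xf3ad3f77ebd5c5b53d4a5dd1e607de3d635884cc9a2c99eeb6cec7da41a812ae350f3c08ac2a668c18907190174ce285)) (.node (nat_lit 10) (.leaf (nat_lit 0xfbfcfa73cca27e14d2f79b66950c6438d5976f0bec2b8d88dda1fb9de144a29243d7432e0aba9106356074065850f2c6)) (.leaf (nat_lit 0xfbfcfa73cca27e14d2f79b66950c6438d5976f0bec2b8d88dda1fb9de144a29243d7432e0aba9106356074065850f2c6))))))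
noncomputable def T : Tr := T_0
noncomputable def J : Tr := J_0
noncomputable def F : Tr := F_0
noncomputable def row (u : ℕ) : ℕ := Nat.land (Nat.shiftRight (force (Nat.shiftRight u (nat_lit 3)) T.get) (Nat.mul (Nat.land u (nat_lit 7)) (nat_lit 238))) (nat_lit 0x3fffffffffffffffffffffffffffffffffffffffffffffffffffffffffff)
noncomputable def jrow (u : ℕ) : ℕ := Nat.land (Nat.shiftRight (force (Nat.shiftRight u (nat_lit 3)) J.get) (Nat.mul (Nat.land u (nat_lit 7)) (nat_lit 169))) (nat_lit 0x1ffffffffffffffffffffffffffffffffffffffffff)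
noncomputable def fget (k fx : ℕ) : ℕ := F.get (Nat.add k fx)
noncomputable def wt0 : LT := (.node (nat_lit 1) (.node (nat_lit 0) (.leaf 35 2 [nat_lit 170, nat_lit 0, nat_lit 187])
(.leaf 27 2 [nat_lit 136, nat_lit 0, nat_lit 153]))
(.node (nat_lit 3) (.node (nat_lit 2) (.leaf 1 0 [nat_lit 17])
(.leaf 13 1 [nat_lit 51, nat_lit 0, nat_lit 34]))
(.node (nat_lit 4) (.leaf 19 1 [nat_lit 119, nat_lit 170, nat_lit 0, nat_lit 102])
(.node (nat_lit 5) (.leaf 17 1 [nat_lit 85, nat_lit 136, nat_lit 0, nat_lit 68])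
(.leaf 0 0 [])))))
noncomputable def wt1 : LT := (.node (nat_lit 2) (.node (nat_lit 0) (.leaf 13 3 [nat_lit 34, nat_lit 17, nat_lit 51])
(.node (nat_lit 1) (.leaf 19 4 [nat_lit 102, nat_lit 17, nat_lit 119, nat_lit 170])
(.leaf 35 0 [nat_lit 187, nat_lit 17, nat_lit 170])))
(.node (nat_lit 4) (.node (nat_lit 3) (.leaf 27 0 [nat_lit 153, nat_lit 17, nat_lit 136])
(.leaf 17 4 [nat_lit 68, nat_lit 17, nat_lit 85, nat_lit 136]))
(.leaf 0 0 [])))
noncomputable def wt2 : LT := (.node (nat_lit 1) (.node (nat_lit 0) (.leaf 37 2 [nat_lit 170, nat_lit 34, nat_lit 187])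
(.leaf 3 0 [nat_lit 51]))
(.node (nat_lit 2) (.leaf 29 2 [nat_lit 136, nat_lit 34, nat_lit 153])
(.node (nat_lit 3) (.leaf 21 1 [nat_lit 85, nat_lit 170, nat_lit 34, nat_lit 68])
(.node (nat_lit 4) (.leaf 13 2 [nat_lit 0, nat_lit 34, nat_lit 17])
(.node (nat_lit 5) (.leaf 23 1 [nat_lit 119, nat_lit 170, nat_lit 136, nat_lit 34, nat_lit 102])
(.leaf 0 0 []))))))
noncomputable def wt3 : LT := (.node (nat_lit 2) (.node (nat_lit 0) (.leaf 29 0 [nat_lit 153, nat_lit 51, nat_lit 136])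
(.node (nat_lit 1) (.leaf 13 0 [nat_lit 17, nat_lit 51, nat_lit 0])
(.leaf 21 4 [nat_lit 68, nat_lit 51, nat_lit 85, nat_lit 170])))
(.node (nat_lit 4) (.node (nat_lit 3) (.leaf 37 0 [nat_lit 187, nat_lit 51, nat_lit 170])
(.leaf 23 5 [nat_lit 102, nat_lit 51, nat_lit 119, nat_lit 170, nat_lit 136]))
(.leaf 0 0 [])))
noncomputable def wt4 : LT := (.node (nat_lit 1) (.node (nat_lit 0) (.leaf 5 0 [nat_lit 85])
(.leaf 39 2 [nat_lit 170, nat_lit 68, nat_lit 187]))
(.node (nat_lit 3) (.node (nat_lit 2) (.leaf 15 1 [nat_lit 119, nat_lit 68, nat_lit 102])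
(.leaf 31 2 [nat_lit 136, nat_lit 68, nat_lit 153]))
(.node (nat_lit 4) (.leaf 17 2 [nat_lit 136, nat_lit 0, nat_lit 68, nat_lit 17])
(.leaf 0 0 []))))
noncomputable def wt5 : LT := (.node (nat_lit 1) (.node (nat_lit 0) (.leaf 15 3 [nat_lit 102, nat_lit 85, nat_lit 119])
(.leaf 21 0 [nat_lit 51, nat_lit 85, nat_lit 170, nat_lit 34]))
(.node (nat_lit 4) (.node (nat_lit 2) (.leaf 17 0 [nat_lit 17, nat_lit 85, nat_lit 136, nat_lit 0])
(.node (nat_lit 3) (.leaf 39 0 [nat_lit 187, nat_lit 85, nat_lit 170])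
(.leaf 31 0 [nat_lit 153, nat_lit 85, nat_lit 136])))
(.leaf 0 0 [])))
noncomputable def wt6 : LT := (.node (nat_lit 1) (.node (nat_lit 0) (.leaf 7 0 [nat_lit 119])
(.leaf 19 2 [nat_lit 170, nat_lit 0, nat_lit 102, nat_lit 17]))
(.node (nat_lit 3) (.node (nat_lit 2) (.leaf 33 2 [nat_lit 136, nat_lit 102, nat_lit 153])
(.leaf 15 2 [nat_lit 68, nat_lit 102, nat_lit 85]))
(.node (nat_lit 5) (.node (nat_lit 4) (.leaf 41 2 [nat_lit 170, nat_lit 102, nat_lit 187])
(.leaf 23 2 [nat_lit 170, nat_lit 136, nat_lit 34, nat_lit 102, nat_lit 51]))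
(.leaf 0 0 []))))
noncomputable def wt7 : LT := (.node (nat_lit 1) (.node (nat_lit 0) (.leaf 23 0 [nat_lit 51, nat_lit 119, nat_lit 170, nat_lit 136, nat_lit 34])
(.leaf 41 0 [nat_lit 187, nat_lit 119, nat_lit 170]))
(.node (nat_lit 3) (.node (nat_lit 2) (.leaf 15 0 [nat_lit 85, nat_lit 119, nat_lit 68])
(.leaf 19 0 [nat_lit 17, nat_lit 119, nat_lit 170, nat_lit 0]))
(.leaf 0 0 [])))
noncomputable def wt8 : LT := (.node (nat_lit 1) (.node (nat_lit 0) (.leaf 9 0 [nat_lit 153])
(.leaf 31 1 [nat_lit 85, nat_lit 136, nat_lit 68]))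
(.node (nat_lit 3) (.node (nat_lit 2) (.leaf 33 1 [nat_lit 119, nat_lit 136, nat_lit 102])
(.leaf 27 1 [nat_lit 17, nat_lit 136, nat_lit 0]))
(.leaf 0 0 [])))
noncomputable def wt9 : LT := (.node (nat_lit 1) (.node (nat_lit 0) (.leaf 25 3 [nat_lit 170, nat_lit 153, nat_lit 187])
(.leaf 31 3 [nat_lit 68, nat_lit 153, nat_lit 85]))
(.node (nat_lit 3) (.node (nat_lit 2) (.leaf 33 3 [nat_lit 102, nat_lit 153, nat_lit 119])
(.leaf 29 3 [nat_lit 34, nat_lit 153, nat_lit 51]))
(.node (nat_lit 5) (.node (nat_lit 4) (.leaf 23 4 [nat_lit 34, nat_lit 102, nat_lit 51, nat_lit 119, nat_lit 170])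
(.leaf 17 3 [nat_lit 0, nat_lit 68, nat_lit 17, nat_lit 85]))
(.leaf 0 0 []))))
noncomputable def wt10 : LT := (.node (nat_lit 1) (.node (nat_lit 0) (.leaf 11 0 [nat_lit 187])
(.leaf 37 1 [nat_lit 51, nat_lit 170, nat_lit 34]))
(.node (nat_lit 4) (.node (nat_lit 2) (.leaf 41 1 [nat_lit 119, nat_lit 170, nat_lit 102])
(.node (nat_lit 3) (.leaf 25 2 [nat_lit 136, nat_lit 170, nat_lit 153])
(.leaf 39 1 [nat_lit 85, nat_lit 170, nat_lit 68])))
(.leaf 0 0 [])))
noncomputable def wt11 : LT := (.node (nat_lit 1) (.node (nat_lit 0) (.leaf 41 3 [nat_lit 102, nat_lit 187, nat_lit 119])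
(.leaf 39 3 [nat_lit 68, nat_lit 187, nat_lit 85]))
(.node (nat_lit 3) (.node (nat_lit 2) (.leaf 37 3 [nat_lit 34, nat_lit 187, nat_lit 51])
(.leaf 23 3 [nat_lit 136, nat_lit 34, nat_lit 102, nat_lit 51, nat_lit 119]))
(.node (nat_lit 5) (.node (nat_lit 4) (.leaf 35 3 [nat_lit 0, nat_lit 187, nat_lit 17])
(.leaf 19 3 [nat_lit 0, nat_lit 102, nat_lit 17, nat_lit 119]))
(.leaf 0 0 []))))
noncomputable def wt12 : LT := (.leaf 0 0 [])
noncomputable def sl : List (ℕ × ℕ × List ℕ × List ℕ) := []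
/-- the inverse column -/
noncomputable def icol (x : ℕ) : ℕ := List.getD [nat_lit 1, nat_lit 0, nat_lit 3, nat_lit 2, nat_lit 5, nat_lit 4, nat_lit 7, nat_lit 6, nat_lit 9, nat_lit 8, nat_lit 11, nat_lit 10] x x
noncomputable def inv (x : ℕ) : ℕ := Nat.mul (icol (Nat.div x (nat_lit 17))) (nat_lit 17)
def cols : List ℕ := [nat_lit 204, nat_lit 0, nat_lit 17, nat_lit 34, nat_lit 51, nat_lit 68, nat_lit 85, nat_lit 102, nat_lit 119, nat_lit 136, nat_lit 153, nat_lit 170, nat_lit 187]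
noncomputable def cl : CL := (.cons (nat_lit 0) (nat_lit 17) (nat_lit 0) (nat_lit 0) wt0
(.cons (nat_lit 17) (nat_lit 0) (nat_lit 13) (nat_lit 1) wt1
(.cons (nat_lit 34) (nat_lit 51) (nat_lit 26) (nat_lit 2) wt2
(.cons (nat_lit 51) (nat_lit 34) (nat_lit 39) (nat_lit 3) wt3
(.cons (nat_lit 68) (nat_lit 85) (nat_lit 52) (nat_lit 4) wt4
(.cons (nat_lit 85) (nat_lit 68) (nat_lit 65) (nat_lit 5) wt5
(.cons (nat_lit 102) (nat_lit 119) (nat_lit 78) (nat_lit 6) wt6
(.cons (nat_lit 119) (nat_lit 102) (nat_lit 91) (nat_lit 7) wt7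
(.cons (nat_lit 136) (nat_lit 153) (nat_lit 104) (nat_lit 8) wt8
(.cons (nat_lit 153) (nat_lit 136) (nat_lit 117) (nat_lit 9) wt9
(.cons (nat_lit 170) (nat_lit 187) (nat_lit 130) (nat_lit 10) wt10
(.cons (nat_lit 187) (nat_lit 170) (nat_lit 143) (nat_lit 11) wt11
.nil))))))))))))
def rels : List (List ℕ) := [[0, 0],
[2, 2],
[4, 4],
[6, 6],
[8, 8],
[10, 10],
[3, 1, 2, 0],
[7, 5, 6, 4],
[5, 1, 9, 4, 0],
[7, 1, 11, 6, 0],
[5, 3, 11, 4, 2],
[7, 3, 9, 11, 6, 2],
[11, 9, 10, 8],
[1, 9, 0, 8],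
[3, 9, 2, 8],
[5, 9, 4, 8],
[7, 9, 6, 8],
[1, 11, 0, 10],
[3, 11, 2, 10],
[5, 11, 4, 10],
[7, 11, 6, 10]]
def subs : List (List ℕ) := []
noncomputable def chk : ℕ → Bool := rowChk row jrow fget sl cols (nat_lit 64) (nat_lit 64) (nat_lit 131071) (nat_lit 127) (nat_lit 131072) (nat_lit 204) (nat_lit 221) (nat_lit 8191) (nat_lit 6) (nat_lit 63) (nat_lit 6) (nat_lit 63) cl (nat_lit 156) wt12
theorem p0 : allB chk 6 0 = true := by decide +kernel
theorem all_chk : AllLt chk 64 := by
  have h := AllLt.zero chk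
  have h := h.step 64 p0 (by decide +kernel)
  exact h
/-- column `x` of the final table -/
noncomputable def tab (x u : ℕ) : ℕ := ft fget (nat_lit 6) (nat_lit 63) (nat_lit 6) (nat_lit 63) (Nat.mul x (nat_lit 1)) u
theorem enum {G Ω : Type*} [Group G] [MulAction G Ω] (g : ℕ → G) (ω : Ω)
    (hinv : ∀ x, g (icol x) = (g x)⁻¹) (h1 : g 12 = 1)
    (hrels : ∀ R ∈ rels, ev g R = 1) (hsubs : ∀ S ∈ subs, ev g S • ω = ω) :
    ∃ pt : ℕ → Ω, pt 0 = ω ∧ (∀ K : Subgroup G, (∀ x, g x ∈ K) → ∀ v, ∃ k ∈ K, pt v = k • ω) ∧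
      ∀ x, x < 12 → ∀ u, u < 64 → tab x u < 64 ∧ g x • pt u = pt (tab x u) :=
  sound_scaled g ω row jrow fget sl inv icol cols (nat_lit 64) (nat_lit 64) (nat_lit 131071) (nat_lit 127) (nat_lit 131072) (nat_lit 204) (nat_lit 221) (nat_lit 8191) (nat_lit 6) (nat_lit 63) (nat_lit 6) (nat_lit 63) 7 cl (nat_lit 156) wt12 rels subs 17 (nat_lit 1) 12
    (fun _ => Nat.mul_div_cancel _ (by decide)) hinv h1 hrels hsubs
    (by decide +kernel) (by decide +kernel) all_chk
end H83.L64E

namespace H83.L64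
open H70.TM H18.TC Subgroup

noncomputable def rt : RT := ⟨nat_lit 64, nat_lit 6, nat_lit 63,
  (.node (nat_lit 31) (.node (nat_lit 15) (.node (nat_lit 7) (.node (nat_lit 3) (.node (nat_lit 1) (.node (nat_lit 0) (.leaf (nat_lit 0xffef7cefae78df6d74cf2c70beeb6caeaa689e69648e28607de75c6da6585d65544d24503ce34c2ca2481c61440c2040))
(.leaf (nat_lit 0x96f7f2af9e97cd682ddfc49ef94d11edb86235afcc668a75f703ceaa68c9e3612e231b0375c9e418561308b295407001)))
(.node (nat_lit 2) (.leaf (nat_lit 0xddfbf18edd1bfd59b9952f13f64e9065760d8b5ceeee725af882cae20ae9a84d8cc320ec185a1475c85e04f3964401c2))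
(.leaf (nat_lit 0x876a27b1b5b157e6585e9e2baa38bbc2fcbdf0e35cbadfcb25d7a4e87d74cf9dc61443ca4669428107c16944d200c203))))
(.node (nat_lit 5) (.node (nat_lit 4) (.leaf (nat_lit 0xb24d5e85ac2381cf544e6bb947143f58f39977233ee0aef723c9f61faa0616b2f4cc3bedaa90a556205f6d85c048d244))
(.leaf (nat_lit 0xf3ad3f77ebd5c5b53d4a5dd1e607de3d635884cc9a2c99eeb6cec7da41a812ae350f3c08ac2a668c18907190174ce285)))
(.node (nat_lit 6) (.leaf (nat_lit 0xfbfcfa73cca27e14d2f79b66950c6438d5976f0bec2b8d88dda1fb9de144a29243d7432e0aba9106356074065850f2c6))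
(.leaf (nat_lit 0xcfdf92674b6a9446baff1c887cce438f8267a20dd4acd626bd31855f5ee16d55a47bc4112ca8ae3cea7001d736b01087)))))
(.node (nat_lit 11) (.node (nat_lit 9) (.node (nat_lit 8) (.leaf (nat_lit 0x36a269c166f35f92e256711dd8660fb3afed947842d7dc99a2b466bceb9fc7e4a3078ec07a4f1c513d0532043729a0c8))
(.leaf (nat_lit 0x3112265b06854ebdd081e0fc93452f847eca0bab25a193bdd79aa93f2e018dc0317eefd29f677e6171b335588bb5b109)))
(.node (nat_lit 10) (.leaf (nat_lit 0xcb9b653eff844aab9fc7fceceb5f707769c9a64f26198354d11ac258c2e255b5e0437793ec785a640a033a307821c14a))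
(.leaf (nat_lit 0xbe5df93b2f28f692317fad1afc348c727db8a9ef91157593ce60ab3702958a161082d9141fb6ec0191353c18c9b9d18b))))
(.node (nat_lit 13) (.node (nat_lit 12) (.leaf (nat_lit 0x549ab8ba263a8773963449c5a1c6cad73d25b595e3b3c7c7d81810c4bc32bd2f82ae903b513f467a4fdd2119b93c368c))
(.leaf (nat_lit 0x80846ee10507b0bcb03037b3d7e6ada051822bd4f185d07a91f5628f758e3c0725e664bf6176749f6efc26aa6bbc46cd)))
(.node (nat_lit 14) (.leaf (nat_lit 0xc6de772dff76f3832fcb3fc3d1af88184a292544a07618a4e908c156e3cd5976e64654de640635ec79ec2ab0aac0570e))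
(.leaf (nat_lit 0x7f796d2b14a7f89c32bf4eb5cecf2e16812ae13f5071b55efe00638883963588519b95240195c31fbd9a2c2ae930674f))))))
(.node (nat_lit 23) (.node (nat_lit 19) (.node (nat_lit 17) (.node (nat_lit 16) (.leaf (nat_lit 0xa5688d46ad9212f8c9e215fb6d9a2b7bef1fc9c9ce53494660fc0ce4282ddfaccb295745b1afc7d43f409ae2310644d0))
(.leaf (nat_lit 0x25536243813cd9fae9a986d95fb9e34fd4afc45a0a93addd84b22eb419b9974fcf39619c0f5cc06acf8780cc32094791)))
(.node (nat_lit 18) (.leaf (nat_lit 0xedc65dfc7aee2e4a0614e8d63f82a1e519b57a90b6c50b15067f3e69bf544f08185c0aa2bf230dded209eb4cc31257d2))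
(.leaf (nat_lit 0x9db6217b6ab7e3a1a810d54f58b25d479974fc2a4781ff238bbb1af9c53d4afc59017ac1c0cc8eb88b4a9350f3166413))))
(.node (nat_lit 21) (.node (nat_lit 20) (.leaf (nat_lit 0xda15db927a6d27f144a1688e34ae1c9a5e73eababb431f815476acf1d4d2f727c06580a3330bcf22edcb783d74191814))
(.leaf (nat_lit 0x44c830a66799d4e7ee21a53ab120e5d9d7233fc92f5c5af34f23560b988b2bb1addd0fb46e11ff12803da89e01c67615)))
(.node (nat_lit 22) (.leaf (nat_lit 0x42e9882604fb68abccc359340fcb3710616b2d251f6dc8ff7b189506d34f399779951f7a5d8033da71fee29a82ca8856))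
(.leaf (nat_lit 0x79a52c9e444bb87d350cc82fc3723caab086ee59ba54177143f85b73e61900f8fd493e5f58d3b2e092adda8105ce9897)))))
(.node (nat_lit 27) (.node (nat_lit 25) (.node (nat_lit 24) (.leaf (nat_lit 0x92c4dad9e98a23bcc3d7043232dbbea42ac51f947f8a371f83a6e177c5c064e052f549713563ef2782f79c4a06d2a558))
(.leaf (nat_lit 0xebc4be1ff949b670f3d2f7ccc88dda0a9a84d91e5e0556d0c6471d86c01760d89353d9a038f5b028be2eec51a8d6b8d9)))
(.node (nat_lit 26) (.leaf (nat_lit 0x5e8d84d588af3521db878a41242580bb17fcf4b546c25d0ea85513cd9b3feb7e5c76728f810b63466cab0de93eec831a))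
(.leaf (nat_lit 0x4f5903a1440f300e9ab2e99f225c12e2305d6778345821b247361717d87b1cbafef1eb6f5622b1aa93b9127d9cfc935b))))
(.node (nat_lit 29) (.node (nat_lit 28) (.leaf (nat_lit 0x4b4eb31bd7d6c9793ef37950b66bd32d58a162ec753e9a0ce43640114767db8a9ab3f2308c1260ac235117b1db78a39c))
(.leaf (nat_lit 0xf73ff4152c4dbd87bcfade60dd1c942a255b5c87c33aa130975019a137369c9a6c6bab8c063e100ab5a6187ee190b3dd)))
(.node (nat_lit 30) (.leaf (nat_lit 0xa178584c4e25ab4767da258b54fa4642ddfacc12409af4ab3590f5f4593ef1fcbb1db8c222ec4a330e4e51ab3f72045e))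
(.leaf (nat_lit 0x8f04ee6b1d317054a2dd0277181aafdab1031becdf759a8656bf2469c48ba40f8263844f3e7b6d33517977b608ba49f)))))))
(.node (nat_lit 47) (.node (nat_lit 39) (.node (nat_lit 35) (.node (nat_lit 33) (.node (nat_lit 32) (.leaf (nat_lit 0xa8d5569a99fda3207825b60784010293cfb1bddd8f4f3e455ce33096b437b7fd0a2e27066acebb0f5499448b9f8de520))
(.leaf (nat_lit 0x5037b511380ec19fec688471bb933d2418dc02d43336b16f9b45d81926c7eca0bcfa4df28952dfa6a3e5a369ddeb85a1)))
(.node (nat_lit 34) (.leaf (nat_lit 0x9b040ca919000cfc48bac4ff6bdd799dc7413be7b26060b452f58dae554a2c7177b60f3385befaa04652a782637f65e2))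
(.leaf (nat_lit 0xe72c6f0a5fd8d0d437b7ef64f13ce61e16d55aceb0004a8348c38fa51078267a08b9f6b571dd9e1465d4aca2e283b663))))
(.node (nat_lit 37) (.node (nat_lit 36) (.leaf (nat_lit 0x1186d7528279a737369d534a88ea85837b7fd23e19472f42580d434867bcfb1bc7ee106bb887cbc0c94f4ec6ba7509a4))
(.leaf (nat_lit 0x2c13e3c4a19aee0a6b0807576761e2f5350c428178fde21b709dedb95e6644390d58e121d33d58f3eb277efcb0a92ea5)))
(.node (nat_lit 38) (.leaf (nat_lit 0xe22595809a3e9f10aaa57840607d81512f727c610b7bfb5c6cab88de3465e73e8e3cd15dd43d19b1af3b43032fad3926))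
(.leaf (nat_lit 0xd53b145c3b82446f1e910c3782f9b488a2c715f212a4f03933d128673d9c7413bfe9ac652788ed356af261b87bf95aa7)))))
(.node (nat_lit 43) (.node (nat_lit 41) (.node (nat_lit 40) (.leaf (nat_lit 0x69e0e46ec30141d49351122599f83a34e3c072fc3c24b1edbbeda7eff1051822b3d35cb7a6aaf98958f1857619f56e28))
(.leaf (nat_lit 0xb90c20548d5c7a3951993b1253a91f60064e0740f79fb2be6ade092f1a82ac51f2bcccfca041bd85b77f89634fe57da9)))
(.node (nat_lit 42) (.leaf (nat_lit 0x2203108ae0dd901e664546bd4ff7b15d900f8f3d6dd872fcb3727829fa6b086eefcb0d3e1281526e173a54d58e9589ea))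
(.leaf (nat_lit 0xb71c9f077ce1ea2465e7df9449efe00185d6543d081f6e2cf2e28b2500aaa689f032fd5a14611371d6e48ce3cd999eeb))))
(.node (nat_lit 45) (.node (nat_lit 44) (.leaf (nat_lit 0x6049e80d75725bdee16c9aa3e2b35921fc7e48a885339ccfa464d4d006bafed95d7362ce420dc1991bc2d647bc1eec2c))
(.leaf (nat_lit 0x3ab282bcf703011e018fb1611e8656f247889b6769d143181aae65c0ddd081a4d588b9d7ffab1bf52d44cb17ee27eced)))
(.node (nat_lit 46) (.leaf (nat_lit 0x5a9e2a30d8746252958b6a1c9c55ce6bfeb7e7b6eb0d2bc0102991c8f2317fcf418c91d991ef9d4d4cc6c1082d2ecd6e))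
(.leaf (nat_lit 0x4b08ab6301e70858e3c61e8161778cf50d1b97662f9a827ed57f1409cb0314b2aa6b6364bd4c4ebf91bde5e66374f2f))))))
(.node (nat_lit 55) (.node (nat_lit 51) (.node (nat_lit 49) (.node (nat_lit 48) (.leaf (nat_lit 0x8b8a492155ff6ed3cd5a8d8611d84b0f4cf9dc06016bec7b9e34207ca32fcbdf2b0aa6474d448591ee9cba64653b5b30))
(.leaf (nat_lit 0xace8cf942ed418c88b29c676757169eac6a0c211d648344400dcaf9aa7ee21ed49e016e8fbc927cf44d8e6ddd057ff71)))
(.node (nat_lit 50) (.leaf (nat_lit 0x8caacbdc166476e34f385ec419b709d03d66218015f2c4361e2c5f838bccc136a9a825e7f52528ffa7a1b799515b3fb2))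
(.leaf (nat_lit 0x7471bbf1c3e08da6190022eaad5067bf0314b0d39bdc87b82a1ffa936d350d1ba8105589e659a9c5f422fbd4935f2b73))))
(.node (nat_lit 53) (.node (nat_lit 52) (.leaf (nat_lit 0x73b147f9d39006c5c066b2a90a28f6c8cc136963e1b6e9092dbebf7a7cc3d66204a0637897946a7f1815f12f5462fdf4))
(.leaf (nat_lit 0x6e71366a135f8bc01762a242a41547332bd2f8f59d237e8ae1c91effb0f3d25b451a838b991e6b420c63b1353d670bb5)))
(.node (nat_lit 54) (.leaf (nat_lit 0xd469363522b985fa47a032d43247354b2bb1b1bbda8e665c12a040349dd7233fafec7f9e0907758d0af5e16c7f22a76))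
(.leaf (nat_lit 0x3c22ebc8e77566626304719bec400df9e92e46772acd3c17169979316b6042c52254ad98ebf6a14bd0e8bdfc48e3cd37)))))
(.node (nat_lit 59) (.node (nat_lit 57) (.node (nat_lit 56) (.leaf (nat_lit 0xc26b9134cb06502b60424d7e7b34f26fb1cbaff6b91003d20e5a6a3af26305d65fc48ebdda773c5d81745a254ade1a38))
(.leaf (nat_lit 0x2a33817cb16c1d0a82ad9718027ed54944f0804189ea4ba1778b772229519b579634fa1bcf40d7fbc6b6c72bcca7dff9)))
(.node (nat_lit 58) (.leaf (nat_lit 0x159700f462910836c7ee338904dac4c6e21ed552d8e4c5293d7d334e8fec6a0c369dd8aaded438bf29964bcfa485f97a))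
(.leaf (nat_lit 0xd12f3d033de9e68b3fe9fbeec70975049e36110b530965d1c941466031db86235e93e82628b54838fa8c65c7676a3afb))))
(.node (nat_lit 61) (.node (nat_lit 60) (.leaf (nat_lit 0x645ec6cc08cc3d49dd70aad52ea398b5081a4c9044c910d60a84bdd57fa47889a16c7e0d7f1ba2979c29d3afecdb7bfc))
(.leaf (nat_lit 0x1dd01cebb08829e10518f04d3892db96644392aae77e06a28f6fbcb2149350c417619a55cafc16b77bb8ff3d35a39c7d)))
(.node (nat_lit 62) (.leaf (nat_lit 0x61c5d19070393d9c74b0a22a93d7de042c5388e8be6d4dac4f520d8f1e92e45b87b256c5f215e6532acffe9a9edcbe))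
(.leaf (nat_lit 0x1807594852e6af587b1c13f88d60a87c8ba40e22979704ea398cf4504e9ab10327d9c569b77809caf44df7ef1e6f1e7f)))))))),
  (nat_lit 0xfbff7aefcbe2b5bd74ce57e6e60ddaae9aa8870c9e8f89eec6475cdac6585cd2544d23083ce5912ca5501c61440c2040),
  (nat_lit 0x85f7de71a5955554d249249145041038d34d34c30c2892482081c71c71441041030c30c3082082041041040000000000),
  (nat_lit 0xc20441840c50c21861420451061021861420451011850861021851031861420461440811851031851030861440c2041),
  [nat_lit 1, nat_lit 2, nat_lit 3, nat_lit 4, nat_lit 5, nat_lit 6]⟩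

theorem okA0 : rt.chkA 1 = true := by decide +kernel
theorem okA1 : rt.chkA 2 = true := by decide +kernel
theorem okA2 : rt.chkA 3 = true := by decide +kernel
theorem okA3 : rt.chkA 4 = true := by decide +kernel
theorem okA4 : rt.chkA 5 = true := by decide +kernel
theorem okA5 : rt.chkA 6 = true := by decide +kernel
theorem okB : rt.chkB = true := by decide +kernel
noncomputable def tb : GT := ⟨rt, List.forall_mem_cons.2 ⟨okA0, List.forall_mem_cons.2 ⟨okA1, List.forall_mem_cons.2 ⟨okA2, List.forall_mem_cons.2 ⟨okA3, List.forall_mem_cons.2 ⟨okA4, List.forall_mem_cons.2 ⟨okA5, fun _ h => absurd h List.not_mem_nil⟩⟩⟩⟩⟩⟩, okB⟩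

theorem hom_chk : homChk tb (nat_lit 0xffef7cefae78df6d74cf2c70beeb6caeaa689e69648e28607de75c6da6585d65544d24503ce34c2ca2481c61440c2040) 64 L64E.tab = true := by decide +kernel

/-- the group -/
abbrev E : Type := El tb

noncomputable def a : E := El.of tb 1
noncomputable def b : E := El.of tb 2
noncomputable def c : E := El.of tb 3
noncomputable def d : E := El.of tb 4
noncomputable def z : E := El.of tb 5
noncomputable def y : E := El.of tb 6

theorem card : Nat.card E = 64 := El.card tb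

theorem eq_top {K : Subgroup E} (h0 : a ∈ K) (h1 : b ∈ K) (h2 : c ∈ K) (h3 : d ∈ K) (h4 : z ∈ K) (h5 : y ∈ K) : K = ⊤ :=
  El.eq_top (List.forall_mem_cons.2 ⟨h0, List.forall_mem_cons.2 ⟨h1, List.forall_mem_cons.2 ⟨h2, List.forall_mem_cons.2 ⟨h3, List.forall_mem_cons.2 ⟨h4, List.forall_mem_cons.2 ⟨h5, fun _ h => absurd h List.not_mem_nil⟩⟩⟩⟩⟩⟩)

/-- the relations -/
def Rel {G : Type*} [Group G] (a b c d z y : G) : Prop :=
  a * a = 1 ∧
  b * b = 1 ∧
  c * c = 1 ∧
  d * d = 1 ∧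
  z * z = 1 ∧
  y * y = 1 ∧
  a * b = b * a ∧
  c * d = d * c ∧
  a * c = c * a * z ∧
  a * d = d * a * y ∧
  b * c = c * b * y ∧
  b * d = d * b * (z * y) ∧
  z * y = y * z ∧
  z * a = a * z ∧
  z * b = b * z ∧
  z * c = c * z ∧
  z * d = d * z ∧
  y * a = a * y ∧
  y * b = b * y ∧
  y * c = c * y ∧
  y * d = d * y

instance {G : Type*} [Group G] [DecidableEq G] (a b c d z y : G) : Decidable (Rel a b c d z y) := by
  unfold Rel; infer_instance

theorem Rel.map {G G' : Type*} [Group G] [Group G'] (f : G →* G') {a b c d z y : G}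
    (h : Rel a b c d z y) : Rel (f a) (f b) (f c) (f d) (f z) (f y) := by
  obtain ⟨h0, h1, h2, h3, h4, h5, h6, h7, h8, h9, h10, h11, h12, h13, h14, h15, h16, h17, h18, h19, h20⟩ := h
  exact ⟨by simpa only [map_mul, map_inv, map_one] using congrArg f h0,
    by simpa only [map_mul, map_inv, map_one] using congrArg f h1,
    by simpa only [map_mul, map_inv, map_one] using congrArg f h2,
    by simpa only [map_mul, map_inv, map_one] using congrArg f h3,
    by simpa only [map_mul, map_inv, map_one] using congrArg f h4,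
    by simpa only [map_mul, map_inv, map_one] using congrArg f h5,
    by simpa only [map_mul, map_inv, map_one] using congrArg f h6,
    by simpa only [map_mul, map_inv, map_one] using congrArg f h7,
    by simpa only [map_mul, map_inv, map_one] using congrArg f h8,
    by simpa only [map_mul, map_inv, map_one] using congrArg f h9,
    by simpa only [map_mul, map_inv, map_one] using congrArg f h10,
    by simpa only [map_mul, map_inv, map_one] using congrArg f h11,
    by simpa only [map_mul, map_inv, map_one] using congrArg f h12,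
    by simpa only [map_mul, map_inv, map_one] using congrArg f h13,
    by simpa only [map_mul, map_inv, map_one] using congrArg f h14,
    by simpa only [map_mul, map_inv, map_one] using congrArg f h15,
    by simpa only [map_mul, map_inv, map_one] using congrArg f h16,
    by simpa only [map_mul, map_inv, map_one] using congrArg f h17,
    by simpa only [map_mul, map_inv, map_one] using congrArg f h18,
    by simpa only [map_mul, map_inv, map_one] using congrArg f h19,
    by simpa only [map_mul, map_inv, map_one] using congrArg f h20⟩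

theorem Rel.of_map {G G' : Type*} [Group G] [Group G'] {f : G →* G'} (hf : Function.Injective f)
    {a b c d z y : G} (h : Rel (f a) (f b) (f c) (f d) (f z) (f y)) : Rel a b c d z y := by
  obtain ⟨h0, h1, h2, h3, h4, h5, h6, h7, h8, h9, h10, h11, h12, h13, h14, h15, h16, h17, h18, h19, h20⟩ := h
  exact ⟨hf (by simpa only [map_mul, map_inv, map_one] using h0),
    hf (by simpa only [map_mul, map_inv, map_one] using h1),
    hf (by simpa only [map_mul, map_inv, map_one] using h2),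
    hf (by simpa only [map_mul, map_inv, map_one] using h3),
    hf (by simpa only [map_mul, map_inv, map_one] using h4),
    hf (by simpa only [map_mul, map_inv, map_one] using h5),
    hf (by simpa only [map_mul, map_inv, map_one] using h6),
    hf (by simpa only [map_mul, map_inv, map_one] using h7),
    hf (by simpa only [map_mul, map_inv, map_one] using h8),
    hf (by simpa only [map_mul, map_inv, map_one] using h9),
    hf (by simpa only [map_mul, map_inv, map_one] using h10),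
    hf (by simpa only [map_mul, map_inv, map_one] using h11),
    hf (by simpa only [map_mul, map_inv, map_one] using h12),
    hf (by simpa only [map_mul, map_inv, map_one] using h13),
    hf (by simpa only [map_mul, map_inv, map_one] using h14),
    hf (by simpa only [map_mul, map_inv, map_one] using h15),
    hf (by simpa only [map_mul, map_inv, map_one] using h16),
    hf (by simpa only [map_mul, map_inv, map_one] using h17),
    hf (by simpa only [map_mul, map_inv, map_one] using h18),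
    hf (by simpa only [map_mul, map_inv, map_one] using h19),
    hf (by simpa only [map_mul, map_inv, map_one] using h20)⟩

theorem Rel.prod {G G' : Type*} [Group G] [Group G'] {a b c d z y : G} {a' b' c' d' z' y' : G'}
    (h : Rel a b c d z y) (k : Rel a' b' c' d' z' y') :
    Rel (a, a') (b, b') (c, c') (d, d') (z, z') (y, y') := by
  obtain ⟨h0, h1, h2, h3, h4, h5, h6, h7, h8, h9, h10, h11, h12, h13, h14, h15, h16, h17, h18, h19, h20⟩ := h
  obtain ⟨k0, k1, k2, k3, k4, k5, k6, k7, k8, k9, k10, k11, k12, k13, k14, k15, k16, k17, k18, k19, k20⟩ := k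
  exact ⟨Prod.ext h0 k0, Prod.ext h1 k1, Prod.ext h2 k2, Prod.ext h3 k3, Prod.ext h4 k4, Prod.ext h5 k5, Prod.ext h6 k6, Prod.ext h7 k7, Prod.ext h8 k8, Prod.ext h9 k9, Prod.ext h10 k10, Prod.ext h11 k11, Prod.ext h12 k12, Prod.ext h13 k13, Prod.ext h14 k14, Prod.ext h15 k15, Prod.ext h16 k16, Prod.ext h17 k17, Prod.ext h18 k18, Prod.ext h19 k19, Prod.ext h20 k20⟩

theorem Rel.sat {G : Type*} [Group G] {a b c d z y : G} (h : Rel a b c d z y) :
    ∀ R ∈ L64E.rels, ev (lt [a, b, c, d, z, y]) R = 1 := by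
  obtain ⟨h0, h1, h2, h3, h4, h5, h6, h7, h8, h9, h10, h11, h12, h13, h14, h15, h16, h17, h18, h19, h20⟩ := h
  exact List.forall_mem_cons.2 ⟨show a * (a * 1) = 1 by
      simpa only [mul_assoc, mul_inv_rev, inv_inv, inv_one, mul_one, one_mul] using mul_inv_eq_one.2 h0,
    List.forall_mem_cons.2 ⟨show b * (b * 1) = 1 by
      simpa only [mul_assoc, mul_inv_rev, inv_inv, inv_one, mul_one, one_mul] using mul_inv_eq_one.2 h1,
    List.forall_mem_cons.2 ⟨show c * (c * 1) = 1 by
      simpa only [mul_assoc, mul_inv_rev, inv_inv, inv_one, mul_one, one_mul] using mul_inv_eq_one.2 h2,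
    List.forall_mem_cons.2 ⟨show d * (d * 1) = 1 by
      simpa only [mul_assoc, mul_inv_rev, inv_inv, inv_one, mul_one, one_mul] using mul_inv_eq_one.2 h3,
    List.forall_mem_cons.2 ⟨show z * (z * 1) = 1 by
      simpa only [mul_assoc, mul_inv_rev, inv_inv, inv_one, mul_one, one_mul] using mul_inv_eq_one.2 h4,
    List.forall_mem_cons.2 ⟨show y * (y * 1) = 1 by
      simpa only [mul_assoc, mul_inv_rev, inv_inv, inv_one, mul_one, one_mul] using mul_inv_eq_one.2 h5,
    List.forall_mem_cons.2 ⟨show a * (b * (a⁻¹ * (b⁻¹ * 1))) = 1 by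
      simpa only [mul_assoc, mul_inv_rev, inv_inv, inv_one, mul_one, one_mul] using mul_inv_eq_one.2 h6,
    List.forall_mem_cons.2 ⟨show c * (d * (c⁻¹ * (d⁻¹ * 1))) = 1 by
      simpa only [mul_assoc, mul_inv_rev, inv_inv, inv_one, mul_one, one_mul] using mul_inv_eq_one.2 h7,
    List.forall_mem_cons.2 ⟨show a * (c * (z⁻¹ * (a⁻¹ * (c⁻¹ * 1)))) = 1 by
      simpa only [mul_assoc, mul_inv_rev, inv_inv, inv_one, mul_one, one_mul] using mul_inv_eq_one.2 h8,
    List.forall_mem_cons.2 ⟨show a * (d * (y⁻¹ * (a⁻¹ * (d⁻¹ * 1)))) = 1 by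
      simpa only [mul_assoc, mul_inv_rev, inv_inv, inv_one, mul_one, one_mul] using mul_inv_eq_one.2 h9,
    List.forall_mem_cons.2 ⟨show b * (c * (y⁻¹ * (b⁻¹ * (c⁻¹ * 1)))) = 1 by
      simpa only [mul_assoc, mul_inv_rev, inv_inv, inv_one, mul_one, one_mul] using mul_inv_eq_one.2 h10,
    List.forall_mem_cons.2 ⟨show b * (d * (y⁻¹ * (z⁻¹ * (b⁻¹ * (d⁻¹ * 1))))) = 1 by
      simpa only [mul_assoc, mul_inv_rev, inv_inv, inv_one, mul_one, one_mul] using mul_inv_eq_one.2 h11,
    List.forall_mem_cons.2 ⟨show z * (y * (z⁻¹ * (y⁻¹ * 1))) = 1 by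
      simpa only [mul_assoc, mul_inv_rev, inv_inv, inv_one, mul_one, one_mul] using mul_inv_eq_one.2 h12,
    List.forall_mem_cons.2 ⟨show z * (a * (z⁻¹ * (a⁻¹ * 1))) = 1 by
      simpa only [mul_assoc, mul_inv_rev, inv_inv, inv_one, mul_one, one_mul] using mul_inv_eq_one.2 h13,
    List.forall_mem_cons.2 ⟨show z * (b * (z⁻¹ * (b⁻¹ * 1))) = 1 by
      simpa only [mul_assoc, mul_inv_rev, inv_inv, inv_one, mul_one, one_mul] using mul_inv_eq_one.2 h14,
    List.forall_mem_cons.2 ⟨show z * (c * (z⁻¹ * (c⁻¹ * 1))) = 1 by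
      simpa only [mul_assoc, mul_inv_rev, inv_inv, inv_one, mul_one, one_mul] using mul_inv_eq_one.2 h15,
    List.forall_mem_cons.2 ⟨show z * (d * (z⁻¹ * (d⁻¹ * 1))) = 1 by
      simpa only [mul_assoc, mul_inv_rev, inv_inv, inv_one, mul_one, one_mul] using mul_inv_eq_one.2 h16,
    List.forall_mem_cons.2 ⟨show y * (a * (y⁻¹ * (a⁻¹ * 1))) = 1 by
      simpa only [mul_assoc, mul_inv_rev, inv_inv, inv_one, mul_one, one_mul] using mul_inv_eq_one.2 h17,
    List.forall_mem_cons.2 ⟨show y * (b * (y⁻¹ * (b⁻¹ * 1))) = 1 by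
      simpa only [mul_assoc, mul_inv_rev, inv_inv, inv_one, mul_one, one_mul] using mul_inv_eq_one.2 h18,
    List.forall_mem_cons.2 ⟨show y * (c * (y⁻¹ * (c⁻¹ * 1))) = 1 by
      simpa only [mul_assoc, mul_inv_rev, inv_inv, inv_one, mul_one, one_mul] using mul_inv_eq_one.2 h19,
    List.forall_mem_cons.2 ⟨show y * (d * (y⁻¹ * (d⁻¹ * 1))) = 1 by
      simpa only [mul_assoc, mul_inv_rev, inv_inv, inv_one, mul_one, one_mul] using mul_inv_eq_one.2 h20,
    fun _ h => absurd h List.not_mem_nil⟩⟩⟩⟩⟩⟩⟩⟩⟩⟩⟩⟩⟩⟩⟩⟩⟩⟩⟩⟩⟩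

theorem Rel.of_sat {G : Type*} [Group G] {a b c d z y : G}
    (h : ∀ R ∈ L64E.rels, ev (lt [a, b, c, d, z, y]) R = 1) : Rel a b c d z y := by
  obtain ⟨h0, h⟩ := List.forall_mem_cons.1 h
  obtain ⟨h1, h⟩ := List.forall_mem_cons.1 h
  obtain ⟨h2, h⟩ := List.forall_mem_cons.1 h
  obtain ⟨h3, h⟩ := List.forall_mem_cons.1 h
  obtain ⟨h4, h⟩ := List.forall_mem_cons.1 h
  obtain ⟨h5, h⟩ := List.forall_mem_cons.1 h
  obtain ⟨h6, h⟩ := List.forall_mem_cons.1 h
  obtain ⟨h7, h⟩ := List.forall_mem_cons.1 h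
  obtain ⟨h8, h⟩ := List.forall_mem_cons.1 h
  obtain ⟨h9, h⟩ := List.forall_mem_cons.1 h
  obtain ⟨h10, h⟩ := List.forall_mem_cons.1 h
  obtain ⟨h11, h⟩ := List.forall_mem_cons.1 h
  obtain ⟨h12, h⟩ := List.forall_mem_cons.1 h
  obtain ⟨h13, h⟩ := List.forall_mem_cons.1 h
  obtain ⟨h14, h⟩ := List.forall_mem_cons.1 h
  obtain ⟨h15, h⟩ := List.forall_mem_cons.1 h
  obtain ⟨h16, h⟩ := List.forall_mem_cons.1 h
  obtain ⟨h17, h⟩ := List.forall_mem_cons.1 h
  obtain ⟨h18, h⟩ := List.forall_mem_cons.1 h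
  obtain ⟨h19, h⟩ := List.forall_mem_cons.1 h
  obtain ⟨h20, h⟩ := List.forall_mem_cons.1 h
  exact ⟨mul_inv_eq_one.1 (by simpa only [mul_assoc, mul_inv_rev, inv_inv, inv_one, mul_one, one_mul] using (show a * (a * 1) = 1 from h0)),
    mul_inv_eq_one.1 (by simpa only [mul_assoc, mul_inv_rev, inv_inv, inv_one, mul_one, one_mul] using (show b * (b * 1) = 1 from h1)),
    mul_inv_eq_one.1 (by simpa only [mul_assoc, mul_inv_rev, inv_inv, inv_one, mul_one, one_mul] using (show c * (c * 1) = 1 from h2)),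
    mul_inv_eq_one.1 (by simpa only [mul_assoc, mul_inv_rev, inv_inv, inv_one, mul_one, one_mul] using (show d * (d * 1) = 1 from h3)),
    mul_inv_eq_one.1 (by simpa only [mul_assoc, mul_inv_rev, inv_inv, inv_one, mul_one, one_mul] using (show z * (z * 1) = 1 from h4)),
    mul_inv_eq_one.1 (by simpa only [mul_assoc, mul_inv_rev, inv_inv, inv_one, mul_one, one_mul] using (show y * (y * 1) = 1 from h5)),
    mul_inv_eq_one.1 (by simpa only [mul_assoc, mul_inv_rev, inv_inv, inv_one, mul_one, one_mul] using (show a * (b * (a⁻¹ * (b⁻¹ * 1))) = 1 from h6)),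
    mul_inv_eq_one.1 (by simpa only [mul_assoc, mul_inv_rev, inv_inv, inv_one, mul_one, one_mul] using (show c * (d * (c⁻¹ * (d⁻¹ * 1))) = 1 from h7)),
    mul_inv_eq_one.1 (by simpa only [mul_assoc, mul_inv_rev, inv_inv, inv_one, mul_one, one_mul] using (show a * (c * (z⁻¹ * (a⁻¹ * (c⁻¹ * 1)))) = 1 from h8)),
    mul_inv_eq_one.1 (by simpa only [mul_assoc, mul_inv_rev, inv_inv, inv_one, mul_one, one_mul] using (show a * (d * (y⁻¹ * (a⁻¹ * (d⁻¹ * 1)))) = 1 from h9)),
    mul_inv_eq_one.1 (by simpa only [mul_assoc, mul_inv_rev, inv_inv, inv_one, mul_one, one_mul] using (show b * (c * (y⁻¹ * (b⁻¹ * (c⁻¹ * 1)))) = 1 from h10)),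
    mul_inv_eq_one.1 (by simpa only [mul_assoc, mul_inv_rev, inv_inv, inv_one, mul_one, one_mul] using (show b * (d * (y⁻¹ * (z⁻¹ * (b⁻¹ * (d⁻¹ * 1))))) = 1 from h11)),
    mul_inv_eq_one.1 (by simpa only [mul_assoc, mul_inv_rev, inv_inv, inv_one, mul_one, one_mul] using (show z * (y * (z⁻¹ * (y⁻¹ * 1))) = 1 from h12)),
    mul_inv_eq_one.1 (by simpa only [mul_assoc, mul_inv_rev, inv_inv, inv_one, mul_one, one_mul] using (show z * (a * (z⁻¹ * (a⁻¹ * 1))) = 1 from h13)),
    mul_inv_eq_one.1 (by simpa only [mul_assoc, mul_inv_rev, inv_inv, inv_one, mul_one, one_mul] using (show z * (b * (z⁻¹ * (b⁻¹ * 1))) = 1 from h14)),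
    mul_inv_eq_one.1 (by simpa only [mul_assoc, mul_inv_rev, inv_inv, inv_one, mul_one, one_mul] using (show z * (c * (z⁻¹ * (c⁻¹ * 1))) = 1 from h15)),
    mul_inv_eq_one.1 (by simpa only [mul_assoc, mul_inv_rev, inv_inv, inv_one, mul_one, one_mul] using (show z * (d * (z⁻¹ * (d⁻¹ * 1))) = 1 from h16)),
    mul_inv_eq_one.1 (by simpa only [mul_assoc, mul_inv_rev, inv_inv, inv_one, mul_one, one_mul] using (show y * (a * (y⁻¹ * (a⁻¹ * 1))) = 1 from h17)),
    mul_inv_eq_one.1 (by simpa only [mul_assoc, mul_inv_rev, inv_inv, inv_one, mul_one, one_mul] using (show y * (b * (y⁻¹ * (b⁻¹ * 1))) = 1 from h18)),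
    mul_inv_eq_one.1 (by simpa only [mul_assoc, mul_inv_rev, inv_inv, inv_one, mul_one, one_mul] using (show y * (c * (y⁻¹ * (c⁻¹ * 1))) = 1 from h19)),
    mul_inv_eq_one.1 (by simpa only [mul_assoc, mul_inv_rev, inv_inv, inv_one, mul_one, one_mul] using (show y * (d * (y⁻¹ * (d⁻¹ * 1))) = 1 from h20))⟩

theorem rel : Rel a b c d z y := by decide +kernel

theorem model {G : Type*} [Group G] {a' b' c' d' z' y' : G} (h : Rel a' b' c' d' z' y') :
    ∃ φ : E →* G, φ a = a' ∧ φ b = b' ∧ φ c = c' ∧ φ d = d' ∧ φ z = z' ∧ φ y = y' := by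
  obtain ⟨pt, h0, -, hT⟩ := L64E.enum (lt [a', b', c', d', z', y']) (1 : G)
    (lt_icol _ _ (k := 6) rfl (by decide +kernel)) (lt_ge le_rfl) h.sat
    (fun _ h => absurd h List.not_mem_nil)
  obtain ⟨φ, hφ⟩ := exists_hom tb (l := [a', b', c', d', z', y']) rfl h0 hT hom_chk
  exact ⟨φ, by simpa only [List.cons.injEq, and_true] using
    (show [φ a, φ b, φ c, φ d, φ z, φ y] = [a', b', c', d', z', y'] from hφ)⟩

end H83.L64
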