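import Cfsg.Agent.Lib.X32.Fr
import Cfsg.Agent.Lib.X32.Act
import Cfsg.Agent.Lib.BG.Api.Quo2
import Cfsg.Agent.Lib.Gold.Basic1
import Cfsg.Agent.Lib.FGS83.SecRank
import Cfsg.Agent.Lib.GH2.TL64
import Cfsg.Agent.Lib.GH2.TL128
import Cfsg.Agent.Lib.GH2.TL256

/-! Sectional rank four, solvable central centralizers: the definitions (helper83) -/

set_option autoImplicit false

namespace H83.G2
open Subgroup Cfsg H69 H45 Gold H31.X32 H31.X32.SD

variable {G X : Type*} [Group G] [Group X]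

/-- the global hypotheses -/
structure Gl (G : Type*) [Group G] : Prop where
  simple : IsSimpleGroup G
  nab : ¬ IsMulCommutative G
  sr : SR 4 G
  sol : ∀ z : G, IsTwoCentralInvolution z → Group.IsSolvable 𝐂[z]
  nse : ∀ M : Subgroup G, ¬ IsStronglyEmbedded M

/-- `X` is the normalizer of `V` modulo its core; `V` maps onto `O₂(X)` -/
structure Loc (V : Subgroup G) (f : 𝐍(V) →* X) : Prop where
  two : IsPGroup 2 V
  surj : Function.Surjective f
  odd : OddS (kerOf f)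
  img : im f V = pCore 2 X
  cen : 𝐂(pCore 2 X) ≤ pCore 2 X
  core : oddCore X = ⊥
  ns : ¬ Group.IsSolvable X

/-- the centralizer of a central involution modulo its core -/
structure Ys (z : X) : Prop where
  sol : Group.IsSolvable X
  core : oddCore X = ⊥
  sr : SR 4 X
  z2 : z * z = 1
  z1 : z ≠ 1
  cz : ∀ g, g * z = z * g

/-- the quotient map of the centralizer by its core -/
abbrev qz (z : G) : 𝐂[z] →* 𝐂[z] ⧸ oddCore 𝐂[z] := QuotientGroup.mk' (oddCore 𝐂[z])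

/-- `t` and `ρ` generate an `A₄` above the elementary group `V` of order 16 -/
structure Tri (V : Subgroup X) (t ρ : X) : Prop where
  nrm : V.Normal
  el : ∀ v ∈ V, v * v = 1
  c16 : Nat.card V = 16
  r3 : ρ * ρ * ρ = 1
  t2 : t * t ∈ V
  prod : t * (ρ * t * ρ⁻¹) * (ρ * (ρ * t * ρ⁻¹) * ρ⁻¹) ∈ V
  c4 : Nat.card (V ⊓ 𝐂[t] : Subgroup X) ≤ 4

/-- the four-group acts freely -/
def Fe (V : Subgroup X) (t ρ : X) : Prop :=
  ∃ v ∈ V, t * v = v * t ∧ ρ * t * ρ⁻¹ * v ≠ v * (ρ * t * ρ⁻¹)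

/-- the natural module -/
structure Nt5 (V : Subgroup X) (t ρ : X) : Prop extends Tri V t ρ where
  nfe : ¬ Fe V t ρ
  fpf : ∀ v ∈ V, ρ * v * ρ⁻¹ = v → v = 1
  mv : ∃ g, ∃ v ∈ V, t * v = v * t ∧ t * (g * v * g⁻¹) ≠ g * v * g⁻¹ * t

/-- the element of order three without fixed points -/
noncomputable def r0 : SD EP WP := ⟨1, H31.W72.x * H31.W72.y⟩

/-- the involution swapping the quaternion factors -/
noncomputable def s0 : SD EP WP := ⟨1, H31.W72.s⟩

/-- the frame in the free case -/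
structure Xf (Q : Subgroup X) (φ : EP →* X) (ρ u : X) : Prop where
  z1 : φ zP ≠ 1
  rho : R φ ρ r0
  uQ : u ∈ Q
  u2 : u * u = 1
  us : R φ u s0
  cz : ∀ w ∈ Q, (∀ v, φ v * w = w * φ v) → w = 1 ∨ w = φ zP

/-- the frame when `Q` has order 8 -/
structure Xd (Q : Subgroup X) (φ : EP →* X) (ρ i : X) : Prop where
  z1 : φ zP ≠ 1
  rho : R φ ρ r0
  mem : ∀ w, w ∈ Q ↔ ∃ v, cj s0 v = v ∧ φ v = w
  i2 : i * i = 1
  iP : i ∉ φ.range
  iR : ∃ ν : SD EP WP, R φ i ν
  c64 : ¬ 128 ∣ Nat.card X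
  fu : ∀ g, g * g = 1 → ∃ k, k * g * k⁻¹ ∈ φ.range
  pure : ∀ w ∈ Q, w ≠ 1 → IsConj (φ zP) w
  h7 : 7 ∣ Nat.card X

/-- a central involution, all involutions in `Q` -/
structure CIa (Q : Subgroup X) (w : X) : Prop where
  w1 : w ≠ 1
  w2 : w * w = 1
  cw : ∀ g, g * w = w * g
  inv : ∀ u : X, u * u = 1 → u ∈ Q
  ab : ∀ u ∈ Q, ∀ v ∈ Q, u * v = v * u
  cen : ∀ g : X, (∀ v : X, v * v = 1 → g * v = v * g) → g ∈ Q

/-- a central involution, the only one in the centre of `K` -/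
structure CIb (Q K : Subgroup X) (w : X) : Prop where
  cw : ∀ g, g * w = w * g
  two : IsPGroup 2 K
  le : Q ≤ K
  uniq : ∀ v ∈ Q, v * v = 1 → (∀ k ∈ K, k * v = v * k) → v = 1 ∨ v = w

/-- a model `l` of a Sylow subgroup of `H`, with `V` the centralizer of `a` and `b` -/
structure Nd {L : Type} [Group L] (l : L →* G) (a b z y : L) (V H : Subgroup G) : Prop where
  inj : Function.Injective l
  syl : IsSylowIn 2 l.range H
  mem : ∀ v, v ∈ V ↔ ∃ u, u * a = a * u ∧ u * b = b * u ∧ l u = v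
  rot : ∃ β, β * l z * β⁻¹ = l y ∧ β * l y * β⁻¹ = l (z * y)
  fus : ∀ v ∈ V, v ≠ 1 → IsConj (l z) v

/-- a Sylow subgroup of order 256 -/
structure N8 (l : L256.E →* G) : Prop where
  inj : Function.Injective l
  syl : IsSylowIn 2 l.range ⊤
  rot : ∃ β, β * l L256.z * β⁻¹ = l L256.y ∧ β * l L256.y * β⁻¹ = l (L256.z * L256.y)
  fa : IsConj (l L256.z) (l L256.a)
  fb : IsConj (l L256.z) (l L256.b)

theorem R.of_gens {φ : EP →* X} {g : X} {ν : SD EP WP}
    (ha : g * φ H70.Q32.a * g⁻¹ = φ (cj ν H70.Q32.a)) (hb : g * φ H70.Q32.b * g⁻¹ = φ (cj ν H70.Q32.b))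
    (hc : g * φ H70.Q32.c * g⁻¹ = φ (cj ν H70.Q32.c)) (hd : g * φ H70.Q32.d * g⁻¹ = φ (cj ν H70.Q32.d)) :
    R φ g ν := fun u =>
  (H70.Q32.eq_top (K := ((MulAut.conj g).toMonoidHom.comp φ).eqLocus (φ.comp (cjH ν))) ha hb hc hd).ge
    (mem_top u)

theorem inj_of {φ : EP →* X} (h : φ zP ≠ 1) : Function.Injective φ :=
  (injective_iff_map_eq_one _).2 fun u hu => by
    have k : ∀ u : EP, u = 1 ∨ u = zP ∨ ∃ k, u * k * u⁻¹ * k⁻¹ = zP := by decide +kernel
    rcases k u with f | rfl | ⟨k, f⟩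
    · exact f
    · exact absurd hu h
    · refine absurd ?_ h
      rw [← f, map_mul, map_mul, map_mul, map_inv, map_inv, hu]; group

theorem card_range {φ : EP →* X} (h : φ zP ≠ 1) : Nat.card φ.range = 32 := by
  rw [← H70.Q32.card]; exact (Nat.card_congr (MonoidHom.ofInjective (inj_of h)).toEquiv).symm

theorem isP_range (φ : EP →* X) : IsPGroup 2 φ.range :=
  (IsPGroup.of_card (n := 5) H70.Q32.card).of_surjective _ φ.rangeRestrict_surjective

/-- every element normalizing the image and fixing `z` acts as an element of the holomorph -/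
theorem exR {φ : EP →* X} (h : φ zP ≠ 1) {g : X} (hz : g * φ zP = φ zP * g)
    (hn : ∀ u, g * φ u * g⁻¹ ∈ φ.range) : ∃ ν : SD EP WP, R φ g ν := by
  choose α hα using hn
  obtain ⟨ν, e⟩ := mdP.aut (MonoidHom.mk' α fun u v => inj_of h (by
    rw [map_mul, hα, hα, hα, map_mul]; group)) (inj_of h (by
      rw [MonoidHom.mk'_apply, hα, hz, mul_inv_cancel_right]))
  exact ⟨ν, fun u => by rw [← e, MonoidHom.mk'_apply, hα]⟩

theorem es_range {φ : EP →* X} (h : φ zP ≠ 1) : H95.ES φ.range (φ zP) := by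
  have k1 : ∀ u v : EP, u * v = v * u ∨ u * v = v * u * zP := by decide +kernel
  have k2 : ∀ u : EP, (∀ v, u * v = v * u) → u = 1 ∨ u = zP := by decide +kernel
  refine ⟨⟨_, rfl⟩, h, by rw [← map_mul, show zP * zP = 1 by decide +kernel, map_one], ?_, ?_, ?_,
    _, ⟨H70.Q32.a, rfl⟩, _, ⟨H70.Q32.b, rfl⟩, fun e => ?_⟩
  · rintro _ ⟨u, rfl⟩
    rw [← map_mul, ← map_mul, mdP.cen]
  · rintro _ ⟨u, rfl⟩ _ ⟨v, rfl⟩
    simp only [← map_mul]
    exact (k1 u v).imp (congrArg φ) (congrArg φ)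
  · rintro _ ⟨u, rfl⟩ e
    exact (k2 u fun v => inj_of h (by rw [map_mul, map_mul, e _ ⟨v, rfl⟩])).imp
      (fun e => by rw [e, map_one]) (congrArg φ)
  · rw [← map_mul, ← map_mul] at e
    exact absurd (inj_of h e) (by decide +kernel)

theorem eqns_def : True := by
  have := @Fe.eq_1.{0}
  have := @r0.eq_1
  have := @s0.eq_1
  trivial

end H83.G2
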