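import Cfsg.Agent.Lib.GH2.Def
import Cfsg.Agent.Lib.FGS83.R4A

/-! GH2, package FW: the frame given by involutions (helper83) -/

set_option autoImplicit false

namespace H83.G2
open Subgroup Cfsg H69 H45 Gold H31.X32 H31.X32.SD H83.R4

/-- the frame given by involutions -/
theorem fw {X : Type*} [Group X] {z a b v w ρ : X} (zz : z * z = 1) (aa : a * a = 1) (vv : v * v = 1)
    (za : z * a = a * z) (zv : z * v = v * z) (ρz : ρ * z * ρ⁻¹ = z) (ρa : ρ * a * ρ⁻¹ = b)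
    (ρb : ρ * b * ρ⁻¹ = a * b) (ρv : ρ * v * ρ⁻¹ = w) (ρw : ρ * w * ρ⁻¹ = v * w) (ab : a * b = b * a)
    (vw : v * w = w * v) (av : a * v = v * a) (aw : a * w = w * a * z) (bv : b * v = v * b * z) :
    ∃ φ : EP →* X, φ zP = z ∧ R φ ρ r0 ∧ (∀ K : Subgroup X, φ.range ≤ K ↔
        z ∈ K ∧ a ∈ K ∧ b ∈ K ∧ v ∈ K ∧ w ∈ K) ∧
      (∀ x, (∃ u, cj s0 u = u ∧ φ u = x) ↔ x ∈ closure {z, v, w}) ∧
      ∀ u, u * z * u⁻¹ = z → u * v * u⁻¹ = v → u * w * u⁻¹ = w → u * a * u⁻¹ = a * v * z →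
        u * b * u⁻¹ = b * w * z → R φ u s0 := by
  have cj : ∀ {x y x' y' : X}, ρ * x * ρ⁻¹ = x' → ρ * y * ρ⁻¹ = y' → ρ * (x * y) * ρ⁻¹ = x' * y' :=
    fun e e' => by rw [← e, ← e', conj_mul]
  have bb : b * b = 1 := by rw [← cj ρa ρa, aa]; group
  have ww : w * w = 1 := by rw [← cj ρv ρv, vv]; group
  have zb : z * b = b * z := by rw [← cj ρz ρa, za, cj ρa ρz]
  have zw : z * w = w * z := by rw [← cj ρz ρv, zv, cj ρv ρz]
  have bw : b * w = w * b := by rw [← cj ρa ρv, av, cj ρv ρa]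
  have r : ∀ {a b c : X}, a * b = c → ∀ t, a * (b * t) = c * t := fun h t => by rw [← mul_assoc, h]
  have wa : w * a = a * (w * z) := by rw [← mul_assoc, aw, mul_assoc, zz, mul_one]
  have vb : v * b = b * (v * z) := by rw [← mul_assoc, bv, mul_assoc, zz, mul_one]
  obtain ⟨φ, e1, e2, e3, e4⟩ := H70.Q32.model (a' := a * w) (b' := b * (v * w)) (c' := a * (v * (w * z)))
    (d' := b * (v * z)) (by
      refine ⟨?_, ?_, ?_, ?_, ?_, ?_, ?_, ?_, ?_, ?_⟩ <;>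
      simp only [mul_assoc, r aa, r bb, r vv, r ww, r zz, r za, r zb, r zv, r zw, r wa, r vb, r ab.symm,
        r av.symm, r bw.symm, r vw.symm, aa, bb, vv, ww, zz, za, zb, zv, zw, wa, vb, ab.symm, av.symm,
        bw.symm, vw.symm, one_mul, mul_one])
  have ez : φ zP = z := by
    rw [show zP = H70.Q32.a * H70.Q32.a by decide +kernel, map_mul, e1]
    simp only [mul_assoc, r wa, r aa, r zw, zw, r ww, one_mul]
  have ev : φ (H70.Q32.a * H70.Q32.c) = v := by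
    rw [map_mul, e1, e3]
    simp only [mul_assoc, r wa, r aa, r zw, r zv, r vw.symm, zz, ww, one_mul, mul_one]
  have ew : φ (H70.Q32.b * H70.Q32.d) = w := by
    rw [map_mul, e2, e4]
    simp only [mul_assoc, r bw.symm, r vb, r bb, r zw, r zv, r vw.symm, zz, r vv, one_mul, mul_one]
  refine ⟨φ, ez, R.of_gens ?_ ?_ ?_ ?_, fun K => ⟨fun h => ?_, fun ⟨h1, h2, h3, h4, h5⟩ => ?_⟩,
    fun x => ⟨?_, fun hx => ?_⟩, fun u h1 h2 h3 h4 h5 => ?_⟩
  · rw [show SD.cj r0 H70.Q32.a = H70.Q32.b by decide +kernel, e1, e2, cj ρa ρw]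
  · rw [show SD.cj r0 H70.Q32.b = H70.Q32.a * H70.Q32.b by decide +kernel, map_mul, e1, e2,
      cj ρb (cj ρv ρw)]
    simp only [mul_assoc, r bw.symm]
  · rw [show SD.cj r0 H70.Q32.c = H70.Q32.d by decide +kernel, e3, e4, cj ρa (cj ρv (cj ρw ρz))]
    simp only [mul_assoc, r vw.symm, r ww, one_mul]
  · rw [show SD.cj r0 H70.Q32.d = H70.Q32.c * H70.Q32.d by decide +kernel, map_mul, e3, e4,
      cj ρb (cj ρv ρz)]
    simp only [mul_assoc, r bw.symm, r vw.symm, r zb, r zv, r zw, r vb, r vv, r zz, zv, zz, one_mul, mul_one]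
  · have h1 := ez ▸ h ⟨_, rfl⟩
    have h4 := ev ▸ h ⟨_, rfl⟩
    have h5 := ew ▸ h ⟨_, rfl⟩
    exact ⟨h1, (mul_mem_cancel_right h5).1 (e1 ▸ h ⟨_, rfl⟩),
      (mul_mem_cancel_right (mul_mem h4 h5)).1 (e2 ▸ h ⟨_, rfl⟩), h4, h5⟩
  · rintro _ ⟨u, rfl⟩
    exact (H70.Q32.eq_top (K := K.comap φ) (by rw [mem_comap, e1]; exact mul_mem h2 h5)
      (by rw [mem_comap, e2]; exact mul_mem h3 (mul_mem h4 h5))
      (by rw [mem_comap, e3]; exact mul_mem h2 (mul_mem h4 (mul_mem h5 h1)))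
      (by rw [mem_comap, e4]; exact mul_mem h3 (mul_mem h4 h1))).ge (mem_top u)
  · rintro ⟨u, hu, rfl⟩
    have m1 : φ zP ∈ closure {z, v, w} := subset_closure (by simp [ez])
    have m2 : φ (H70.Q32.a * H70.Q32.c) ∈ closure {z, v, w} := subset_closure (by simp [ev])
    have m3 : φ (H70.Q32.b * H70.Q32.d) ∈ closure {z, v, w} := subset_closure (by simp [ew])
    obtain ⟨i, j, k, rfl⟩ := (by decide +kernel : ∀ u, SD.cj s0 u = u → ∃ i j k : Fin 2,
      u = zP ^ i.1 * (H70.Q32.a * H70.Q32.c) ^ j.1 * (H70.Q32.b * H70.Q32.d) ^ k.1) u hu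
    rw [map_mul, map_mul, map_pow, map_pow, map_pow]
    exact mul_mem (mul_mem (pow_mem m1 _) (pow_mem m2 _)) (pow_mem m3 _)
  · exact (closure_le (((cjH s0).eqLocus (MonoidHom.id _)).map φ)).2 (by
      rintro _ (rfl | rfl | rfl)
      exacts [⟨_, (by decide +kernel : SD.cj s0 zP = zP), ez⟩,
        ⟨_, (by decide +kernel : SD.cj s0 (_ * _) = _), ev⟩,
        ⟨_, (by decide +kernel : SD.cj s0 (_ * _) = _), ew⟩]) hx
  · have cu : ∀ {x y x' y' : X}, u * x * u⁻¹ = x' → u * y * u⁻¹ = y' → u * (x * y) * u⁻¹ = x' * y' :=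
      fun e e' => by rw [← e, ← e', conj_mul]
    refine R.of_gens ?_ ?_ ?_ ?_
    · rw [show SD.cj s0 H70.Q32.a = H70.Q32.c by decide +kernel, e1, e3, cu h4 h3]
      simp only [mul_assoc, zw]
    · rw [show SD.cj s0 H70.Q32.b = H70.Q32.d by decide +kernel, e2, e4, cu h5 (cu h2 h3)]
      simp only [mul_assoc, r zv, zw, r vw.symm, r ww, one_mul]
    · rw [show SD.cj s0 H70.Q32.c = H70.Q32.a by decide +kernel, e1, e3, cu h4 (cu h2 (cu h3 h1))]
      simp only [mul_assoc, r zv, r zw, r vv, zz, one_mul, mul_one]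
    · rw [show SD.cj s0 H70.Q32.d = H70.Q32.b by decide +kernel, e2, e4, cu h5 (cu h2 h1)]
      simp only [mul_assoc, r zv, zz, vw.symm, mul_one]

end H83.G2
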