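import Cfsg.Agent.Lib.GH2.YA

/-! GH2, package LU -/

set_option autoImplicit false
set_option linter.unusedSectionVars false

namespace H83.G2
open Subgroup Cfsg H69 H45 Gold H31.X32 H31.X32.SD H83.R4

namespace LU

theorem k1 : ∀ u : EP, ∃ v, u = v * (cj r0 v)⁻¹ ∨ u = v * (cj r0 v)⁻¹ * zP := by decide +kernel

theorem k2 : ∀ u : EP, u * u = 1 ∨ u * u = zP := by decide +kernel

theorem k3 : r0 ^ 3 = 1 := by decide +kernel

theorem k4 : ∀ k : WP, (k⁻¹ * r0.r * k * r0.r⁻¹) ^ 8 = 1 → k * r0.r = r0.r * k := by decide +kernel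

theorem k5 : ∀ k : WP, k ^ 8 = 1 → k * r0.r = r0.r * k → k ≠ 1 → k * k = 1 ∧
    (∀ l : EP, l * k • l ≠ zP) ∧
    ∀ k' : WP, k' ^ 8 = 1 → k' * r0.r = r0.r * k' → (k' * k) ^ 8 = 1 → k' = 1 ∨ k' * k = 1 := by
  decide +kernel

theorem k6 : ∀ u : EP, (∃ v, v * v = 1 ∧ v⁻¹ * u * (v⁻¹ * u) = 1) ∧
    (u * u = zP ∨ ∃ v, v * v = zP ∧ v⁻¹ * u * (v⁻¹ * u) = zP) := by decide +kernel

theorem two8 {k : WP} {m : ℕ} (h : k ^ 2 ^ m = 1) : k ^ 8 = 1 := by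
  have h1 : orderOf k ∣ 8 * 9 := (orderOf_dvd_natCard k).trans (by rw [H31.W72.card])
  exact orderOf_dvd_iff_pow_eq_one.1 ((Nat.Coprime.coprime_dvd_left (orderOf_dvd_of_pow_eq_one h)
    (Nat.Coprime.pow_left m (by norm_num))).dvd_of_dvd_mul_right h1)

section
variable {E W : Type} [Group E] [Group W] [MulDistribMulAction W E]

theorem rr (ν μ : SD E W) : (ν⁻¹ * μ * ν * μ⁻¹).r = ν.r⁻¹ * μ.r * ν.r * μ.r⁻¹ := rfl

theorem rr' (μ : SD E W) {k : W} (h : k * k = 1) : (μ * (⟨1, k⟩ : SD E W)⁻¹).r = μ.r * k :=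
  congrArg (μ.r * ·) (inv_eq_of_mul_eq_one_right h)

end

variable {Y : Type*} [Group Y] [Finite Y] {φ : EP →* Y}

theorem three {ρ : Y} (hρ : R φ ρ r0) : ∃ ρ' : Y, R φ ρ' r0 ∧ ∃ k, ρ' ^ 3 ^ k = 1 := by
  obtain ⟨e, m, hm, h⟩ := Nat.exists_eq_pow_mul_and_not_dvd (orderOf_pos ρ).ne' 3 (by norm_num)
  refine ⟨ρ ^ (m * m), (hρ.pow _).of_eq ?_, e, ?_⟩
  · obtain ⟨j, hj⟩ : ∃ j, m * m = 3 * j + 1 := ⟨m * m / 3, by
      have : m * m % 3 = 1 := by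
        rw [Nat.mul_mod]
        have : m % 3 = 1 ∨ m % 3 = 2 := by omega
        rcases this with e | e <;> rw [e]
      omega⟩
    rw [hj, pow_succ, pow_mul, k3, one_pow, one_mul]
  · rw [← pow_mul, show m * m * 3 ^ e = 3 ^ e * m * m by ring, ← h, pow_mul, pow_orderOf_eq_one, one_pow]

omit [Finite Y] in
theorem exists_sq {Z : Subgroup Y} (k : ℕ) : ∀ g : Y, g ∉ Z → g ^ 2 ^ k ∈ Z →
    ∃ c ∈ zpowers g, c ∉ Z ∧ c * c ∈ Z := by
  induction k with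
  | zero => intro g h1 h2; exact absurd (by simpa using h2) h1
  | succ k ih =>
    intro g h1 h2
    by_cases e : g * g ∈ Z
    · exact ⟨g, mem_zpowers g, h1, e⟩
    · obtain ⟨c, hc, h3⟩ := ih (g * g) e (by rwa [← pow_two, ← pow_mul, ← pow_succ'])
      exact ⟨c, zpowers_le.2 (mul_mem (mem_zpowers g) (mem_zpowers g)) hc, h3⟩

variable (h : Ys (φ zP))
include h

omit [Finite Y] in
theorem sqZ (u : EP) : φ u * φ u ∈ zpowers (φ zP) := by
  rw [← map_mul]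
  rcases k2 u with e | e <;> rw [e]
  exacts [map_one φ ▸ one_mem _, mem_zpowers _]

theorem le_Q {ρ : Y} (hρ : R φ ρ r0) (h3 : ∃ k, ρ ^ 3 ^ k = 1) (u : EP) : φ u ∈ pCore 2 Y := by
  have key : ∀ v, φ (v * (cj r0 v)⁻¹) ∈ pCore 2 Y := fun v => by
    by_contra hQ
    have e : φ (v * (cj r0 v)⁻¹) = φ v * ρ * (φ v)⁻¹ * ρ⁻¹ := by
      rw [map_mul, map_inv, ← hρ v]; group
    have h2 := zpowers_le.2 h.zQ (sqZ h (v * (cj r0 v)⁻¹))
    have := (h.a8 (e ▸ commutator_mem_commutator (mem_top (φ v)) (mem_top ρ)) h2 hQ).2 ρ h3 (φ v)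
    rw [← e, pow_succ, pow_two] at this
    exact hQ ((mul_mem_cancel_left h2).1 this)
  obtain ⟨v, rfl | rfl⟩ := k1 u
  · exact key v
  · rw [map_mul]; exact mul_mem (key v) h.zQ

theorem cen {g : Y} (hg : g ∈ pCore 2 Y) (hc : ∀ x ∈ φ.range, x * g = g * x) :
    g = 1 ∨ g = φ zP := by
  have : Fact (Nat.Prime 2) := ⟨Nat.prime_two⟩
  rw [← mem_zpowers_of_mul_self h.z2]
  by_contra hn
  obtain ⟨k, hk⟩ := H1.isPGroup_pCore (⟨g, hg⟩ : pCore 2 Y)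
  obtain ⟨c, hc1, hc2, hc3⟩ := exists_sq k g hn (by
    rw [show g ^ 2 ^ k = 1 from congrArg Subtype.val hk]; exact one_mem _)
  have cC : zpowers c ≤ 𝐂(φ.range) := zpowers_le.2 (zpowers_le.2 (show g ∈ 𝐂(φ.range) from hc) hc1)
  have zP' : zpowers (φ zP) ≤ φ.range := zpowers_le.2 ⟨_, rfl⟩
  have b := h.sr (zpowers c ⊔ φ.range) (zpowers (φ zP)) (zP'.trans le_sup_right) fun x hx => by
    obtain ⟨a, ha, _, ⟨u, rfl⟩, rfl⟩ :=
      (mem_sup_of_le_normalizer_right (le_normalizer_of_le_centralizer cC)).1 hx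
    have e := cC ha _ ⟨u, rfl⟩
    rw [show a * φ u * (a * φ u) = a * (φ u * a) * φ u by group, e,
      show a * (a * φ u) * φ u = a * a * (φ u * φ u) by group]
    refine mul_mem ?_ (sqZ h u)
    obtain ⟨i, rfl⟩ := ha
    rw [← (Commute.refl c).mul_zpow]
    exact zpow_mem hc3 i
  have e := H1.card_mul_relIndex_of_le (zP'.trans (le_sup_right : _ ≤ zpowers c ⊔ φ.range))
  rw [Nat.card_zpowers, H9.orderOf_eq_two_of_mul_self h.z1 h.z2] at e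
  have e' : φ.range = zpowers c ⊔ φ.range :=
    eq_of_le_of_card_ge le_sup_right (by rw [card_range h.z1]; omega)
  exact hc2 ((mem_zpowers_of_mul_self h.z2).2 ((es_range h.z1).nondeg c
    (e'.ge (mem_sup_left (mem_zpowers c))) fun y hy => (cC (mem_zpowers c) y hy).symm))

theorem memP (hP : ∀ u, φ u ∈ pCore 2 Y) {g : Y} (hg : g ∈ pCore 2 Y) {ν : SD EP WP} (r : R φ g ν)
    (e : ν.r = 1) : g ∈ φ.range := by
  have r' := r.norm
  rw [e] at r'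
  have := cen h (mul_mem (inv_mem (hP ν.l)) hg) (by
    rintro _ ⟨u, rfl⟩
    exact (r'.comm (by rw [cj_inr, one_smul])).symm)
  rw [← mul_inv_cancel_left (φ ν.l) g]
  refine mul_mem ⟨_, rfl⟩ ?_
  rcases this with f | f <;> rw [f]
  exacts [one_mem _, ⟨_, rfl⟩]

theorem el8 {g : Y} (hg : g ∈ pCore 2 Y) {ν : SD EP WP} (r : R φ g ν) : ν.r ^ 8 = 1 := by
  have : Fact (Nat.Prime 2) := ⟨Nat.prime_two⟩
  obtain ⟨k, hk⟩ := H1.isPGroup_pCore (⟨g, hg⟩ : pCore 2 Y)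
  have r' := r.pow (2 ^ k)
  rw [show g ^ 2 ^ k = 1 from congrArg Subtype.val hk] at r'
  refine two8 (m := k) ((map_pow pr ν _).symm.trans ?_)
  rcases mdP.faith _ fun u => inj_of h.z1 (by rw [← r' u]; group) with e | e <;> rw [e] <;> rfl

theorem exists_w {ρ : Y} (hρ : R φ ρ r0) (hP : ∀ u, φ u ∈ pCore 2 Y) : ∃ w : EP, (w = 1 ∨ w = zP) ∧
    ∀ x ∈ pCore 2 Y ⊓ 𝐍(φ.range), x * x = φ w → x ∈ φ.range := by
  have ex : ∀ g ∈ 𝐍(φ.range), ∃ ν : SD EP WP, R φ g ν := fun g hg =>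
    exR h.z1 (h.cz g) fun u => conj_mem_of_mem_normalizer hg ⟨u, rfl⟩
  have cm : ∀ g ∈ pCore 2 Y, ∀ ν : SD EP WP, R φ g ν → ν.r * r0.r = r0.r * ν.r := fun g hg ν r =>
    k4 _ (by
      rw [← rr]
      refine el8 h ?_ (((r.inv.mul hρ).mul r).mul hρ.inv)
      have := mul_mem (inv_mem hg) ((inferInstance : (pCore 2 Y).Normal).conj_mem g hg ρ)
      simpa only [mul_assoc] using this)
  by_cases hN : pCore 2 Y ⊓ 𝐍(φ.range) ≤ φ.range
  · exact ⟨1, Or.inl rfl, fun x hx _ => hN hx⟩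
  obtain ⟨g, hg, hg'⟩ := SetLike.not_le_iff_exists.1 hN
  obtain ⟨ν, r⟩ := ex g hg.2
  obtain ⟨a1, a2, a3⟩ := k5 ν.r (el8 h hg.1 r) (cm g hg.1 ν r) fun e => hg' (memP h hP hg.1 r e)
  have r' := r.norm
  have mQ := mul_mem (inv_mem (hP ν.l)) hg.1
  generalize (φ ν.l)⁻¹ * g = m at r' mQ
  have key : ∀ x ∈ pCore 2 Y ⊓ 𝐍(φ.range), x ∉ φ.range → x * x ≠ φ zP * (m * m) := fun x hx hx' e => by
    obtain ⟨μ, s⟩ := ex x hx.2
    have s' := s.mul r'.inv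
    have e8 := el8 h (mul_mem hx.1 (inv_mem mQ)) s'
    rw [rr' μ a1] at e8
    rcases a3 μ.r (el8 h hx.1 s) (cm x hx.1 μ s) e8 with f | f
    · exact hx' (memP h hP hx.1 s f)
    obtain ⟨l, hl⟩ := memP h hP (mul_mem hx.1 (inv_mem mQ)) s' ((rr' μ a1).trans f)
    obtain rfl : x = φ l * m := by rw [hl]; group
    refine a2 l (inj_of h.z1 (mul_right_cancel (b := m * m) ?_))
    rw [← e, map_mul, ← cj_inr, ← r' l]; group
  rcases cen h (mul_mem mQ mQ) (by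
    rintro _ ⟨u, rfl⟩
    exact ((r'.mul r').comm (by rw [cj_mul, cj_inr, cj_inr, smul_smul, a1, one_smul])).symm) with e | e
  · exact ⟨zP, Or.inr rfl, fun x hx k => by_contra fun f => key x hx f (by rw [k, e, mul_one])⟩
  · exact ⟨1, Or.inl rfl, fun x hx k => by_contra fun f => key x hx f (by rw [k, e, h.z2, map_one])⟩

end LU

theorem Ys.lemU {Y : Type*} [Group Y] [Finite Y] {φ : EP →* Y} (h : Ys (φ zP)) {ρ : Y}
    (hρ : R φ ρ r0) : H95.L3 φ.range (φ zP) := by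
  have : Fact (Nat.Prime 2) := ⟨Nat.prime_two⟩
  obtain ⟨ρ', hρ', h3⟩ := LU.three hρ
  have hP := LU.le_Q h hρ' h3
  obtain ⟨w, hw, key⟩ := LU.exists_w h hρ hP
  have pN : ∀ u, φ u ∈ pCore 2 Y ⊓ 𝐍(φ.range) := fun u => ⟨hP u, le_normalizer ⟨u, rfl⟩⟩
  have le : 𝐍(pCore 2 Y ⊓ 𝐍(φ.range)) ≤ 𝐍(φ.range) := fun n hn => mem_normalizer_of_cj_le fun y hy => by
    obtain ⟨_, ⟨u, rfl⟩, rfl⟩ := mem_cj'.1 hy
    have k : ∀ v, v * v = w → n * φ v * n⁻¹ ∈ φ.range := fun v hv =>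
      key _ (conj_mem_of_mem_normalizer hn (pN v)) (by
        rw [conj_mul, ← map_mul, hv]
        rcases hw with rfl | rfl
        · rw [map_one]; group
        · rw [h.cz, mul_inv_cancel_right])
    have k' : ∀ v, v * v = w → v⁻¹ * u * (v⁻¹ * u) = w → n * φ u * n⁻¹ ∈ φ.range := fun v h1 h2 => by
      have := mul_mem (k _ h1) (k _ h2)
      rwa [conj_mul, ← map_mul, mul_inv_cancel_left] at this
    rcases hw with rfl | rfl
    · obtain ⟨v, h1, h2⟩ := (LU.k6 u).1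
      exact k' v h1 h2
    · rcases (LU.k6 u).2 with e | ⟨v, h1, h2⟩
      exacts [k u e, k' v h1 h2]
  have p : IsPGroup 2 (pCore 2 Y ⊓ 𝐍(φ.range) : Subgroup Y) := H1.isPGroup_pCore.to_le inf_le_left
  have e := (isSylowIn_of_normalizer (L := pCore 2 Y) inf_le_left
    ⟨le_inf inf_le_left le_normalizer, p, fun R h1 h2 _ =>
      le_antisymm (h2.trans (inf_le_inf_left _ le)) h1⟩).max _ inf_le_left le_rfl H1.isPGroup_pCore
  rw [← e] at le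
  have : φ.range.Normal := normal_iff_top_le_normalizer.2 (le_normalizer_of_normal.trans le)
  exact h.wf (es_range h.z1) fun g hg hc => LU.cen h hg hc

end H83.G2
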