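import Cfsg.Agent.Lib.GH2.Def
import Cfsg.Agent.Lib.FGS83.R4A
import Cfsg.Agent.Lib.NE8.B3
import Cfsg.Agent.Lib.NE8.Tri
import Cfsg.Agent.Lib.NE8.T8
import Cfsg.Agent.Lib.NE8.Comm
import Cfsg.Agent.Lib.NE8.Conn
import Cfsg.Agent.Lib.JT.Cent

/-! GH2, package NE -/

set_option autoImplicit false

namespace H83.G2.NE
open Subgroup Cfsg H69 H45 H45.NE8 H23.GW

variable {G : Type*} [Group G] [Finite G] {S U V A K S₁ : Subgroup G} {z u β m s t : G}

theorem inj {l : L256.E →* G} (h : l L256.z ≠ 1) : Function.Injective l := by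
  have := Fact.mk Nat.prime_two
  have k : ∀ x : L256.E, L256.a * x = x * L256.a → L256.b * x = x * L256.b → L256.p * x = x * L256.p →
      L256.q * x = x * L256.q → x = 1 ∨ x = L256.z := by decide +kernel
  have two : IsPGroup 2 L256.E := IsPGroup.of_card (n := 8) L256.card
  rw [← MonoidHom.ker_eq_bot_iff]
  by_contra hk
  have := inf_centralizer_ne_bot (two.to_subgroup l.ker) (two.to_subgroup ⊤)
    (normal_iff_top_le_normalizer.1 inferInstance) hk
  obtain ⟨⟨x, hx, hc⟩, h1⟩ := ne_bot_iff_exists_ne_one.1 this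
  have c := fun y => mem_centralizer_iff_commute.1 hc y (mem_top y)
  rcases k x (c _) (c _) (c _) (c _) with rfl | rfl
  · exact h1 rfl
  · exact h hx

theorem ex_v (hU : U ≤ V) (c4 : Nat.card U = 4) (c16 : Nat.card V = 16) (el : ∀ v ∈ V, v * v = 1)
    (eq : ∀ x ∈ V, x ∈ K ∨ x * s ∈ K) : ∃ v ∈ V, v ∈ K ∧ v ∉ U := by
  by_contra hc
  push Not at hc
  obtain ⟨v, hv, hvU⟩ := SetLike.not_le_iff_exists.1 fun e : V ≤ U => by
    have := card_le_of_le e; omega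
  have hn : v ∈ 𝐍(U) := norm_of_conj fun x hx => by
    rwa [comm_of_sq el hv (hU hx), mul_inv_cancel_right]
  have h2 : v * v ∈ U := el v hv ▸ one_mem U
  have := card_le_of_le (show V ≤ U ⊔ zpowers v from fun x hx => (mem_sup_zp hn h2).2 <|
    (eq x hx).imp (hc x hx) fun e => hc _ (mul_mem hx (inv_mem hv)) (by
      simpa only [mul_inv_rev, mul_assoc, mul_inv_cancel_left] using
        mul_mem e (inv_mem ((eq v hv).resolve_left fun f => hvU (hc v hv f)))))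
  rw [card_sup_zp hn h2 hvU] at this
  omega

theorem tb3 (b : TB3 S U A S₁ β m s) (h : Tr S U z u β) (ht : t ∈ S) (htU : t ∉ 𝐂(U)) (ht2 : t * t = 1)
    (hβ : t * β * t⁻¹ = β⁻¹) : ∃ l : L256.E →* G, Function.Injective l ∧ l.range = S ∧ l L256.z = z ∧
      l L256.y = z * u ∧ l L256.a ∈ S₁ ∧ l L256.b = β * l L256.a * β⁻¹ := by
  obtain ⟨t, ht, htU, ht2, hβ, e, he, e2, heA, hw⟩ := b.exists_e h ht htU ht2 hβ
  have k := b.kb
  have ts := b.comm_ts h ht hβ
  have back : ∀ x, t * (t * x * t⁻¹) * t⁻¹ = x := fun x => by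
    calc _ = t * t * x * (t * t)⁻¹ := by group
      _ = x := by rw [ht2]; group
  -- an involution fixed by `t`
  obtain ⟨e, he, e2, heA, te⟩ : ∃ e ∈ S₁, e * e = 1 ∧ e ∉ A ∧ t * e * t⁻¹ = e := by
    have he' := conj_mem_of_mem_normalizer b.n1 he
    have ext : t * e * t⁻¹ = t * e * t⁻¹ * e⁻¹ * e := by group
    have h1 := k.conj_inv hβ (conj_mem_of_mem_normalizer (b.nrm1 ht) he) e2
    have c1 := b.nm1.comm he
    have e2' : β * e * β⁻¹ * (β * e * β⁻¹) = 1 := conj_sq e2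
    generalize t * e * t⁻¹ * e⁻¹ = w at hw ext
    have hw' := conj_mem_of_mem_normalizer h.nU hw
    rw [ext, show β * (w * e) * β⁻¹ = β * w * β⁻¹ * (β * e * β⁻¹) by group] at h1
    generalize β * w * β⁻¹ = w' at *
    generalize β * e * β⁻¹ = e' at *
    have h2 : t * e' * t⁻¹ = w * w' * e * e' := by
      rw [h1, mul_assoc w e, ← mul_assoc e, ← (k.cen he hw').eq]; group
    have hv := mul_mem hw hw'
    generalize w * w' = v at *
    have h3 : t * e' * t⁻¹ * e' = v * e := by rw [h2, mul_assoc, e2', mul_one]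
    have h4 : e' * (t * e' * t⁻¹) = v * e := by
      calc _ = e' * v * (e * e') := by rw [h2]; group
        _ = v * (e' * e') * e := by rw [← (k.cen he' hv).eq, c1]; group
        _ = _ := by rw [e2', mul_one]
    refine ⟨v * e, mul_mem (k.sub hv) he, ?_, fun x => heA ((mul_mem_cancel_left (b.sub hv)).1 x), ?_⟩
    · rw [mul_assoc, ← mul_assoc e, ← (k.cen he hv).eq, mul_assoc, e2, mul_one, h.toSt.sqU hv]
    · conv_lhs => rw [← h4]
      rw [← h3]
      calc _ = t * e' * t⁻¹ * (t * (t * e' * t⁻¹) * t⁻¹) := by group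
        _ = _ := by rw [back]
  have st : s * t = t * s := (conj_eq_iff.1 ts).symm
  have hf := conj_mem_of_mem_normalizer (b.nrm1 b.mem0.1) he
  have τe : t * s * e * (t * s)⁻¹ = s * e * s⁻¹ := by
    rw [← st]
    calc _ = s * (t * e * t⁻¹) * s⁻¹ := by group
      _ = _ := by rw [te]
  have tf : t * (s * e * s⁻¹) * t⁻¹ = s * e * s⁻¹ := by rw [← τe]; nth_rw 1 [τe]; group
  have c : e * (s * e * s⁻¹) * e⁻¹ * (s * e * s⁻¹)⁻¹ = z := by
    refine (h.toSt.fix_cases ht htU (k.cm h he hf) ?_).resolve_left fun c => ?_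
    · calc _ = t * e * t⁻¹ * (t * (s * e * s⁻¹) * t⁻¹) * (t * e * t⁻¹)⁻¹ *
          (t * (s * e * s⁻¹) * t⁻¹)⁻¹ := by group
        _ = _ := by rw [te, tf]
    · obtain ⟨c1, c2⟩ := b.cm e he heA
      refine heA (b.cent1 _ c1 c2 e he ?_)
      rw [mul_inv_eq_one, mul_inv_eq_iff_eq_mul] at c
      rw [← mul_assoc, c]; group
  have sβ : s * β = β * s := (conj_eq_iff.1 b.fix).symm
  have r := k.hs h he hf e2 (conj_sq e2) c
  have t1 := k.conj_inv hβ (te.symm ▸ he) e2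
  have t2 := k.conj_inv hβ (tf.symm ▸ hf) (conj_sq (g := s) e2)
  have s1 : s * (β * e * β⁻¹) * s⁻¹ = β * (s * e * s⁻¹) * β⁻¹ := by
    calc _ = s * β * e * (s * β)⁻¹ := by group
      _ = _ := by rw [sβ]; group
  rw [te] at t1
  rw [tf] at t2
  have zu : z * (z * u) = u := by rw [← mul_assoc, r.zz, one_mul]
  have zz := (Commute.refl z).mul_right r.uz.symm
  obtain ⟨l, la, lb, lc, ld, lz, ly, lp, lq⟩ := L256.model (G := G) (a' := e) (b' := β * e * β⁻¹)
    (c' := s * e * s⁻¹) (d' := β * (s * e * s⁻¹) * β⁻¹) (z' := z) (y' := z * u) (p' := t) (q' := s)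
    ⟨r.ee, r.ee', r.ff, r.ff', r.zz, by rw [mul_assoc, ← mul_assoc u, r.uz.eq, mul_assoc, r.uu, mul_one, r.zz],
      r.ce.symm, r.cf.symm, r.ef, r.ef', r.e'f, zu.symm ▸ r.e'f', zz.eq, r.ze.eq, r.ze'.eq, r.zf.eq, r.zf'.eq,
      (r.ze.mul_left r.ue).eq, (r.ze'.mul_left r.ue').eq, (r.zf.mul_left r.uf).eq, (r.zf'.mul_left r.uf').eq,
      ht2, by rwa [inv_self ht2] at te, by rwa [inv_self ht2] at t1, by rwa [inv_self ht2] at tf,
      by rwa [inv_self ht2] at t2, b.sq, by rw [inv_self b.sq], by rw [← s1, inv_self b.sq], st.symm⟩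
  have hi := inj (lz.symm ▸ h.toSt.z_ne : l L256.z ≠ 1)
  have mm := fun x (hx : x ∈ S₁) => (b.le0 hx).1
  have hle : l.range ≤ S := by
    rw [MonoidHom.range_eq_map, map_le_iff_le_comap, top_le_iff]
    exact L256.eq_top (mem_comap.2 (la ▸ mm _ he)) (mem_comap.2 (lb ▸ mm _ (conj_mem_of_mem_normalizer b.n1 he)))
      (mem_comap.2 (lc ▸ mm _ hf)) (mem_comap.2 (ld ▸ mm _ (conj_mem_of_mem_normalizer b.n1 hf)))
      (mem_comap.2 (lz ▸ h.toSt.z_mem)) (mem_comap.2 (ly ▸ mul_mem h.toSt.z_mem h.toSt.u_mem))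
      (mem_comap.2 (lp ▸ ht)) (mem_comap.2 (lq ▸ b.mem0.1))
  have hn := b.nrm1 b.mem0.1
  have h0 : Nat.card (S ⊓ 𝐂(U) : Subgroup G) ≤ 128 := by
    have : S ⊓ 𝐂(U) ≤ S₁ ⊔ zpowers s := fun x hx =>
      (mem_sup_zp hn (b.sq ▸ one_mem _)).2 (by rw [inv_self b.sq]; exact b.eq x hx)
    have := card_le_of_le this
    rwa [card_sup_zp hn (b.sq ▸ one_mem _) b.not1, b.card1] at this
  refine ⟨l, hi, eq_of_le_of_card_ge hle ?_, lz, ly, la ▸ he, by rw [la, lb]⟩
  rw [← Nat.card_congr (MonoidHom.ofInjective hi).toEquiv, L256.card]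
  rcases h.toSt.card_le2 with e | e <;> omega

theorem fa (b : TB3 S U A S₁ β m s) (h : Tr S U z u β) {l : L256.E →* G} (hi : Function.Injective l)
    (hr : l.range = S) (lz : l L256.z = z) (ly : l L256.y = z * u) (la : l L256.a ∈ S₁) {v : G} (hv : v ∈ S₁)
    (hU : v ∉ U) (v2 : v * v = 1) : IsConj v (l L256.a) ∨ IsConj v (l L256.b) := by
  have k : ∀ w : L256.E, w * w = 1 → L256.y * w = w * L256.y → w * L256.a * w⁻¹ * L256.a⁻¹ ∈
      [1, L256.z, L256.y, L256.z * L256.y] → (w = 1 ∨ w = L256.z ∨ w = L256.y ∨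
      w = L256.z * L256.y) ∨ ∃ k, k * w * k⁻¹ = L256.a ∨ k * w * k⁻¹ = L256.b := by
    decide +kernel
  have zu : z * (z * u) = u := by rw [← mul_assoc, h.four.aa, one_mul]
  have mU : ∀ x, l x ∈ U ↔ x = 1 ∨ x = L256.z ∨ x = L256.y ∨ x = L256.z * L256.y := fun x => by
    rw [h.four.mem_iff, ← hi.eq_iff, ← hi.eq_iff, ← hi.eq_iff (b := L256.y), ← hi.eq_iff (b := _ * _), map_one,
      map_mul, lz, ly, zu]
    tauto
  obtain ⟨w, rfl⟩ := hr.ge (b.le0 hv).1
  rcases k w (hi (by rw [map_mul, v2, map_one])) (hi (by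
    rw [map_mul, map_mul, ly]; exact (b.kb.cen hv h.four.mem_mul).eq)) (by
      simp only [List.mem_cons, List.not_mem_nil, or_false]
      rw [← mU, map_mul, map_mul, map_mul, map_inv, map_inv]; exact b.kb.cm h hv la) with e | ⟨k, e⟩
  · exact absurd ((mU w).2 e) hU
  · exact e.imp (fun e => isConj_iff.2 ⟨l k, by rw [← e, map_mul, map_mul, map_inv]⟩)
      fun e => isConj_iff.2 ⟨l k, by rw [← e, map_mul, map_mul, map_inv]⟩

end H83.G2.NE

namespace H83.G2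
open Subgroup Cfsg H69 H45 Gold H31.X32 H31.X32.SD H83.R4

/-- all normal elementary subgroups of `S` lie in a four-subgroup of `V` -/
theorem Gl.ne {G : Type*} [Group G] [Finite G] (g : Gl G) {S V Z : Subgroup G} (hS : IsSylowIn 2 S ⊤)
    (hV : V ≤ S) (el : ∀ v ∈ V, v * v = 1) (c16 : Nat.card V = 16) (hZ : Z ≤ V) (c4 : Nat.card Z ≤ 4)
    (fus : ∀ v ∈ V, ∀ w ∈ V, v ≠ 1 → w ≠ 1 → IsConj v w)
    (hn : ∀ A : Subgroup G, A ≤ S → S ≤ 𝐍(A) → (∀ a ∈ A, a * a = 1) → A ≤ Z) :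
    ∃ m : L256.E →* G, N8 m := by
  have := g.simple
  have f : NE8.Fu G := NE8.Fu.of_simple fun e => by
    have := card_le_card_group V; omega
  obtain ⟨U, h1, h2, h3⟩ := NE8.exists_four hS.isP hV el (by omega)
  obtain ⟨z, u, h⟩ := NE8.exists_st hS.isP (fun A a b c => (card_le_of_le (hn A a b c)).trans c4) h1 h2 h3
  have hU : U ≤ V := (hn U h1 h2 fun _ => h.sqU).trans hZ
  have hV0 : V ≤ S ⊓ 𝐂(U) := le_inf hV fun v hv => mem_centralizer_iff_commute.2 fun x hx =>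
    NE8.comm_of_sq el (hU hx) hv
  have ex := fun {K : Subgroup G} {s : G} (e : ∀ x ∈ S ⊓ 𝐂(U), x ∈ K ∨ x * s ∈ K) =>
    NE.ex_v hU h3.card_four c16 el fun x hx => e x (hV0 hx)
  obtain ⟨e, he, -, heU⟩ := ex (K := ⊤) (s := 1) fun _ _ => .inl trivial
  obtain ⟨β, tr⟩ := h.exists_tr' hS (fus _ (hU h.four.mem_left) _ (hU h.four.mem_right) h.z_ne h.u_ne)
    (hV0 he) (el e he) heU
  rcases tr.tri with h0 | a | ⟨A, M, m, n, b, hM⟩ | ⟨A, M, m, s, n, b⟩ | ⟨A, S₁, m, s, b⟩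
  · exact absurd (h0 ▸ hV0 he) heU
  · by_cases hc : S ≤ 𝐂(U)
    · exact absurd (h.e8 (hV he) (hV0 he).2 (el e he) fun s hs =>
        NE8.comm_mem_of_sq (inf_le_left.trans h.nrm) a.sq ⟨hs, hc hs⟩ (hV0 he)) heU
    · obtain ⟨i⟩ := a.t7 tr hc (hV0 he) (el e he) heU
      have hr : (S.subtype.comp i.toMonoidHom).range = S := by
        rw [MonoidHom.range_comp, MonoidHom.range_eq_top.2 i.surjective, map_subtype_top]
      have y : H13.JT.Sy (S.subtype.comp i.toMonoidHom) ⊤ :=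
        ⟨S.subtype_injective.comp i.injective, hr.symm ▸ hS⟩
      generalize S.subtype.comp i.toMonoidHom = ι at hr y
      obtain ⟨k, hk, c⟩ := y.exists_h f.idx
      obtain ⟨θ, t⟩ := (y.mono H13.JT.Sy.range_cent le_top).exists_th le_rfl hk c
      obtain ⟨P, hP⟩ := y.syl.exists_sylow_top
      have := Fact.mk Nat.prime_two
      refine absurd (g.sol _ ⟨orderOf_eq_prime (by rw [pow_two, ← map_mul, H13.JT.T7.z_sq, map_one])
        (y.ne (by decide)), P, hP.ge ⟨_, rfl⟩, fun x hx => ?_⟩) t.not_solv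
      obtain ⟨x, rfl⟩ := hP.le hx
      rw [← map_mul, ← map_mul, H13.JT.T7.z_comm]
  · exact absurd (b.om h (hM ▸ hV0 he) (el e he)) heU
  · obtain ⟨v, hv, h4, h5⟩ := ex b.eq
    exact absurd (b.toTB.om h h4 (el v hv)) h5
  · obtain ⟨t, ht, htU, hβ⟩ := tr.exists_t b.cube (b.central tr f hS)
    rcases b.uniq _ ⟨mul_mem ht ht, h.sq_mem0 ht⟩ (NE8.conj_eq_iff.2 (NE8.conj_eq_iff.1 (by
      calc t * t * β * (t * t)⁻¹ = t * (t * β * t⁻¹) * t⁻¹ := by group
        _ = t * β⁻¹ * t⁻¹ := by rw [hβ]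
        _ = (t * β * t⁻¹)⁻¹ := by group
        _ = β := by rw [hβ, inv_inv])).symm) with t2 | t2
    · obtain ⟨l, hi, hr, lz, ly, la, lb⟩ := NE.tb3 b tr ht htU t2 hβ
      obtain ⟨v, hv, h4, h5⟩ := ex b.eq
      have c1 : IsConj (l L256.z) v := lz ▸ fus _ (hU h.four.mem_left) v hv h.z_ne fun e => h5 (e ▸ one_mem U)
      have c2 : IsConj (l L256.a) (l L256.b) := isConj_iff.2 ⟨β, lb.symm⟩
      have c3 : IsConj (l L256.z) (l L256.a) :=
        (NE.fa b tr hi hr lz ly la h4 h5 (el v hv)).elim c1.trans fun c => (c1.trans c).trans c2.symm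
      refine ⟨l, hi, hr.symm ▸ hS, ⟨β⁻¹, ?_, ?_⟩, c3, c3.trans c2⟩
      · rw [inv_inv, lz, ly, b.kb.inv_z tr]
      · rw [map_mul, lz, ly, ← mul_assoc z, h.four.aa, one_mul, ← tr.ru]; group
    · exact (b.z4 tr f hS ht htU t2).elim

end H83.G2
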