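import Cfsg.Agent.Lib.GH2.Def
import Cfsg.Agent.Lib.FGS83.R4I
import Cfsg.Agent.S3103

/-! GH2, package YA -/

set_option autoImplicit false

namespace H83.G2
open Subgroup Cfsg H69 H45 Gold H31.X32 H31.X32.SD H83.R4

variable {Y : Type*} [Group Y] [Finite Y] {z : Y}

namespace YA

omit [Finite Y] in
theorem exists_st (U W : Subgroup Y) [hU : U.Normal] [hW : W.Normal] :
    ∃ D : Subgroup Y, D.Normal ∧ ∀ x, x ∈ D ↔ ∀ q ∈ U, x * q * x⁻¹ * q⁻¹ ∈ W := by
  refine ⟨{ carrier := {x | ∀ q ∈ U, x * q * x⁻¹ * q⁻¹ ∈ W}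
            one_mem' := fun q _ => by simp
            mul_mem' := fun {x y} hx hy q hq => ?_
            inv_mem' := fun {x} hx q hq => ?_ }, ⟨fun x hx g q hq => ?_⟩, fun x => Iff.rfl⟩
  · have := mul_mem (hW.conj_mem _ (hy q hq) x) (hx q hq)
    convert this using 1; group
  · have := hW.conj_mem _ (inv_mem (hx q hq)) x⁻¹
    convert this using 1; group
  · have := hW.conj_mem _ (hx _ (hU.conj_mem _ hq g⁻¹)) g
    convert this using 1; group

theorem stab {L : Subgroup Y} {γ : Y} (ho : Odd (orderOf γ)) (hL : IsPGroup 2 L)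
    (hc : ∀ q ∈ L, γ * q * γ⁻¹ = q) {x : Y} (h : γ * x * γ⁻¹ * x⁻¹ ∈ L) : γ * x * γ⁻¹ = x := by
  have key : ∀ k : ℕ, γ ^ k * x * (γ ^ k)⁻¹ = (γ * x * γ⁻¹ * x⁻¹) ^ k * x := by
    intro k
    induction k with
    | zero => simp
    | succ k ih =>
      calc γ ^ (k + 1) * x * (γ ^ (k + 1))⁻¹ = γ * (γ ^ k * x * (γ ^ k)⁻¹) * γ⁻¹ := by group
        _ = γ * (γ * x * γ⁻¹ * x⁻¹) ^ k * γ⁻¹ * (γ * x * γ⁻¹ * x⁻¹) * x := by rw [ih]; group
        _ = _ := by rw [hc _ (pow_mem h k), ← pow_succ]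
  have h1 := key (orderOf γ)
  rw [pow_orderOf_eq_one, one_mul, inv_one, mul_one, right_eq_mul] at h1
  obtain ⟨j, hj⟩ := hL ⟨_, h⟩
  have hj' : (γ * x * γ⁻¹ * x⁻¹) ^ 2 ^ j = 1 := congrArg Subtype.val hj
  have := Nat.dvd_gcd (orderOf_dvd_of_pow_eq_one hj') (orderOf_dvd_of_pow_eq_one h1)
  rw [(Nat.Coprime.pow_left j ((Nat.coprime_two_left).2 ho)).gcd_eq_one] at this
  exact mul_inv_eq_one.1 (orderOf_eq_one_iff.1 (Nat.dvd_one.1 this))

omit [Finite Y] in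
theorem cent_of_cyclic {N : Subgroup Y} [N.Normal] (hN : IsCyclic N) {x : Y}
    (hx : x ∈ commutator Y) : x ∈ centralizer (N : Set Y) := by
  have hc : ∀ a b : MulAut N, a * b = b * a := fun a b => by
    obtain ⟨g, hg⟩ := hN.exists_generator
    obtain ⟨i, hi⟩ := hg (a g)
    obtain ⟨j, hj⟩ := hg (b g)
    ext y
    obtain ⟨k, rfl⟩ := hg y
    simp only [MulAut.mul_apply, map_zpow, ← hi, ← hj]
    rw [← zpow_mul g i j, ← zpow_mul g j i, mul_comm]
  have h1 : commutator Y ≤ (MulAut.conjNormal (H := N)).ker := by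
    rw [commutator_def, commutator_le]
    intro a _ b _
    rw [MonoidHom.mem_ker, map_commutatorElement, commutatorElement_eq_one_iff_mul_comm]
    exact hc _ _
  intro q hq
  have h2 := congrArg Subtype.val (MulEquiv.congr_fun (h1 hx) ⟨q, hq⟩)
  rw [MulAut.conjNormal_apply] at h2
  exact (mul_inv_eq_iff_eq_mul.1 h2).symm

theorem a8_aux {H : Type*} [Group H] [Finite H] [Group.IsSolvable H] (h2 : pCore 2 H = ⊥)
    (hd : Nat.card H ∣ 20160) {x : H} (hx : x ∈ commutator H) (hxx : x * x = 1) (h1 : x ≠ 1) :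
    9 ∣ Nat.card H ∧ ∀ ρ : H, (∃ k, ρ ^ 3 ^ k = 1) → ∀ g, (g * ρ * g⁻¹ * ρ⁻¹) ^ 3 = 1 := by
  haveI : Fact (Nat.Prime 2) := ⟨Nat.prime_two⟩
  haveI : Fact (Nat.Prime 3) := ⟨Nat.prime_three⟩
  have hnc : ¬ IsCyclic (pCore 3 H) := by
    intro h3
    have hall : ∀ p : Nat.Primes, IsCyclic (pCore (p : ℕ) H) := by
      rintro ⟨p, hp⟩
      haveI := Fact.mk hp
      by_cases e2 : p = 2
      · subst e2
        show IsCyclic (pCore 2 H)
        rw [h2]; infer_instance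
      by_cases e3 : p = 3
      · subst e3; exact h3
      obtain ⟨k, hk⟩ := (H1.isPGroup_pCore (p := p) (G := H)).exists_card_eq
      have hk1 : k ≤ 1 := by
        by_contra hk1
        have h4 : p ^ 2 ∣ 2 ^ 6 * (3 ^ 2 * 35) :=
          (pow_dvd_pow p (by omega)).trans (hk ▸ (card_subgroup_dvd_card _).trans hd)
        have c2 : Nat.Coprime (p ^ 2) (2 ^ 6) :=
          Nat.Coprime.pow _ _ ((Nat.coprime_primes hp Nat.prime_two).2 e2)
        have c3 : Nat.Coprime (p ^ 2) (3 ^ 2) :=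
          Nat.Coprime.pow _ _ ((Nat.coprime_primes hp Nat.prime_three).2 e3)
        have h5 := c3.dvd_of_dvd_mul_left (c2.dvd_of_dvd_mul_left h4)
        have h6 := Nat.le_of_dvd (by norm_num) h5
        have h7 : p < 6 := by nlinarith
        have h8 := hp.two_le
        interval_cases p <;> omega
      show IsCyclic (pCore p H)
      rcases Nat.le_one_iff_eq_zero_or_eq_one.1 hk1 with rfl | rfl
      · haveI := (Nat.card_eq_one_iff_unique.1 (hk.trans (pow_zero p))).1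
        infer_instance
      · exact isCyclic_of_prime_card (hk.trans (pow_one p))
    have hF : x ∈ fittingSubgroup H := by
      refine H1.centralizer_fitting_le ?_
      have : fittingSubgroup H ≤ centralizer {x} := by
        rw [H1.fitting_eq_iSup_pCore]
        exact iSup_le fun p q hq =>
          mem_centralizer_singleton_iff.2 (cent_of_cyclic (hall p) hx q hq)
      exact fun q hq => mem_centralizer_singleton_iff.1 (this hq)
    have hz : IsPGroup 2 (zpowers x) := IsPGroup.of_card (n := 1) (by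
      rw [Nat.card_zpowers, orderOf_eq_prime (by rw [pow_two, hxx]) h1, pow_one])
    have := H1.le_pCore_of_le_fitting hz (zpowers_le.2 hF) (mem_zpowers x)
    rw [h2] at this
    exact h1 this
  have h9 : ∀ P : Subgroup H, IsPGroup 3 P → Nat.card P ∣ 9 := fun P hP => by
    obtain ⟨k, hk⟩ := hP.exists_card_eq
    have h4 : 3 ^ k ∣ 9 * 2240 := hk ▸ (card_subgroup_dvd_card _).trans hd
    rw [hk]
    exact (Nat.Coprime.pow_left k (by norm_num)).dvd_of_dvd_mul_right h4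
  have hc9 : Nat.card (pCore 3 H) = 9 := by
    obtain ⟨i, hi, hc⟩ := (Nat.dvd_prime_pow Nat.prime_three (m := 2)).1 (h9 _ H1.isPGroup_pCore)
    interval_cases i
    · haveI := (Nat.card_eq_one_iff_unique.1 hc).1
      exact (hnc inferInstance).elim
    · exact absurd (isCyclic_of_prime_card (hc.trans (pow_one 3))) hnc
    · exact hc
  refine ⟨hc9 ▸ card_subgroup_dvd_card _, fun ρ ⟨k, hk⟩ g => ?_⟩
  have hρ : ρ ∈ pCore 3 H := by
    have hz : IsPGroup 3 (zpowers ρ) := by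
      rintro ⟨_, i, rfl⟩
      refine ⟨k, Subtype.ext ?_⟩
      show (ρ ^ i) ^ 3 ^ k = 1
      rw [← zpow_natCast, ← zpow_mul, mul_comm, zpow_mul, zpow_natCast, hk, one_zpow]
    obtain ⟨S, hS⟩ := hz.exists_le_sylow
    have he := eq_of_le_of_card_ge (H1.pCore_le_sylow S)
      (hc9 ▸ Nat.le_of_dvd (by norm_num) (h9 _ S.2))
    exact he ▸ hS (mem_zpowers ρ)
  have hm : g * ρ * g⁻¹ * ρ⁻¹ ∈ pCore 3 H :=
    mul_mem ((inferInstance : (pCore 3 H).Normal).conj_mem _ hρ g) (inv_mem hρ)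
  have ho : orderOf (⟨_, hm⟩ : pCore 3 H) ∣ 3 ^ 2 :=
    (_root_.orderOf_dvd_natCard _).trans (by rw [hc9]; norm_num)
  obtain ⟨i, hi, hc⟩ := (Nat.dvd_prime_pow Nat.prime_three).1 ho
  have hi2 : i ≠ 2 := fun e => hnc (isCyclic_of_orderOf_eq_card _ (by rw [hc, e, hc9]; norm_num))
  have : orderOf (⟨_, hm⟩ : pCore 3 H) ∣ 3 := by
    rw [hc]
    exact (pow_dvd_pow 3 (show i ≤ 1 by omega)).trans (by norm_num)
  exact congrArg Subtype.val (orderOf_dvd_iff_pow_eq_one.1 this)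

end YA

namespace Ys
variable (h : Ys z)
include h

theorem cen : 𝐂(pCore 2 Y) ≤ pCore 2 Y := by
  haveI := h.sol
  haveI : Fact (Nat.Prime 2) := ⟨Nat.prime_two⟩
  exact H1.centralizer_pCore_le_of_isSolvable (H13.TG.pPrimeCore_two_eq_bot h.core)

theorem zQ : z ∈ pCore 2 Y := h.cen fun g _ => h.cz g

/-- an element stabilizing a normal series of `O₂` lies in `O₂` -/
theorem ch {A B C : Subgroup Y} [A.Normal] [B.Normal] [C.Normal] {x : Y}
    (h1 : ∀ q ∈ pCore 2 Y, x * q * x⁻¹ * q⁻¹ ∈ A) (h2 : ∀ q ∈ A, x * q * x⁻¹ * q⁻¹ ∈ B)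
    (h3 : ∀ q ∈ B, x * q * x⁻¹ * q⁻¹ ∈ C) (h4 : ∀ q ∈ C, x * q = q * x) : x ∈ pCore 2 Y := by
  obtain ⟨D1, n1, d1⟩ := YA.exists_st (pCore 2 Y) A
  obtain ⟨D2, n2, d2⟩ := YA.exists_st A B
  obtain ⟨D3, n3, d3⟩ := YA.exists_st B C
  obtain ⟨D4, n4, d4⟩ := YA.exists_st C ⊥
  have hQ : IsPGroup 2 (pCore 2 Y) := H1.isPGroup_pCore
  have nQ : (pCore 2 Y).Normal := inferInstance
  have hD : IsPGroup 2 (D1 ⊓ D2 ⊓ D3 ⊓ D4 : Subgroup Y) := by
    rintro ⟨y, hy⟩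
    obtain ⟨k, m, hm, hkm⟩ := Nat.exists_eq_two_pow_mul_odd (orderOf_pos y).ne'
    obtain ⟨⟨⟨g1, g2⟩, g3⟩, g4⟩ := pow_mem hy (2 ^ k)
    set γ := y ^ 2 ^ k with hγ
    have ho : Odd (orderOf γ) := hm.of_dvd_nat (orderOf_dvd_of_pow_eq_one (by
      rw [hγ, ← pow_mul, ← hkm, pow_orderOf_eq_one]))
    have cq : ∀ q ∈ pCore 2 Y, γ * q * γ⁻¹ * q⁻¹ ∈ pCore 2 Y := fun q hq =>
      mul_mem (nQ.conj_mem _ hq γ) (inv_mem hq)
    have c4 : ∀ q ∈ C ⊓ pCore 2 Y, γ * q * γ⁻¹ = q := fun q hq =>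
      mul_inv_eq_one.1 ((d4 γ).1 g4 q hq.1)
    have c3 : ∀ q ∈ B ⊓ pCore 2 Y, γ * q * γ⁻¹ = q := fun q hq =>
      YA.stab ho hQ.to_inf_right c4 ⟨(d3 γ).1 g3 q hq.1, cq q hq.2⟩
    have c2 : ∀ q ∈ A ⊓ pCore 2 Y, γ * q * γ⁻¹ = q := fun q hq =>
      YA.stab ho hQ.to_inf_right c3 ⟨(d2 γ).1 g2 q hq.1, cq q hq.2⟩
    have c1 : ∀ q ∈ pCore 2 Y, γ * q * γ⁻¹ = q := fun q hq =>
      YA.stab ho hQ.to_inf_right c2 ⟨(d1 γ).1 g1 q hq, cq q hq⟩
    obtain ⟨j, hj⟩ := hQ ⟨γ, h.cen fun q hq => (mul_inv_eq_iff_eq_mul.1 (c1 q hq)).symm⟩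
    refine ⟨k + j, Subtype.ext ?_⟩
    show y ^ 2 ^ (k + j) = 1
    rw [pow_add, pow_mul]
    exact congrArg Subtype.val hj
  exact H1.le_pCore hD ⟨⟨⟨(d1 x).2 h1, (d2 x).2 h2⟩, (d3 x).2 h3⟩, (d4 x).2 fun q hq => by
    rw [h4 q hq]; simp⟩

omit [Finite Y] in
theorem zn : (zpowers z).Normal := ⟨by
  rintro _ ⟨i, rfl⟩ g
  have : Commute g z := h.cz g
  rw [(this.zpow_right i).eq, mul_inv_cancel_right]
  exact ⟨i, rfl⟩⟩

omit [Finite Y] in
theorem zc {q : Y} (hq : q ∈ zpowers z) (x : Y) : x * q = q * x := by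
  obtain ⟨i, rfl⟩ := hq
  exact ((show Commute x z from h.cz x).zpow_right i).eq

/-- the special case of the series `O₂ ≥ ⟨z⟩ ≥ 1` -/
theorem chz {x : Y} (h1 : ∀ q ∈ pCore 2 Y, x * q = q * x ∨ x * q = q * x * z) : x ∈ pCore 2 Y := by
  haveI := h.zn
  refine h.ch (A := zpowers z) (B := ⊥) (C := ⊥) (fun q hq => ?_) (fun q hq => ?_)
    (fun q hq => ?_) fun q hq => ?_
  · rcases h1 q hq with e | e
    · rw [e]; simp
    · rw [e, mul_assoc _ z, ← h.cz, mul_assoc _ _ q⁻¹, mul_assoc _ z, ← h.cz]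
      simp
  · rw [h.zc hq x]; simp
  · rw [mem_bot.1 hq]; simp
  · rw [mem_bot.1 hq]; simp

/-- a normal extraspecial subgroup which is self-centralizing in `O₂` -/
theorem wf {P : Subgroup Y} [P.Normal] (e : H95.ES P z)
    (hc : ∀ g ∈ pCore 2 Y, (∀ x ∈ P, x * g = g * x) → g = 1 ∨ g = z) : H95.L3 P z := by
  have nP : P.Normal := inferInstance
  have nQ : (pCore 2 Y).Normal := inferInstance
  refine ⟨e, fun g hg => hc g (h.chz fun q hq => ?_) hg, fun g _ => by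
    rw [normalizer_eq_top]; trivial⟩
  have h1 : g⁻¹ * q⁻¹ * g⁻¹⁻¹ * q ∈ pCore 2 Y := mul_mem (nQ.conj_mem _ (inv_mem hq) _) hq
  rcases hc _ h1 (fun x hx => by
    have a1 := hg x hx
    have a2 := hg _ (nP.conj_mem _ hx q)
    calc x * (g⁻¹ * q⁻¹ * g⁻¹⁻¹ * q) = g⁻¹ * (g * x) * g⁻¹ * q⁻¹ * g * q := by group
      _ = g⁻¹ * q⁻¹ * (q * x * q⁻¹ * g) * q := by rw [← a1]; group
      _ = _ := by rw [a2]; group) with e1 | e1
  · left
    calc g * q = q * g * (g⁻¹ * q⁻¹ * g⁻¹⁻¹ * q) := by group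
      _ = _ := by rw [e1, mul_one]
  · right
    calc g * q = q * g * (g⁻¹ * q⁻¹ * g⁻¹⁻¹ * q) := by group
      _ = _ := by rw [e1]

/-- a commutator of 2-power order outside `O₂` forces a normal subgroup of order nine above `O₂` -/
theorem a8 {x : Y} (hx : x ∈ commutator Y) (h2 : x * x ∈ pCore 2 Y) (hQ : x ∉ pCore 2 Y) :
    9 ∣ Nat.card Y ∧ ∀ ρ : Y, (∃ k, ρ ^ 3 ^ k = 1) → ∀ g, (g * ρ * g⁻¹ * ρ⁻¹) ^ 3 ∈ pCore 2 Y := by
  haveI := h.sol
  obtain ⟨f, hf⟩ := H13.TG.exists_hom_A8 h.cen (h.sr.subgroup _)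
  have hd : Nat.card (Y ⧸ pCore 2 Y) ∣ 20160 := by
    rw [← hf, Nat.card_congr (QuotientGroup.quotientKerEquivRange f).toEquiv]
    refine (card_subgroup_dvd_card _).trans (dvd_of_eq ?_)
    have := two_mul_nat_card_alternatingGroup (α := Fin 8)
    rw [Nat.card_perm, Nat.card_fin, show Nat.factorial 8 = 40320 by decide] at this
    omega
  obtain ⟨h9, h3⟩ := YA.a8_aux H1.pCore_quotient_pCore hd (x := (x : Y ⧸ pCore 2 Y)) (by
      have := mem_map_of_mem (QuotientGroup.mk' (pCore 2 Y)) hx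
      rw [commutator_def, map_commutator] at this
      exact commutator_mono le_top le_top this)
    (by rw [← QuotientGroup.mk_mul, QuotientGroup.eq_one_iff]; exact h2)
    (by rwa [Ne, QuotientGroup.eq_one_iff])
  refine ⟨h9.trans (card_quotient_dvd_card _), fun ρ ⟨k, hk⟩ g => ?_⟩
  rw [← QuotientGroup.eq_one_iff]
  simpa using h3 ρ ⟨k, by rw [← QuotientGroup.mk_pow, hk, QuotientGroup.mk_one]⟩ g

/-- no group of order nine above a self-centralizing normal `E₁₆` -/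
theorem no9 (el : ∀ v ∈ pCore 2 Y, v * v = 1) (c16 : Nat.card (pCore 2 Y) = 16) : ¬ 9 ∣ Nat.card Y := by
  haveI := h.zn
  let π := QuotientGroup.mk' (zpowers z)
  haveI : ((pCore 2 Y).map π).Normal := Normal.map inferInstance π (QuotientGroup.mk'_surjective _)
  have hW : Nat.card ((pCore 2 Y).map π) = 8 := by
    have h1 := relIndex_ker (pCore 2 Y) π
    have h2 := card_mul_index ((zpowers z).subgroupOf (pCore 2 Y))
    rw [Nat.card_congr (subgroupOfEquivOfLe (zpowers_le.2 h.zQ)).toEquiv, Nat.card_zpowers,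
      orderOf_eq_prime (p := 2) (by rw [pow_two, h.z2]) h.z1, c16] at h2
    rw [QuotientGroup.ker_mk', relIndex] at h1
    omega
  obtain ⟨e⟩ := exists_equiv_E (W := (pCore 2 Y).map π) (by
    rintro ⟨_, v, hv, rfl⟩
    exact Subtype.ext (by rw [coe_mul, ← map_mul, el v hv, map_one]; rfl)) hW
  let ψ : Y →* MulAut ((pCore 2 Y).map π) := MulAut.conjNormal.comp π
  have hk : ψ.ker ≤ pCore 2 Y := fun x hx =>
    h.ch (A := zpowers z) (B := ⊥) (C := ⊥) (fun q hq => by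
      have h1 := congrArg Subtype.val (MulEquiv.congr_fun hx ⟨π q, q, hq, rfl⟩)
      rw [← QuotientGroup.eq_one_iff]
      exact mul_inv_eq_one.2 h1) (fun q hq => by rw [h.zc hq x]; simp)
      (fun q hq => by rw [mem_bot.1 hq]; simp) fun q hq => by rw [mem_bot.1 hq]; simp
  have h1 : ψ.ker.index ∣ 168 := by
    rw [index_ker, ← card_autE, Nat.card_congr (MulAut.congr e).toEquiv]
    exact card_subgroup_dvd_card _
  have h2 : Nat.card ψ.ker ∣ 16 := c16 ▸ card_dvd_of_le hk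
  intro h9
  have := h9.trans (ψ.ker.card_mul_index ▸ Nat.mul_dvd_mul h2 h1)
  omega

end Ys

end H83.G2
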